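import Cfsg.Agent.BlocksB.GaloisBound
import Cfsg.Agent.BlocksB.MajorValuation

/-!
# Totally positive algebraic integers of average one
-/

namespace CfsgLib.BlockStar

open Finset CfsgLib.BlockB
open scoped ComplexConjugate

set_option linter.style.haveILetI false

/-- Totally positive algebraic integers of a cyclotomic field with average one are all one. -/
theorem eq_one_of_totally_pos {N : ℕ} (hN : 0 < N) {ι : Type*} (s : Finset ι) (a : ι → ℂ)
    (hK : ∀ i ∈ s, a i ∈ cycloField N) (hint : ∀ i ∈ s, IsIntegral ℤ (a i))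
    (hpos : ∀ (i : ι) (hi : i ∈ s) (σ : cycloField N →ₐ[ℚ] ℂ),
      ∃ r : ℝ, 0 < r ∧ σ ⟨a i, hK i hi⟩ = (r : ℂ))
    (hsum : ∑ i ∈ s, a i = (s.card : ℂ)) : ∀ i ∈ s, a i = 1 := by
  classical
  haveI := finiteDimensional_cycloField hN
  choose r hr hre using fun (i : {i // i ∈ s}) σ => hpos i.1 i.2 σ
  have hσ : ∀ σ : cycloField N →ₐ[ℚ] ℂ, ∑ i ∈ s.attach, r i σ = (s.card : ℝ) := by
    intro σ
    apply Complex.ofReal_injective
    rw [Complex.ofReal_sum, Complex.ofReal_natCast]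
    simp only [← hre]
    rw [← map_sum, ← map_natCast σ]
    refine congrArg σ (Subtype.ext ?_)
    rw [AddSubmonoidClass.coe_finset_sum]
    exact (sum_attach s fun i => a i).trans hsum
  have hprod : ∀ i : {i // i ∈ s}, (1 : ℝ) ≤ ∏ σ : cycloField N →ₐ[ℚ] ℂ, r i σ := by
    intro i
    set x : cycloField N := ⟨a i, hK i i.2⟩
    have hn := Algebra.norm_eq_prod_embeddings ℚ ℂ x
    have hint' : ∀ σ : cycloField N →ₐ[ℚ] ℂ, IsIntegral ℤ (σ x) := fun σ =>
      ((isIntegral_algebraMap_iff (algebraMap (cycloField N) ℂ).injective).1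
        (hint i i.2) : IsIntegral ℤ x).map (σ.restrictScalars ℤ)
    obtain ⟨n, hn1, -⟩ := CfsgLib.Char.exists_int_of_isIntegral_rat (Algebra.norm ℚ x)
      (IsIntegral.prod _ fun σ _ => hint' σ) (hn.symm.trans (eq_ratCast _ _))
    have h1 : ((∏ σ : cycloField N →ₐ[ℚ] ℂ, r i σ : ℝ) : ℂ) = ((n : ℝ) : ℂ) := by
      rw [Complex.ofReal_prod, prod_congr rfl fun σ _ => (hre i σ).symm, Complex.ofReal_intCast]
      exact hn1
    rw [Complex.ofReal_inj] at h1
    have hp : (0 : ℝ) < n := h1 ▸ prod_pos fun σ _ => hr i σ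
    rw [h1]
    exact_mod_cast (Int.cast_pos.1 hp : 0 < n)
  have hlow : ∀ i : {i // i ∈ s}, (0 : ℝ) ≤ ∑ σ : cycloField N →ₐ[ℚ] ℂ, (r i σ - 1) := by
    intro i
    refine le_trans ?_ (sum_le_sum fun σ _ => Real.log_le_sub_one_of_pos (hr i σ))
    rw [← Real.log_prod fun σ _ => (hr i σ).ne']
    exact Real.log_nonneg (hprod i)
  have htot : ∑ i ∈ s.attach, ∑ σ : cycloField N →ₐ[ℚ] ℂ, (r i σ - 1) = 0 := by
    rw [sum_comm]
    simp only [sum_sub_distrib, hσ, sum_const, card_attach, nsmul_eq_mul, mul_one, sub_self, mul_zero]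
  have hzero := (sum_eq_zero_iff_of_nonneg fun i _ => hlow i).1 htot
  intro i hi
  set j : {i // i ∈ s} := ⟨i, hi⟩
  have hall : ∀ σ : cycloField N →ₐ[ℚ] ℂ, r j σ = 1 := by
    by_contra hne
    obtain ⟨σ0, hσ0⟩ := not_forall.1 hne
    have hlt : ∑ σ : cycloField N →ₐ[ℚ] ℂ, Real.log (r j σ) <
        ∑ σ : cycloField N →ₐ[ℚ] ℂ, (r j σ - 1) :=
      sum_lt_sum (fun σ _ => Real.log_le_sub_one_of_pos (hr j σ))
        ⟨σ0, mem_univ _, Real.log_lt_sub_one_of_pos (hr j σ0) hσ0⟩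
    rw [hzero j (mem_attach _ _), ← Real.log_prod fun σ _ => (hr j σ).ne'] at hlt
    exact (Real.log_nonneg (hprod j)).not_gt hlt
  have h := hre j (cycloField N).val
  exact h.trans (Complex.ofReal_eq_one.2 (hall _))

end CfsgLib.BlockStar
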