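import Cfsg.Agent.BlocksB.Star.HeightZero
import Cfsg.Agent.BlocksB.Star.Positive
import Cfsg.Agent.BrauerPairs.NilpotentBridge
import Cfsg.Agent.BrauerPairs.LocalBridge
import Cfsg.Agent.BlocksB.InducedDefect
import Cfsg.Agent.BlocksB.RankOne
import Cfsg.Agent.Blocks.Heights

/-!
# The characters of a nilpotent block
-/

set_option autoImplicit false
set_option linter.style.haveILetI false
set_option linter.unusedSectionVars false

namespace CfsgLib.BlockStar

open Cfsg Finset CfsgLib.Block CfsgLib.Block.Chr CfsgLib.BrauerPairs CfsgLib.Char CfsgLib.BlockB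
open scoped ComplexConjugate
open scoped Classical

universe u

variable {M : Ideal AlgInt} [M.IsPrime] {p : ℕ} [Fact p.Prime] [CharP (Residue M) p]
  {G : Type u} [Group G] [Fintype G]

local notation "𝕜" => Residue M
local notation "Z[" x "]" => Subgroup.zpowers x
local notation "C[" Q "]" => Subgroup.centralizer (SetLike.coe Q)

section general

variable {H : Subgroup G} [Fintype H] {y : G} {b : Set (IrrCharacter H)}

/-- The scaled contributions are algebraic integers of a cyclotomic field. -/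
theorem scaled_contrib_mem (hM : IsPModular p M) (hH : H = Subgroup.centralizer ({y} : Set G))
    {k : ℕ} (hy : orderOf y = p ^ k) (hb : IsPBlock M b) {a : ℕ} (ha : k ≤ a)
    (χ ψ : IrrCharacter G) :
    contrib p b y χ ψ ∈ cycloField (p ^ a) ∧
      IsIntegral ℤ ((p : ℂ) ^ blockDefect p b * contrib p b y χ ψ) := by
  letI := irrFintype (G := H)
  haveI : Fintype b := Fintype.ofFinite b
  choose L N hL _ _ hLN using fun φ (ξ : b) => exists_section_coeff hM hH hy φ ξ.1
  have hconjL : ∀ φ ξ, conj (L φ ξ) = (L φ ξ)⁻¹ := fun φ ξ =>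
    (Complex.inv_eq_conj (Complex.norm_eq_one_of_pow_eq_one (hL φ ξ) (pow_pos hM.1.pos k).ne')).symm
  have hformula : (p : ℂ) ^ blockDefect p b * contrib p b y χ ψ =
      ∑ ξ : b, ∑ ξ' : b, L χ ξ * (N χ ξ : ℂ) * ((L ψ ξ')⁻¹ * (N ψ ξ' : ℂ)) *
        (redInt p b ξ.1 ξ'.1 : ℂ) := by
    rw [contrib_eq_sum hM hb, mul_sum]
    refine sum_congr rfl fun ξ _ => ?_
    rw [mul_sum]
    refine sum_congr rfl fun ξ' _ => ?_
    rw [hLN, hLN, map_mul, hconjL, map_natCast, redInt_eq_regMat hM hb]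
    ring
  have hpk : 0 < p ^ k := pow_pos hM.1.pos k
  have hroot : ∀ φ ξ, L φ ξ ∈ cycloField (p ^ a) := fun φ ξ => root_mem_cycloField (by
    obtain ⟨c, hc⟩ := Nat.exists_eq_add_of_le ha
    rw [hc, pow_add, pow_mul, hL, one_pow])
  refine ⟨?_, ?_⟩
  · have hp0 : (p : ℂ) ^ blockDefect p b ≠ 0 := pow_ne_zero _ (Nat.cast_ne_zero.2 hM.1.ne_zero)
    rw [← inv_mul_cancel_left₀ hp0 (contrib p b y χ ψ), hformula]
    exact mul_mem (inv_mem (pow_mem (natCast_mem _ _) _)) (sum_mem fun ξ _ => sum_mem fun ξ' _ =>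
      mul_mem (mul_mem (mul_mem (hroot χ ξ) (natCast_mem _ _))
        (mul_mem (inv_mem (hroot ψ ξ')) (natCast_mem _ _))) (intCast_mem _ _))
  · rw [hformula]
    refine IsIntegral.sum _ fun ξ _ => IsIntegral.sum _ fun ξ' _ => ?_
    refine (((isIntegral_of_pow_eq_one hpk (hL χ ξ)).mul (isIntegral_natCast_complex _)).mul
      ((isIntegral_of_pow_eq_one hpk ?_).mul (isIntegral_natCast_complex _))).mul ?_
    · rw [inv_pow, hL, inv_one]
    · simpa using isIntegral_algebraMap (R := ℤ) (A := ℂ) (x := redInt p b ξ.1 ξ'.1)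

end general

/-- The block parts at subsections outside the block vanish. -/
theorem subPart_eq_zero_of_not_pair (hM : IsPModular p M) {B : Set (IrrCharacter G)}
    (hB : IsPBlock M B) {χ : IrrCharacter G} (hχ : χ ∈ B) {x : G} (hx : x ∈ pSet p G)
    {c : Set (IrrCharacter C[Z[x]])} (hc : IsPBlock M c)
    (h : ¬ IsPairOf p (idem M B) (Z[x], idemIn M C[Z[x]] c)) (s : C[Z[x]]) :
    subPart p c x χ s = 0 := by
  have hz : contrib p c x χ χ = 0 := by
    rw [← contribR_idemIn hM χ χ hx hc]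
    exact contribR_eq_zero hM hB (Or.inl hχ) hx (isBlk_idemIn hM hc) h
  rw [contrib, CfsgLib.Char.classInner_def, mul_eq_zero] at hz
  have hz' := hz.resolve_left (inv_ne_zero (Nat.cast_ne_zero.2 Nat.card_pos.ne'))
  simp only [Complex.mul_conj'] at hz'
  norm_cast at hz'
  rw [sum_eq_zero_iff_of_nonneg fun _ _ => sq_nonneg _] at hz'
  exact norm_eq_zero.1 ((pow_eq_zero_iff two_ne_zero).1 (hz' s (mem_univ s)))

/-- Where the weight is constant on the pairs of the block, the section function is a multiple. -/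
theorem starFun_eq_smul (hM : IsPModular p M) {B : Set (IrrCharacter G)} (hB : IsPBlock M B)
    {χ : IrrCharacter G} (hχ : χ ∈ B) (W : G → MonoidAlgebra 𝕜 G → ℂ) {x s : G} (h : PElt p x s)
    {c : ℂ} (hW : ∀ f, IsPairOf p (idem M B) (Z[x], f) → W x f = c) :
    starFun p W χ (x * s) = c * (χ : G → ℂ) (x * s) := by
  rw [starFun_eq W χ h rfl, ← wsum_const_one (M := M) hM χ h, wsum_one_eq hM W χ h,
    wsum_one_eq hM _ χ h, mul_sum]
  refine sum_congr rfl fun d hd => ?_
  by_cases hp : IsPairOf p (idem M B) (Z[x], idemIn M C[Z[x]] d)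
  · rw [hW _ hp, one_mul]
  · rw [subPart_eq_zero_of_not_pair hM hB hχ (mem_pSet.2 h.pow) (mem_blockFinset.1 hd) hp]
    simp

variable {B : Set (IrrCharacter G)} {P : Subgroup G} {e : MonoidAlgebra (Residue M) G}

/-- The scaled contribution of two characters at an element of the maximal pair. -/
noncomputable def aFun (p : ℕ) [Fact p.Prime] [CharP (Residue M) p] (P : Subgroup G)
    (e : MonoidAlgebra (Residue M) G) (χ ψ : IrrCharacter G) (u : G) : ℂ :=
  (Nat.card (P ⊓ C[Z[u]] : Subgroup G) : ℂ) * contribR p χ ψ u (subBlk p P e u)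

theorem inner_maps (hM : IsPModular p M) (hB : IsPBlock M B) (hnil : IsNil p (idem M B))
    (hmax : IsMaxPair p (idem M B) (P, e)) :
    IsInnerSystem (hmax.1.1 : IsPair p (P, e)) :=
  inner_of_isNil hmax.1.1 (isBlk_idem hM hB) hmax hnil fun R f h => isSplit_of_isPair hM R f h

theorem exists_conj_mem (hM : IsPModular p M) (hB : IsPBlock M B) (hnil : IsNil p (idem M B))
    (hmax : IsMaxPair p (idem M B) (P, e)) :
    ∀ u ∈ P, ∀ g, Carries p (P, e) Z[u] g → ∃ w ∈ P, g * u * g⁻¹ = w * u * w⁻¹ := by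
  intro u _ g hC
  obtain ⟨w, hw, hag⟩ := inner_maps hM hB hnil hmax Z[u] (conjHom Z[u] g) ⟨g, fun _ => rfl, hC⟩
  exact ⟨w, hw, hag ⟨u, Subgroup.mem_zpowers u⟩⟩

/-- The block below the maximal pair at `u` has defect group the centralizer in `P`. -/
theorem card_inf_centralizer (hM : IsPModular p M) (hB : IsPBlock M B)
    (hnil : IsNil p (idem M B)) (hmax : IsMaxPair p (idem M B) (P, e)) {u : G} (hu : u ∈ P)
    {c : Set (IrrCharacter C[Z[u]])} (hc : IsPBlock M c)
    (hcE : idemIn M C[Z[u]] c = subBlk p P e u) :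
    Nat.card (P ⊓ C[Z[u]] : Subgroup G) = p ^ blockDefect p c := by
  have hb := isBlk_idem hM hB
  have hP : IsPair p (P, e) := hmax.1.1
  have hle := subBlk_ple hP hu
  rw [← hcE] at hle
  have hfc : (blockSystem hP).IsFullyCentralized Z[u] := by
    refine ⟨Subgroup.zpowers_le.2 hu, fun R hR => le_of_eq ?_⟩
    obtain ⟨g, hg, rfl⟩ := (isConj_iff_carries hP).mp hR
    obtain ⟨s, hs, hag⟩ := inner_maps hM hB hnil hmax Z[u] (conjHom Z[u] g) ⟨g, fun _ => rfl, hg⟩
    have hmap : Z[u].map (MulAut.conj g).toMonoidHom = Z[u].map (MulAut.conj s).toMonoidHom := by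
      rw [MonoidHom.map_zpowers, MonoidHom.map_zpowers]
      exact congrArg Subgroup.zpowers (hag ⟨u, Subgroup.mem_zpowers u⟩)
    have hPs : P.map (MulAut.conj s).toMonoidHom = P := map_conj_eq_self (Subgroup.le_normalizer hs)
    rw [FusionSystem.centralizerIn, FusionSystem.centralizerIn, hmap, ← map_conj_centralizer]
    conv_lhs => rw [← hPs]
    rw [← Subgroup.map_inf _ _ _ (MulAut.conj s).injective,
      Subgroup.card_map_of_injective (MulEquiv.injective _)]
  have hmaxC := (fullyCentralized_iff hP hb hmax hle).1 hfc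
  rw [← isDefectGroup_sub_iff_of_le hM _ hc inf_le_right] at hmaxC
  rw [← card_defectGroup hM hc hmaxC]
  exact (Nat.card_congr (Subgroup.subgroupOfEquivOfLe inf_le_right).toEquiv).symm

theorem orderOf_le (hP : IsPair p (P, e)) {u : G} (hu : u ∈ P) {k a : ℕ}
    (hk : orderOf u = p ^ k) (ha : Nat.card P = p ^ a) : k ≤ a := by
  have h1 : orderOf u ∣ Nat.card P := by
    have h := orderOf_dvd_natCard (⟨u, hu⟩ : P)
    rwa [← Subgroup.orderOf_coe] at h
  rw [hk, ha, Nat.pow_dvd_pow_iff_le_right (Fact.out : p.Prime).one_lt] at h1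
  exact h1

theorem sum_aFun_self (hM : IsPModular p M) (hB : IsPBlock M B) (hnil : IsNil p (idem M B))
    (hmax : IsMaxPair p (idem M B) (P, e)) [Fintype P] {χ : IrrCharacter G} (hχ : χ ∈ B) :
    ∑ u : P, aFun p P e χ χ u = (Nat.card P : ℂ) := by
  have h := classInner_starFun_inner hM hB hmax (exists_conj_mem hM hB hnil hmax)
    (χ := χ) (ψ := χ) (Or.inl hχ) (fun _ _ => (1 : ℂ)) (fun _ _ => (1 : ℂ))
    (fun _ _ _ => rfl) fun _ _ _ => rfl
  rw [starFun_const_one hM, classInner_irr, if_pos rfl] at h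
  simp only [map_one, one_mul] at h
  rwa [eq_inv_mul_iff_mul_eq₀ (Nat.cast_ne_zero.2 Nat.card_pos.ne'), mul_one, eq_comm] at h

/-- **The scaled contributions of a character of height zero are one.** -/
theorem aFun_eq_one (hM : IsPModular p M) (hB : IsPBlock M B) (hnil : IsNil p (idem M B))
    (hmax : IsMaxPair p (idem M B) (P, e)) {χ : IrrCharacter G} (hχ : χ ∈ B)
    (h0 : blockHeight p B (χ : G → ℂ) = 0) {u : G} (hu : u ∈ P) : aFun p P e χ χ u = 1 := by
  haveI : Fintype P := Fintype.ofFinite P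
  letI := irrFintype (G := G)
  have hP : IsPair p (P, e) := hmax.1.1
  obtain ⟨a, ha⟩ := hP.1.exists_card_eq
  have hN : 0 < p ^ a := pow_pos hM.1.pos a
  have hdata : ∀ v : P, ∃ c : Set (IrrCharacter C[Z[(v : G)]]), IsPBlock M c ∧
      idemIn M C[Z[(v : G)]] c = subBlk p P e (v : G) := fun v =>
    exists_idemIn_eq hM (PLE.isPair (subBlk_ple hP v.2) hP).2
  choose c hc hcE using hdata
  have hk : ∀ v : P, ∃ k, orderOf (v : G) = p ^ k ∧ k ≤ a := fun v => by
    obtain ⟨n, hn⟩ := mem_pSet.1 (mem_pSet_of_mem hP v.2)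
    obtain ⟨k, -, hk⟩ := (Nat.dvd_prime_pow hM.1).1 (orderOf_dvd_of_pow_eq_one hn)
    exact ⟨k, hk, orderOf_le hP v.2 hk ha⟩
  choose k hk hka using hk
  have hval : ∀ v : P, aFun p P e χ χ v = (p : ℂ) ^ blockDefect p (c v) *
      contrib p (c v) (v : G) χ χ := fun v => by
    rw [aFun, ← hcE v, contribR_idemIn hM χ χ (mem_pSet_of_mem hP v.2) (hc v),
      card_inf_centralizer hM hB hnil hmax v.2 (hc v) (hcE v), Nat.cast_pow]
  have hmem : ∀ (v : P) (φ : IrrCharacter G),
      contrib p (c v) (v : G) χ φ ∈ cycloField (p ^ a) := fun v φ =>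
    (scaled_contrib_mem hM (centralizer_zpowers_eq _) (hk v) (hc v) (hka v) χ φ).1
  have hK : ∀ v ∈ (univ : Finset P), aFun p P e χ χ v ∈ cycloField (p ^ a) := fun v _ => by
    rw [hval v]; exact mul_mem (pow_mem (natCast_mem _ _) _) (hmem v χ)
  refine eq_one_of_totally_pos hN univ (fun v : P => aFun p P e χ χ v) hK
    (fun v _ => by
      rw [hval v]
      exact (scaled_contrib_mem hM (centralizer_zpowers_eq _) (hk v) (hc v) (hka v) χ χ).2)
    (fun v hv σ => ?_)
    (by rw [sum_aFun_self hM hB hnil hmax hχ, card_univ, Nat.card_eq_fintype_card]) ⟨u, hu⟩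
    (mem_univ _)
  -- positivity under every embedding
  have hne : contrib p (c v) (v : G) χ χ ≠ 0 := by
    rw [← contribR_idemIn hM χ χ (mem_pSet_of_mem hP v.2) (hc v), hcE v]
    exact contribR_ne_zero hM hB hχ h0 hmax v.2
  have hpair : IsPairOf p (idem M B) (Z[(v : G)], idemIn M C[Z[(v : G)]] (c v)) := by
    rw [hcE v]
    exact (isPairOf_iff_of_ple (isBlk_idem hM hB) (subBlk_ple hP v.2) hP).2 hmax.1
  have hind := isInducedBlock_of_isBrauerPairOf hM (zpowers_le_centralizer_zpowers _)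
    ((isBrauerPairOf_iff hM).2 ⟨⟨hpair.1.1, hc v⟩, hB, hpair⟩)
  have hsq := contrib_mul hM (centralizer_zpowers_eq _) (hk v) hind χ χ
  set S := univ.filter (· ∈ B)
  set z : IrrCharacter G → cycloField (p ^ a) := fun φ => ⟨_, hmem v φ⟩
  have hK' : (⟨aFun p P e χ χ v, hK v hv⟩ : cycloField (p ^ a)) = ((p ^ blockDefect p (c v) : ℕ) :
      cycloField (p ^ a)) * ∑ φ ∈ S, z φ *
        ⟨conj (z φ : ℂ), (conj_mem_and_comm hN σ (hmem v φ)).1⟩ := by
    refine Subtype.ext ?_
    rw [MulMemClass.coe_mul, SubringClass.coe_natCast, AddSubmonoidClass.coe_finset_sum]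
    show aFun p P e χ χ v = _
    rw [hval v, Nat.cast_pow, ← hsq]
    congr 1
    refine sum_congr rfl fun φ _ => ?_
    rw [MulMemClass.coe_mul]
    show _ = contrib p (c v) (v : G) χ φ * conj (contrib p (c v) (v : G) χ φ)
    rw [conj_contrib]
  refine ⟨(p ^ blockDefect p (c v) : ℕ) * ∑ φ ∈ S, ‖σ (z φ)‖ ^ 2, ?_, ?_⟩
  · refine mul_pos (Nat.cast_pos.2 (pow_pos hM.1.pos _))
      (sum_pos' (fun φ _ => sq_nonneg _) ⟨χ, mem_filter.2 ⟨mem_univ _, hχ⟩, ?_⟩)
    refine pow_pos (norm_pos_iff.2 ((map_ne_zero σ).2 fun h => hne ?_)) 2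
    exact congrArg Subtype.val h
  · rw [hK', map_mul, map_natCast, map_sum, Complex.ofReal_mul, Complex.ofReal_sum,
      Complex.ofReal_natCast]
    congr 1
    refine sum_congr rfl fun φ _ => ?_
    rw [map_mul, (conj_mem_and_comm hN σ (hmem v φ)).2, Complex.mul_conj', Complex.ofReal_pow]

/-- A character of `P` extended by zero is stable. -/
theorem stable_extend (hinner : ∀ u ∈ P, ∀ g, Carries p (P, e) Z[u] g →
    ∃ w ∈ P, g * u * g⁻¹ = w * u * w⁻¹) {θ : P → ℂ} (hθ : IsClassFunction P θ) :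
    Stable p P e (extendByZero P θ) := by
  intro u hu g hC
  obtain ⟨w, hw, he⟩ := hinner u hu g hC
  rw [he]
  show extendByZero P θ (((⟨w, hw⟩ * ⟨u, hu⟩ * ⟨w, hw⟩⁻¹ : P)) : G) =
    extendByZero P θ ((⟨u, hu⟩ : P) : G)
  rw [extendByZero_apply, extendByZero_apply]
  exact hθ _ _

theorem extend_apply_mem (θ : P → ℂ) (u : P) : extendByZero P θ (u : G) = θ u :=
  extendByZero_apply θ u

/-- **The characters of a nilpotent block correspond to those of its defect group.** -/
theorem exists_characters (hM : IsPModular p M) (hB : IsPBlock M B)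
    (hnil : IsNil p (idem M B)) (hmax : IsMaxPair p (idem M B) (P, e))
    {χ₀ : IrrCharacter G} (hχ₀ : χ₀ ∈ B) (h0 : blockHeight p B (χ₀ : G → ℂ) = 0) :
    ∃ Φ : IrrCharacter P ≃ B, (∀ (ζ : IrrCharacter P) (s : G), ¬ p ∣ orderOf s →
      ((Φ ζ : IrrCharacter G) : G → ℂ) s =
        (charDegree (ζ : P → ℂ) : ℂ) * (χ₀ : G → ℂ) s) ∧
      ∀ ζ : IrrCharacter P, ((Φ ζ : IrrCharacter G) : G → ℂ) =
        starFun p (weight p P e (extendByZero P (ζ : P → ℂ))) χ₀ := by
  haveI : Fintype P := Fintype.ofFinite P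
  letI := irrFintype (G := P)
  have hb := isBlk_idem hM hB
  have hP : IsPair p (P, e) := hmax.1.1
  have hinner := exists_conj_mem hM hB hnil hmax
  let W : IrrCharacter P → G → MonoidAlgebra 𝕜 G → ℂ := fun ζ =>
    weight p P e (extendByZero P (ζ : P → ℂ))
  have hst : ∀ ζ : IrrCharacter P, Stable p P e (extendByZero P (ζ : P → ℂ)) := fun ζ =>
    stable_extend hinner (isClassFunction_irr ζ)
  have hWG : ∀ ζ g u f, W ζ (g * u * g⁻¹) (cj 𝕜 g f) = W ζ u f := fun ζ g u f =>
    weight_conj (hst ζ) g u f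
  have hWval : ∀ (ζ : IrrCharacter P) (u : P), W ζ (u : G) (subBlk p P e (u : G)) = (ζ : P → ℂ) u :=
    fun ζ u => by
      show weight p P e _ (u : G) _ = _
      rw [weight_of_ple (hst ζ) (subBlk_ple hP u.2), extend_apply_mem]
  have hgen : ∀ ζ, IsGeneralizedCharacter G (starFun p (W ζ) χ₀) := fun ζ =>
    isGeneralized_starFun_weight hM hb hmax (hst ζ)
      (by simp only [extend_apply_mem]; exact IsIrrCharacter.isGeneralized ζ.2) χ₀
  have horth : ∀ ζ ζ', classInner (starFun p (W ζ) χ₀) (starFun p (W ζ') χ₀) =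
      if ζ = ζ' then 1 else 0 := by
    intro ζ ζ'
    rw [classInner_starFun_inner hM hB hmax hinner (Or.inl hχ₀) _ _ (hWG ζ) (hWG ζ'),
      ← classInner_irr ζ ζ', CfsgLib.Char.classInner_def]
    refine congrArg _ (sum_congr rfl fun u _ => ?_)
    rw [hWval, hWval, show (Nat.card (P ⊓ C[Z[(u : G)]] : Subgroup G) : ℂ) *
      contribR p χ₀ χ₀ (u : G) (subBlk p P e (u : G)) = 1 from
        aFun_eq_one hM hB hnil hmax hχ₀ h0 u.2, mul_one]
  have hreg : ∀ (ζ : IrrCharacter P) (s : G), ¬ p ∣ orderOf s →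
      starFun p (W ζ) χ₀ s = (charDegree (ζ : P → ℂ) : ℂ) * (χ₀ : G → ℂ) s := by
    intro ζ s hs
    have h : PElt p (1 : G) s := ⟨⟨0, by simp⟩, hs, Commute.one_left s⟩
    have := starFun_eq_smul hM hB hχ₀ (W ζ) h (c := (charDegree (ζ : P → ℂ) : ℂ)) fun f hf => ?_
    · rwa [one_mul] at this
    obtain ⟨g, hg⟩ := exists_conj_ple_max hb hmax hf
    show weight p P e _ 1 f = _
    rw [weight_eq (hst ζ) hg, mul_one, mul_inv_cancel,
      show (1 : G) = ((1 : P) : G) from rfl, extend_apply_mem, (irr_one ζ).1]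
  have hirr : ∀ ζ, IsIrrCharacter G (starFun p (W ζ) χ₀) := by
    intro ζ
    refine (IsGeneralized.isIrr_or_neg (hgen ζ) (by rw [horth, if_pos rfl])).resolve_right
      fun hneg => ?_
    obtain ⟨h1, h2⟩ := irr_one (⟨_, hneg⟩ : IrrCharacter G)
    have h3 : -(starFun p (W ζ) χ₀ 1) = (charDegree (-(starFun p (W ζ) χ₀)) : ℂ) := h1
    rw [hreg ζ 1 (by rw [orderOf_one]; exact hM.1.not_dvd_one), (irr_one χ₀).1, ← Nat.cast_mul,
      neg_eq_iff_add_eq_zero, ← Nat.cast_add, Nat.cast_eq_zero] at h3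
    have h2' : 0 < charDegree (-(starFun p (W ζ) χ₀)) := h2
    omega
  let φ : IrrCharacter P → IrrCharacter G := fun ζ => ⟨_, hirr ζ⟩
  have hcoef : ∀ ζ ψ, classInner (starFun p (W ζ) χ₀) ((ψ : IrrCharacter G) : G → ℂ) =
      (Nat.card P : ℂ)⁻¹ * ∑ u : P, (ζ : P → ℂ) u * aFun p P e χ₀ ψ u := by
    intro ζ ψ
    rw [← starFun_const_one (M := M) hM ψ, classInner_starFun_inner hM hB hmax hinner
      (Or.inl hχ₀) _ _ (hWG ζ) fun _ _ _ => rfl]
    refine congrArg _ (sum_congr rfl fun u _ => ?_)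
    rw [hWval, map_one, mul_one]
    rfl
  have hmem : ∀ ζ, φ ζ ∈ B := by
    intro ζ
    by_contra hn
    have h1 : classInner (starFun p (W ζ) χ₀) ((φ ζ) : G → ℂ) = 1 := by
      show classInner _ (starFun p (W ζ) χ₀) = 1
      rw [horth, if_pos rfl]
    rw [← starFun_const_one (M := M) hM (φ ζ), classInner_starFun' hM] at h1
    refine one_ne_zero (h1.symm.trans ?_)
    rw [sum_eq_zero, mul_zero]
    intro x hx
    rw [sum_eq_zero, mul_zero]
    intro f hf
    by_cases hp : IsPairOf p (idem M B) (Z[x], f)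
    · obtain ⟨c, hc, rfl⟩ := exists_idemIn_eq hM (mem_blks.1 hf)
      have hind := isInducedBlock_of_isBrauerPairOf hM (zpowers_le_centralizer_zpowers x)
        ((isBrauerPairOf_iff hM).2 ⟨⟨hp.1.1, hc⟩, hB, hp⟩)
      obtain ⟨n, hn'⟩ := mem_pSet.1 hx
      obtain ⟨k, -, hk⟩ := (Nat.dvd_prime_pow hM.1).1 (orderOf_dvd_of_pow_eq_one hn')
      rw [contribR_idemIn hM _ _ hx hc, contrib,
        subPart_eq_zero_of_not_mem hM (centralizer_zpowers_eq x) hk hind hn, classInner_zero_right,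
        mul_zero]
    · rw [contribR_eq_zero hM hB (Or.inl hχ₀) hx (mem_blks.1 hf) hp, mul_zero]
  have hinj : Function.Injective φ := fun ζ ζ' he => by
    by_contra hne
    have h1 := horth ζ ζ'
    rw [if_neg hne, ← show starFun p (W ζ) χ₀ = starFun p (W ζ') χ₀ from congrArg Subtype.val he,
      horth, if_pos rfl] at h1
    exact one_ne_zero h1
  have hsurj : ∀ ψ ∈ B, ∃ ζ, φ ζ = ψ := by
    intro ψ hψ
    by_contra hne
    simp only [not_exists] at hne
    set F : P → ℂ := fun u => conj (aFun p P e χ₀ ψ u)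
    have hFcl : IsClassFunction P F := by
      intro u w
      show conj (aFun p P e χ₀ ψ ((w : G) * u * (w : G)⁻¹)) = conj (aFun p P e χ₀ ψ u)
      congr 1
      have hPs : P.map (MulAut.conj (w : G)).toMonoidHom = P :=
        map_conj_eq_self (Subgroup.le_normalizer w.2)
      have hC : C[Z[(w : G) * u * (w : G)⁻¹]] = C[Z[(u : G)]].map (MulAut.conj (w : G)).toMonoidHom := by
        rw [map_conj_centralizer, MonoidHom.map_zpowers]; rfl
      have hI : P ⊓ C[Z[(u : G)]].map (MulAut.conj (w : G)).toMonoidHom =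
          (P ⊓ C[Z[(u : G)]]).map (MulAut.conj (w : G)).toMonoidHom := by
        rw [Subgroup.map_inf _ _ _ (MulAut.conj (w : G)).injective, hPs]
      rw [aFun, aFun, hC, hI,
        Subgroup.card_map_of_injective (MulEquiv.injective _), ← subBlk_conj hP u.2 w.2,
        contribR_conj hM χ₀ ψ (mem_pSet_of_mem hP u.2) (PLE.isPair (subBlk_ple hP u.2) hP).2]
    have hF0 : F = 0 := by
      refine eq_zero_of_classInner_eq_zero hFcl fun ζ hζ => ?_
      have h1 := hcoef ⟨ζ, hζ⟩ ψ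
      rw [show classInner (starFun p (W ⟨ζ, hζ⟩) χ₀) ((ψ : IrrCharacter G) : G → ℂ) = 0 from
        (classInner_irr (φ ⟨ζ, hζ⟩) ψ).trans (if_neg (hne _))] at h1
      have h2 := congrArg conj h1
      rw [map_zero, map_mul, map_inv₀, map_natCast, map_sum] at h2
      rw [CfsgLib.Char.classInner_def, h2]
      refine congrArg _ (sum_congr rfl fun u _ => ?_)
      rw [map_mul, mul_comm]
    obtain ⟨c, hc, hcE⟩ : ∃ c : Set (IrrCharacter C[Z[(1 : G)]]), IsPBlock M c ∧
        idemIn M C[Z[(1 : G)]] c = subBlk p P e 1 :=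
      exists_idemIn_eq hM (PLE.isPair (subBlk_ple hP P.one_mem) hP).2
    have hcard := card_inf_centralizer hM hB hnil hmax P.one_mem hc hcE
    have htop : C[Z[(1 : G)]] = ⊤ := by rw [Subgroup.zpowers_one_eq_bot, centralizer_bot]
    have hbd : blockDefect p c = blockDefect p B := by
      have hI : P ⊓ C[Z[(1 : G)]] = P := inf_eq_left.2 (htop.symm ▸ le_top)
      rw [hI, card_defectGroup hM hB (isDefectGroup_of_isDef hM hB (hmax.isDef hb))] at hcard
      exact (Nat.pow_right_injective hM.1.two_le hcard).symm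
    have hpair : IsPairOf p (idem M B) (Z[(1 : G)], idemIn M C[Z[(1 : G)]] c) := by
      rw [hcE]
      exact (isPairOf_iff_of_ple hb (subBlk_ple hP P.one_mem) hP).2 hmax.1
    have hind := isInducedBlock_of_isBrauerPairOf hM (zpowers_le_centralizer_zpowers _)
      ((isBrauerPairOf_iff hM).2 ⟨⟨hpair.1.1, hc⟩, hB, hpair⟩)
    have hne' := contrib_ne_zero hM (centralizer_zpowers_eq (1 : G)) (k := 0)
      (by rw [orderOf_one, pow_zero]) hind hbd (χ := ψ) hψ hχ₀ h0
    refine hne' ?_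
    have h3 : conj (aFun p P e χ₀ ψ ((1 : P) : G)) = 0 := congrFun hF0 1
    rw [map_eq_zero, aFun, OneMemClass.coe_one, ← hcE, contribR_idemIn hM χ₀ ψ
      (mem_pSet_of_mem hP P.one_mem) hc, mul_eq_zero] at h3
    rw [← conj_contrib, h3.resolve_left (Nat.cast_ne_zero.2 Nat.card_pos.ne'), map_zero]
  refine ⟨Equiv.ofBijective (fun ζ => (⟨φ ζ, hmem ζ⟩ : B))
    ⟨fun ζ ζ' he => hinj (congrArg Subtype.val he), fun ψ => ?_⟩, fun ζ s hs => hreg ζ s hs,
      fun ζ => rfl⟩
  obtain ⟨ζ, hζ⟩ := hsurj ψ.1 ψ.2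
  exact ⟨ζ, Subtype.ext hζ⟩

/-- A nilpotent block has a character of height zero generating its characters. -/
theorem exists_generating (hM : IsPModular p M) (hB : IsPBlock M B) (hnil : IsNil p (idem M B))
    (hmax : IsMaxPair p (idem M B) (P, e)) :
    ∃ χ₀ ∈ B, blockHeight p B (χ₀ : G → ℂ) = 0 ∧ ∃ Φ : IrrCharacter P ≃ B,
      ∀ (ζ : IrrCharacter P) (s : G), ¬ p ∣ orderOf s → ((Φ ζ : IrrCharacter G) : G → ℂ) s =
        (charDegree (ζ : P → ℂ) : ℂ) * (χ₀ : G → ℂ) s := by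
  obtain ⟨χ₀, hχ₀, h0⟩ := exists_height_zero hM hB
  obtain ⟨Φ, hΦ, -⟩ := exists_characters hM hB hnil hmax hχ₀ h0
  exact ⟨χ₀, hχ₀, h0, Φ, hΦ⟩

end CfsgLib.BlockStar
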