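import Cfsg.Agent.BlocksB.Star.Inner
import Cfsg.Agent.Char.PowPart

/-!
# Weighted section functions are generalized characters

On an elementary subgroup the multiplicities times the order of the `p`-part are integers, as
sums over generators of cyclic subgroups of values of generalized characters, and they are
locally integral.
-/

set_option autoImplicit false
set_option linter.style.haveILetI false
set_option linter.unusedSectionVars false

namespace CfsgLib.BlockStar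

open Cfsg Finset CfsgLib.Block CfsgLib.Block.Chr CfsgLib.BrauerPairs CfsgLib.Char CfsgLib.BlockB
open scoped ComplexConjugate
open scoped Classical

universe u

variable {M : Ideal AlgInt} [M.IsPrime] {p : ℕ} [Fact p.Prime] [CharP (Residue M) p]
  {G : Type u} [Group G] [Fintype G]

local notation "𝕜" => Residue M
local notation "Z[" x "]" => Subgroup.zpowers x
local notation "C[" Q "]" => Subgroup.centralizer (SetLike.coe Q)

/-- An elementary subgroup is the product of its elements of `p`-power order and of order prime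
to `p`. -/
theorem exists_split (E : Subgroup G) {q : ℕ} (hq : q.Prime) (hE : IsElementary q E) :
    ∃ Q S : Subgroup G, Q ≤ E ∧ S ≤ E ∧ IsPGroup p Q ∧ (∀ s ∈ S, ¬ p ∣ orderOf s) ∧
      (∀ u ∈ Q, ∀ s ∈ S, Commute u s) ∧ (∀ e ∈ E, ∃ u ∈ Q, ∃ s ∈ S, u * s = e) := by
  have hp : p.Prime := Fact.out
  set a := (Nat.card E).factorization p
  set m := p ^ a
  set n := Nat.card E / m
  have hpn : ¬ p ∣ n := Nat.not_dvd_ordCompl hp Nat.card_pos.ne'
  have hmn : Nat.card E = m * n := (Nat.ordProj_mul_ordCompl_eq_self _ _).symm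
  have hcop : Nat.Coprime m n := (hp.coprime_iff_not_dvd.2 hpn).pow_left a
  have hn0 : n ≠ 0 := fun h => by simp [h, Nat.card_pos.ne'] at hmn
  obtain ⟨j, hj, hj1, hj0⟩ := exists_exp hcop (pow_ne_zero _ hp.ne_zero) hn0
  let φ : E →* E := MonoidHom.mk' (fun e => e ^ j) fun x y =>
    pow_part_mul hj1 hj0 hq hE hmn.dvd hcop hj x y
  have hφ : ∀ e, φ e = e ^ j := fun _ => rfl
  have hQ : ∀ {e : E}, e ∈ φ.range ↔ φ e = e := fun {e} => by
    refine ⟨?_, fun h => ⟨e, h⟩⟩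
    rintro ⟨x, rfl⟩
    rw [hφ (φ x), hφ x, pow_part_eq_self hj1 hj0 (pow_part_pow hj1 hj0 hmn.dvd x)]
  refine ⟨φ.range.map E.subtype, φ.ker.map E.subtype, Subgroup.map_subtype_le _,
    Subgroup.map_subtype_le _, ?_, ?_, ?_, ?_⟩
  · refine IsPGroup.map ?_ _
    rintro ⟨e, x, hx⟩
    refine ⟨a, Subtype.ext ?_⟩
    show e ^ p ^ a = 1
    rw [← hx, hφ]
    exact pow_part_pow hj1 hj0 hmn.dvd x
  · rintro _ ⟨e, he, rfl⟩ hd
    have h1 : e ^ n = 1 := (pow_part_eq_one_iff hj1 hj0 hmn.dvd hcop e).1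
      (by rw [← hφ]; exact he)
    exact hpn (hd.trans ((orderOf_dvd_of_pow_eq_one (by
      rw [Subgroup.coe_subtype, ← SubgroupClass.coe_pow, h1, OneMemClass.coe_one]))))
  · rintro _ ⟨e, he, rfl⟩ _ ⟨t, ht, rfl⟩
    have h1 : φ (t * e * t⁻¹) = e := by
      rw [map_mul, map_mul, map_inv, show φ t = 1 from ht, hQ.1 he, one_mul, inv_one, mul_one]
    have hm : e ^ m = 1 := by
      obtain ⟨x, rfl⟩ := he
      exact pow_part_pow hj1 hj0 hmn.dvd x
    have h2 : φ (t * e * t⁻¹) = t * e * t⁻¹ := by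
      rw [hφ]
      exact pow_part_eq_self hj1 hj0 (by rw [conj_pow, hm, mul_one, mul_inv_cancel])
    exact (show Commute e t from (mul_inv_eq_iff_eq_mul.1 (h2.symm.trans h1)).symm).map E.subtype
  · intro e he
    refine ⟨(φ ⟨e, he⟩ : E), ⟨_, ⟨_, rfl⟩, rfl⟩, (((φ ⟨e, he⟩)⁻¹ * ⟨e, he⟩ : E) : G),
      ⟨(φ ⟨e, he⟩)⁻¹ * ⟨e, he⟩, ?_, rfl⟩, ?_⟩
    · rw [SetLike.mem_coe, MonoidHom.mem_ker, map_mul, map_inv, hQ.1 ⟨_, rfl⟩, inv_mul_cancel]
    · rw [Subgroup.coe_mul, InvMemClass.coe_inv, mul_inv_cancel_left]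

/-- The value at a block of the centralizer of the cyclic subgroup of a `p`-element. -/
theorem val_eq_blockPart (hM : IsPModular p M) (χ : IrrCharacter G) {C : Subgroup G} {u s : G}
    (h : PElt p u s) (hC : Z[u] = C) [Fintype C[C]] {b : Set (IrrCharacter C[C])}
    (hb : IsPBlock M b) (hus : u * s ∈ C[C]) :
    val χ u s (idemIn M C[C] b) =
      blockPart b (fun c : C[C] => (χ : G → ℂ) (c : G)) ⟨u * s, hus⟩ := by
  subst hC
  have hblk := isBlk_idemIn hM hb
  have hcl : IsClassFunction C[Z[u]] (fun c : C[Z[u]] => (χ : G → ℂ) (c : G)) := fun c v => by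
    simpa using isClassFunction_irr χ (c : G) (v : G)
  rw [val_eq hM χ h (liftBlk_idem hb) (commute_liftBlk hb (mem_cz.2 rfl))
      (commute_liftBlk hb h.mem) hblk.idem (hblk.fixBy.mono (sup_le_cz h)) (by rw [redA_liftBlk hb]),
    blockPart_eq_conv b hcl, sval]
  simp only [coeff_liftBlk]
  rw [sum_subgroupBlockCoeff_mul _ b fun g => (χ : G → ℂ) (g * (s * u))]
  refine sum_congr rfl fun c _ => ?_
  congr 1
  show (χ : G → ℂ) ((c : G) * (s * u)) = (χ : G → ℂ) ((c : G) * (u * s))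
  rw [h.comm.eq]

theorem isGeneralized_blockPart_res {K : Subgroup G} [Fintype K] (b : Set (IrrCharacter K))
    (χ : IrrCharacter G) :
    IsGeneralizedCharacter K (blockPart b fun c : K => (χ : G → ℂ) (c : G)) := by
  letI := irrFintype (G := K)
  have h : (blockPart b fun c : K => (χ : G → ℂ) (c : G)) = ∑ ξ ∈ univ.filter (· ∈ b),
      classInner (fun c : K => (χ : G → ℂ) (c : G)) (ξ : K → ℂ) • (ξ : K → ℂ) := by
    funext c
    rw [blockPart_eq_sum_inner, Finset.sum_apply]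
    rfl
  rw [h]
  refine isGeneralized_sum _ fun ξ _ => ?_
  obtain ⟨n, hn⟩ := exists_restr_mult (H := K) χ ξ
  rw [hn, show ((n : ℕ) : ℂ) = (((n : ℤ)) : ℂ) by push_cast; rfl]
  exact IsGeneralized.intCast_smul (IsIrrCharacter.isGeneralized ξ.2) _

theorem blks_eq_of_zpowers {u : G} {C : Subgroup G} (hC : Z[u] = C) :
    blks M u = primFinset (alg_comm (k := 𝕜) (le_refl C[C])) := by
  subst hC; rfl

theorem sum_blks_of_zpowers (hM : IsPModular p M) {u : G} {C : Subgroup G} (hC : Z[u] = C)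
    {A : Type*} [AddCommMonoid A] (f : MonoidAlgebra 𝕜 G → A) :
    ∑ e ∈ blks M u, f e = ∑ b ∈ blockFinset M C[C], f (idemIn M C[C] b) := by
  subst hC
  exact sum_blks hM u f

/-- A sum of products of values of generalized characters over a subgroup times a group. -/
theorem exists_sum_prod_eq {A B : Type u} [Group A] [Fintype A] [Group B] [Fintype B]
    {Φ Ψ : A × B → ℂ} (hΦ : IsGeneralizedCharacter (A × B) Φ)
    (hΨ : IsGeneralizedCharacter (A × B) Ψ) (D : Subgroup A) [Fintype D] :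
    ∃ k : ℤ, ∑ a : D, ∑ b : B, Φ ((a : A), b) * conj (Ψ ((a : A), b)) =
      (Nat.card D : ℂ) * (Nat.card B : ℂ) * (k : ℂ) := by
  obtain ⟨k, hk⟩ := IsGeneralized.exists_classInner_eq_int
    (IsGeneralized.comp hΦ (D.subtype.prodMap (MonoidHom.id B)))
    (IsGeneralized.comp hΨ (D.subtype.prodMap (MonoidHom.id B)))
  refine ⟨k, ?_⟩
  rw [CfsgLib.Char.classInner_def, Nat.card_prod, Nat.cast_mul, Fintype.sum_prod_type] at hk
  rw [← hk, mul_inv_cancel_left₀ (mul_ne_zero (Nat.cast_ne_zero.2 Nat.card_pos.ne')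
    (Nat.cast_ne_zero.2 Nat.card_pos.ne'))]
  rfl

/-- **Sums over the generators of a cyclic subgroup.** -/
theorem exists_sum_gen (hM : IsPModular p M) {W : G → MonoidAlgebra 𝕜 G → ℂ}
    (hW : ∀ (Q : Subgroup G) (f : MonoidAlgebra 𝕜 G), IsPair p (Q, f) →
      ∃ η : Q → ℂ, IsGeneralizedCharacter Q η ∧
        ∀ (u : G) (hu : u ∈ Q) (e : MonoidAlgebra 𝕜 G), PLE p (Z[u], e) (Q, f) → W u e = η ⟨u, hu⟩)
    (χ : IrrCharacter G) {E Q S : Subgroup G} [Fintype E] [Fintype Q] [Fintype S] (hQE : Q ≤ E)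
    (hSE : S ≤ E) (hQ : IsPGroup p Q) (hS : ∀ s ∈ S, ¬ p ∣ orderOf s)
    (hcomm : ∀ u ∈ Q, ∀ s ∈ S, Commute u s) {ψ : E → ℂ} (hψ : IsGeneralizedCharacter E ψ)
    {u0 : G} (hu0 : u0 ∈ Q) :
    ∃ k : ℤ, ∑ u ∈ univ.filter (fun u : Q => Z[(u : G)] = Z[u0]), ∑ s : S,
      starFun p W χ ((u : G) * s) *
        conj (ψ ⟨(u : G) * s, E.mul_mem (hQE u.2) (hSE s.2)⟩) = (Nat.card S : ℂ) * (k : ℂ) := by
  have hp : p.Prime := Fact.out
  obtain ⟨C, hC⟩ : ∃ C, C = Z[u0] := ⟨_, rfl⟩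
  have hCQ : C ≤ Q := hC ▸ Subgroup.zpowers_le.2 hu0
  haveI : Fintype C := Fintype.ofFinite C
  haveI : Fintype C[C] := Fintype.ofFinite _
  have hCP : IsPGroup p C := hQ.to_le hCQ
  have hCcomm : ∀ a ∈ C, ∀ b ∈ C, Commute a b := by
    rw [hC]
    rintro _ ⟨i, rfl⟩ _ ⟨l, rfl⟩
    exact Commute.zpow_zpow_self u0 i l
  have hmem : ∀ y : C × S, (y.1 : G) * (y.2 : G) ∈ C[C] := fun y => by
    rw [Subgroup.mem_centralizer_iff]
    exact fun c hc => ((hCcomm c hc _ y.1.2).mul_right (hcomm c (hCQ hc) _ y.2.2)).eq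
  have hmemE : ∀ y : C × S, (y.1 : G) * (y.2 : G) ∈ E := fun y =>
    E.mul_mem (hQE (hCQ y.1.2)) (hSE y.2.2)
  have hι : ∀ y z : C × S, ((y * z).1 : G) * ((y * z).2 : G) =
      ((y.1 : G) * y.2) * ((z.1 : G) * z.2) := fun y z => by
    show ((y.1 : G) * z.1) * ((y.2 : G) * z.2) = _
    rw [mul_assoc, ← mul_assoc (z.1 : G), (hcomm _ (hCQ z.1.2) _ y.2.2).eq, mul_assoc,
      ← mul_assoc]
  let ι : C × S →* C[C] :=
    MonoidHom.mk' (fun y => ⟨_, hmem y⟩) fun y z => Subtype.ext (hι y z)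
  let ιE : C × S →* E :=
    MonoidHom.mk' (fun y => ⟨_, hmemE y⟩) fun y z => Subtype.ext (hι y z)
  choose η hη hηW using fun b : blockFinset M C[C] => hW C (idemIn M C[C] b.1)
    ⟨hCP, isBlk_idemIn hM (mem_blockFinset.1 b.2)⟩
  let Φ : C × S → ℂ := ∑ b : blockFinset M C[C],
    (fun y : C × S => η b y.1) * fun y => blockPart b.1 (fun c : C[C] => (χ : G → ℂ) (c : G)) (ι y)
  have hΦ : IsGeneralizedCharacter (C × S) Φ := isGeneralized_sum _ fun b _ => IsGeneralized.mul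
    (IsGeneralized.comp (hη b) (MonoidHom.fst C S))
    (IsGeneralized.comp (isGeneralized_blockPart_res b.1 χ) ι)
  have hval : ∀ (u : C) (s : S), Z[(u : G)] = C →
      starFun p W χ ((u : G) * s) = Φ (u, s) := by
    intro u s hu
    obtain ⟨n, hn⟩ := hCP u
    have h : PElt p (u : G) (s : G) := ⟨⟨n, by simpa using congrArg Subtype.val hn⟩, hS _ s.2,
      hcomm _ (hCQ u.2) _ s.2⟩
    rw [starFun_eq W χ h rfl, wsum, sum_blks_of_zpowers hM hu, ← Finset.sum_coe_sort]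
    simp only [Φ, Finset.sum_apply, Pi.mul_apply]
    refine sum_congr rfl fun b _ => ?_
    rw [br_one, one_mul, val_eq_blockPart hM χ h hu (mem_blockFinset.1 b.2) (hmem (u, s)),
      hηW b (u : G) u.2 (idemIn M C[C] b.1) (by rw [hu]; exact Relation.ReflTransGen.refl)]
    rfl
  obtain ⟨k, hk⟩ : ∃ k : ℕ, Nat.card C = p ^ k := hCP.exists_card_eq
  have hgenC : ∀ u : C, Z[(u : G)] = C ↔ orderOf (u : G) = p ^ k := fun u => by
    refine ⟨fun h => by rw [← Nat.card_zpowers, h, hk], fun h => ?_⟩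
    exact Subgroup.eq_of_le_of_card_ge (Subgroup.zpowers_le.2 u.2) (by rw [Nat.card_zpowers, h, hk])
  let T : C → ℂ := fun u => ∑ s : S, Φ (u, s) * conj (ψ (ιE (u, s)))
  have hsum : ∀ D : Subgroup C, ∃ k : ℤ, ∑ u ∈ univ.filter (fun u : C => u ∈ D), T u =
      (Nat.card S : ℂ) * (k : ℂ) := by
    intro D
    obtain ⟨k, hk⟩ := exists_sum_prod_eq hΦ (IsGeneralized.comp hψ ιE) D
    refine ⟨Nat.card D * k, ?_⟩
    rw [sum_subtype _ (p := (· ∈ D)) (by simp)]
    exact hk.trans (by push_cast; ring)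
  have hgensum : ∃ k : ℤ, ∑ u ∈ univ.filter (fun u : C => Z[(u : G)] = C), T u =
      (Nat.card S : ℂ) * (k : ℂ) := by
    rcases Nat.eq_zero_or_eq_succ_pred k with hk0 | hk1
    · obtain ⟨z, hz⟩ := hsum ⊤
      refine ⟨z, hz ▸ sum_congr (filter_congr fun u _ => iff_of_true ?_ trivial) fun _ _ => rfl⟩
      rw [hgenC u, hk0, pow_zero, orderOf_eq_one_iff]
      have := orderOf_dvd_natCard u
      rw [hk, hk0, pow_zero, Nat.dvd_one, orderOf_eq_one_iff] at this
      rw [this]; rfl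
    let D : Subgroup C :=
      { carrier := {u : C | (u : G) ^ p ^ (k - 1) = 1}
        one_mem' := one_pow _
        mul_mem' := fun {a b} ha hb => by
          show ((a : G) * b) ^ _ = 1
          rw [(hCcomm _ a.2 _ b.2).mul_pow, ha, hb, one_mul]
        inv_mem' := fun {a} ha => by
          show ((a : G)⁻¹) ^ _ = 1
          rw [inv_pow, ha, inv_one] }
    have hD : ∀ u : C, Z[(u : G)] = C ↔ u ∉ D := fun u => by
      rw [hgenC]
      refine ⟨fun h hu => ?_, fun h => ?_⟩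
      · have h1 := orderOf_dvd_of_pow_eq_one (show (u : G) ^ p ^ (k - 1) = 1 from hu)
        rw [h, Nat.pow_dvd_pow_iff_le_right hp.one_lt] at h1
        omega
      · have h1 := orderOf_dvd_natCard u
        rw [hk, ← Subgroup.orderOf_coe] at h1
        obtain ⟨i, hi, hie⟩ := (Nat.dvd_prime_pow hp).1 h1
        rcases hi.eq_or_lt with rfl | hlt
        · exact hie
        · exact absurd (orderOf_dvd_iff_pow_eq_one.1
            (hie ▸ pow_dvd_pow p (show i ≤ k - 1 by omega))) h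
    obtain ⟨z, hz⟩ := hsum ⊤
    obtain ⟨z', hz'⟩ := hsum D
    refine ⟨z - z', ?_⟩
    rw [Int.cast_sub, mul_sub, ← hz, ← hz']
    simp only [hD, Subgroup.mem_top, filter_true]
    rw [eq_sub_iff_add_eq, add_comm]
    exact sum_filter_add_sum_filter_not univ (fun u : C => u ∈ D) T
  obtain ⟨z, hz⟩ := hgensum
  refine ⟨z, ?_⟩
  rw [← hC, ← hz]
  refine sum_bij' (fun u hu => ⟨u, (mem_filter.1 hu).2 ▸ Subgroup.mem_zpowers (u : G)⟩)
    (fun u _ => ⟨u, hCQ u.2⟩) (fun u hu => mem_filter.2 ⟨mem_univ _, (mem_filter.1 hu).2⟩)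
    (fun u hu => mem_filter.2 ⟨mem_univ _, (mem_filter.1 hu).2⟩) (fun _ _ => rfl) (fun _ _ => rfl)
    fun u hu => ?_
  refine sum_congr rfl fun s _ => ?_
  rw [hval ⟨u, _⟩ s (mem_filter.1 hu).2]
  rfl

/-- An integer over a `p`-power that is locally integral at `M` is an integer. -/
theorem exists_int_of_local (hM : IsPModular p M) {z : ℂ} {a : ℕ} {n : ℤ}
    (h : (p : ℂ) ^ a * z = n) (hz : MemLocalRing M z) : ∃ k : ℤ, z = k := by
  have hp0 : (p : ℂ) ^ a ≠ 0 := pow_ne_zero _ (Nat.cast_ne_zero.2 hM.1.ne_zero)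
  obtain ⟨k, hk⟩ := pow_dvd_of_memLocalRing hM (k := a) (n := n)
    (by rwa [← h, mul_div_cancel_left₀ _ hp0])
  exact ⟨k, mul_left_cancel₀ hp0 (h.trans (by rw [hk]; push_cast; ring))⟩

/-- **Weighted section functions are generalized characters.** -/
theorem isGeneralized_starFun (hM : IsPModular p M) {W : G → MonoidAlgebra 𝕜 G → ℂ}
    (hW : ∀ (Q : Subgroup G) (f : MonoidAlgebra 𝕜 G), IsPair p (Q, f) →
      ∃ η : Q → ℂ, IsGeneralizedCharacter Q η ∧
        ∀ (u : G) (hu : u ∈ Q) (e : MonoidAlgebra 𝕜 G), PLE p (Z[u], e) (Q, f) → W u e = η ⟨u, hu⟩)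
    (hWG : ∀ g u e, IsBlk 𝕜 C[Z[u]] e → W (g * u * g⁻¹) (cj 𝕜 g e) = W u e)
    (χ : IrrCharacter G) : IsGeneralizedCharacter G (starFun p W χ) := by
  have hcl := isClassFunction_starFun hM hWG χ
  refine isGeneralized_of_restrict_elementary hcl fun E q hq hE => ?_
  haveI : Fintype E := Fintype.ofFinite E
  refine isGeneralized_of_classInner_int (fun e g => by simpa using hcl (e : G) (g : G))
    fun ψ hψ => ?_
  obtain ⟨Q, S, hQE, hSE, hQ, hS, hcomm, hdec⟩ := exists_split (p := p) E hq hE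
  haveI : Fintype Q := Fintype.ofFinite Q
  haveI : Fintype S := Fintype.ofFinite S
  let R : Q → S → ℂ := fun u s => starFun p W χ ((u : G) * s) *
    conj (ψ ⟨(u : G) * s, E.mul_mem (hQE u.2) (hSE s.2)⟩)
  have hbij : Function.Bijective fun y : Q × S =>
      (⟨(y.1 : G) * y.2, E.mul_mem (hQE y.1.2) (hSE y.2.2)⟩ : E) := by
    constructor
    · rintro ⟨u, s⟩ ⟨u', s'⟩ he
      have he' : (u : G) * s = u' * s' := congrArg Subtype.val he
      obtain ⟨n, hn⟩ := hQ u'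
      obtain ⟨m, hm⟩ := hQ u
      obtain ⟨k, -, hk⟩ := (Nat.dvd_prime_pow (Fact.out : p.Prime)).1
        (orderOf_dvd_of_pow_eq_one (show (u : G) ^ p ^ m = 1 by simpa using congrArg Subtype.val hm))
      obtain rfl : u = u' := Subtype.ext (pPart_unique (Fact.out : p.Prime)
        ⟨(s : G), rfl, hcomm _ u.2 _ s.2, ⟨k, hk⟩, hS _ s.2⟩ he'.symm (hcomm _ u'.2 _ s'.2)
        (by simpa using congrArg Subtype.val hn) (hS _ s'.2) (pow_orderOf_eq_one (s' : G)))
      rw [show s = s' from Subtype.ext (mul_left_cancel he')]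
    · rintro ⟨e, he⟩
      obtain ⟨u, hu, s, hs, rfl⟩ := hdec e he
      exact ⟨(⟨u, hu⟩, ⟨s, hs⟩), rfl⟩
  have hsplit : classInner (fun e : E => starFun p W χ (e : G)) ψ =
      (Nat.card Q : ℂ)⁻¹ * (Nat.card S : ℂ)⁻¹ * ∑ u : Q, ∑ s : S, R u s := by
    rw [CfsgLib.Char.classInner_def, ← Nat.card_eq_of_bijective _ hbij, Nat.card_prod,
      Nat.cast_mul, mul_inv, ← Fintype.sum_prod_type']
    exact congrArg _ (hbij.sum_comp _).symm
  -- the order of the `p`-part times the multiplicity is an integer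
  have hint : ∀ u0 ∈ (univ : Finset Q).image (fun u : Q => Z[(u : G)]), ∃ k : ℤ,
      ∑ u ∈ univ.filter (fun u : Q => Z[(u : G)] = u0), ∑ s : S, R u s =
        (Nat.card S : ℂ) * (k : ℂ) := by
    intro C hC
    obtain ⟨u0, -, rfl⟩ := mem_image.1 hC
    exact exists_sum_gen hM hW χ hQE hSE hQ hS hcomm (IsIrrCharacter.isGeneralized hψ) u0.2
  choose! K hK using hint
  obtain ⟨a, ha⟩ := hQ.exists_card_eq
  have hS0 : (Nat.card S : ℂ) ≠ 0 := Nat.cast_ne_zero.2 Nat.card_pos.ne'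
  have hQ0 : (Nat.card Q : ℂ) ≠ 0 := Nat.cast_ne_zero.2 Nat.card_pos.ne'
  refine exists_int_of_local hM (a := a)
    (n := ∑ C ∈ (univ : Finset Q).image (fun u : Q => Z[(u : G)]), K C) ?_ ?_
  · rw [hsplit, ← sum_fiberwise_of_maps_to
      (fun u _ => mem_image_of_mem (fun u : Q => Z[(u : G)]) (mem_univ u)) fun u => ∑ s : S, R u s,
      sum_congr rfl hK, ← mul_sum, ← Nat.cast_pow, ← ha, Int.cast_sum]
    field_simp
  -- and the multiplicity is locally integral
  rw [hsplit, sum_comm, mul_comm (Nat.card Q : ℂ)⁻¹, mul_assoc, mul_sum]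
  have hScard : ¬ p ∣ Nat.card S := fun h => by
    obtain ⟨s, hs⟩ := exists_prime_orderOf_dvd_card' p h
    exact hS _ s.2 (by rw [Subgroup.orderOf_coe, hs])
  refine memLocalRing_mul (memLocalRing_natCast_inv hM hScard) (memLocalRing_sum fun s _ => ?_)
  have hsC : (s : G) ∈ C[Q] :=
    Subgroup.mem_centralizer_iff.2 fun u hu => (hcomm u hu _ s.2).eq
  set K' := Q ⊔ Z[(s : G)] with hK'
  have hK'E : K' ≤ E := sup_le hQE (Subgroup.zpowers_le.2 (hSE s.2))
  haveI : Fintype K' := Fintype.ofFinite _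
  let z : K' := ⟨s, Subgroup.mem_sup_right (Subgroup.mem_zpowers _)⟩
  have hK'c : K' ≤ C[Z[(s : G)]] := by
    rw [hK', sup_le_iff, Subgroup.zpowers_le, mem_cz]
    exact ⟨fun u hu => mem_cz.2 (Subgroup.mem_centralizer_iff.1 hsC u hu), rfl⟩
  have hz : ∀ y, z * y = y * z := fun y => Subtype.ext (mem_cz.1 (hK'c y.2)).symm
  choose w hw hwξ using fun ξ : irrFinset K' => exists_central_scalar (mem_irrFinset.1 ξ.2) hz
  have hψ' : IsCharacter K' fun y : K' => ψ (Subgroup.inclusion hK'E y) :=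
    IsCharacter.comp (IsIrrCharacter.isCharacter hψ) _
  let ι : Q →* K' := Subgroup.inclusion le_sup_left
  have hfun : (fun u : Q => ψ ⟨(u : G) * s, E.mul_mem (hQE u.2) (hSE s.2)⟩) =
      ∑ ξ : irrFinset K', (classInner (fun y : K' => ψ (Subgroup.inclusion hK'E y)) ξ.1 * w ξ) •
        fun u : Q => ξ.1 (ι u) := by
    funext u
    have e1 := congrFun (eq_sum_irr (IsCharacter.isClassFunction hψ')) (z * ι u)
    simp only [Finset.sum_apply, Pi.smul_apply, smul_eq_mul] at e1 ⊢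
    rw [show (⟨(u : G) * s, E.mul_mem (hQE u.2) (hSE s.2)⟩ : E) =
      Subgroup.inclusion hK'E (z * ι u) from Subtype.ext (hcomm _ u.2 _ s.2).eq, e1,
      ← Finset.sum_coe_sort]
    exact sum_congr rfl fun ξ _ => by rw [hwξ ξ]; ring
  have hin : (Nat.card Q : ℂ)⁻¹ * ∑ u : Q, R u s =
      classInner (fun u : Q => wsum W χ (s : G) 1 (u : G))
        (fun u : Q => ψ ⟨(u : G) * s, E.mul_mem (hQE u.2) (hSE s.2)⟩) := by
    rw [CfsgLib.Char.classInner_def]
    congr 1
    refine sum_congr rfl fun u _ => ?_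
    obtain ⟨n, hn⟩ := hQ u
    simp only [R]
    rw [starFun_eq W χ (⟨⟨n, by simpa using congrArg Subtype.val hn⟩, hS _ s.2,
      hcomm _ u.2 _ s.2⟩ : PElt p (u : G) (s : G)) rfl]
  rw [hin, hfun, classInner_sum_right]
  refine memLocalRing_sum fun ξ _ => ?_
  rw [classInner_smul_right]
  refine memLocalRing_mul ?_ (memLocalRing_wsum hM hW hWG χ (hS _ s.2) Q hQ hsC 1 fixBy_one
    (one_mul 1) _ (IsCharacter.comp (IsIrrCharacter.isCharacter (mem_irrFinset.1 ξ.2)) ι))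
  obtain ⟨m, hm⟩ := IsCharacter.exists_classInner_eq_natCast' hψ'
    (IsIrrCharacter.isCharacter (mem_irrFinset.1 ξ.2))
  rw [hm, map_mul, map_natCast]
  exact memLocalRing_mul (natCast_mem_localRing m) (memLocalRing_of_isIntegral
    ((hw ξ).map ((starRingEnd ℂ).toIntAlgHom)))

end CfsgLib.BlockStar
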