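import Cfsg.Agent.Blocks.TraceFormula
import Cfsg.Agent.BrauerPairs.Reduction
import Cfsg.Agent.BrauerPairs.SubgroupIdem
import Mathlib.FieldTheory.IsAlgClosed.Basic
import Mathlib.RingTheory.Nakayama
import Mathlib.RingTheory.Polynomial.ScaleRoots
import Mathlib.RingTheory.OrzechProperty
import Mathlib.Analysis.Complex.Polynomial.Basic

/-!
# Lifting idempotents from the residue group algebra to the group algebra over the local ring

The local ring at `M` is integrally closed in `ℂ`, so monic polynomials over it split; this gives
that the residue field is algebraically closed and that idempotents lift, inside any centralizer.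
-/

set_option autoImplicit false
set_option linter.style.haveILetI false
set_option linter.unusedSectionVars false

namespace CfsgLib.BlockStar

open Cfsg CfsgLib.Block Polynomial CfsgLib.BrauerPairs

universe u

variable {M : Ideal AlgInt} [M.IsPrime]

/-- The local ring contains the roots of its monic polynomials. -/
theorem memLocalRing_of_root {f : (localRing M)[X]} (hf : f.Monic) {z : ℂ}
    (hz : (f.map (localRing M).subtype).IsRoot z) : MemLocalRing M z := by
  classical
  choose a b hb hab using fun i : ℕ => (f.coeff i).2
  set n := f.natDegree with hn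
  set D : AlgInt := ∏ i ∈ Finset.range n, b i with hD
  have hDM : D ∉ M := fun h => by
    obtain ⟨i, -, hi⟩ := Ideal.IsPrime.prod_mem_iff.1 h
    exact hb i hi
  set g : AlgInt[X] := X ^ n + ∑ i ∈ Finset.range n,
    C (a i * (∏ j ∈ (Finset.range n).erase i, b j) * D ^ (n - 1 - i)) * X ^ i with hg
  have hgm : g.Monic := monic_X_pow_add (lt_of_le_of_lt (degree_sum_le _ _) (by
    rw [Finset.sup_lt_iff (by simp)]
    exact fun i hi => lt_of_le_of_lt (degree_C_mul_X_pow_le _ _)
      (by simpa using Finset.mem_range.1 hi)))
  have key : g.eval₂ (algebraMap AlgInt ℂ) ((D : ℂ) * z) = 0 := by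
    have h0 : ∑ i ∈ Finset.range (n + 1), (f.coeff i : ℂ) * z ^ i = 0 := by
      have h1 := hz
      rw [IsRoot.def, eval_eq_sum_range' (n := n + 1)
        (lt_of_le_of_lt natDegree_map_le (Nat.lt_succ_self _))] at h1
      simpa [coeff_map] using h1
    rw [Finset.sum_range_succ, hn, hf.coeff_natDegree, ← hn, OneMemClass.coe_one, one_mul] at h0
    simp only [hg, eval₂_add, eval₂_pow, eval₂_X, eval₂_finsetSum, eval₂_mul, eval₂_C]
    calc _ = (D : ℂ) ^ n * (∑ i ∈ Finset.range n, (f.coeff i : ℂ) * z ^ i + z ^ n) := by
          rw [mul_add, mul_pow, add_comm, Finset.mul_sum]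
          congr 1
          refine Finset.sum_congr rfl fun i hi => ?_
          have hi' := Finset.mem_range.1 hi
          have hbi : (b i : ℂ) ≠ 0 := coe_ne_zero_of_notMem (hb i)
          have hDi : (D : ℂ) = (b i : ℂ) * ((∏ j ∈ (Finset.range n).erase i, b j : AlgInt) : ℂ) := by
            rw [← MulMemClass.coe_mul, Finset.mul_prod_erase _ _ hi]
          obtain ⟨d, hd⟩ : ∃ d, n = i + 1 + d := ⟨n - (i + 1), by omega⟩
          rw [← hab i, show n - 1 - i = d by omega, map_mul, map_mul, map_pow, mul_pow,
            show (D : ℂ) ^ n = (D : ℂ) ^ i * (D : ℂ) * (D : ℂ) ^ d by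
              rw [hd, pow_add, pow_add, pow_one]]
          show (a i : ℂ) * ((∏ j ∈ (Finset.range n).erase i, b j : AlgInt) : ℂ) *
            (D : ℂ) ^ d * ((D : ℂ) ^ i * z ^ i) = _
          set P : ℂ := ((∏ j ∈ (Finset.range n).erase i, b j : AlgInt) : ℂ)
          rw [hDi]
          field_simp
      _ = 0 := by rw [h0, mul_zero]
  have hint : IsIntegral ℤ ((D : ℂ) * z) := by
    have : IsIntegral AlgInt ((D : ℂ) * z) := ⟨g, hgm, key⟩
    haveI : Algebra.IsIntegral ℤ AlgInt :=
      inferInstanceAs (Algebra.IsIntegral ℤ (integralClosure ℤ ℂ))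
    exact isIntegral_trans ((D : ℂ) * z) ‹IsIntegral AlgInt ((D : ℂ) * z)›
  exact ⟨⟨_, hint⟩, D, hDM, mul_div_cancel_left₀ z (coe_ne_zero_of_notMem hDM)⟩

/-- Monic polynomials over the local ring split. -/
theorem exists_factor {f : (localRing M)[X]} (hf : f.Monic) :
    ∃ s : Multiset (localRing M), f = (s.map fun r => X - C r).prod := by
  classical
  set g := f.map (localRing M).subtype with hg
  have hgm : g.Monic := hf.map _
  have hsp : g.Splits := IsAlgClosed.splits g
  have hR : ∀ z ∈ g.roots, MemLocalRing M z := fun z hz =>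
    memLocalRing_of_root hf (isRoot_of_mem_roots hz)
  refine ⟨g.roots.attach.map (fun z => (⟨z.1, hR z.1 z.2⟩ : localRing M)), ?_⟩
  apply Polynomial.map_injective (localRing M).subtype Subtype.coe_injective
  rw [← hg]
  conv_lhs => rw [hsp.eq_prod_roots_of_monic hgm]
  rw [Polynomial.map_multiset_prod, Multiset.map_map]
  congr 1
  rw [Multiset.map_map]
  conv_lhs => rw [← Multiset.attach_map_val g.roots, Multiset.map_map]
  exact Multiset.map_congr rfl fun z _ => by simp

instance isAlgClosed_residue : IsAlgClosed (Residue M) := by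
  refine IsAlgClosed.of_exists_root _ fun f hfm hfi => ?_
  have hsurj : Function.Surjective (res M) := Ideal.Quotient.mk_surjective
  obtain ⟨F, hF, hFd, hFm⟩ := lifts_and_degree_eq_and_monic
    ((mem_lifts _).2 (map_surjective (res M) hsurj f)) hfm
  obtain ⟨s, hs⟩ := exists_factor hFm
  have hpos : 0 < f.natDegree := Irreducible.natDegree_pos hfi
  have hd : F.natDegree = f.natDegree := natDegree_eq_of_degree_eq hFd
  rw [hs, natDegree_multiset_prod_X_sub_C_eq_card] at hd
  obtain ⟨r, hr⟩ := Multiset.card_pos_iff_exists_mem.1 (hd ▸ hpos)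
  refine ⟨res M r, ?_⟩
  rw [← hF]
  exact IsRoot.map (by rw [hs, IsRoot.def, eval_multiset_prod, Multiset.map_map];
                       exact Multiset.prod_eq_zero (Multiset.mem_map.2 ⟨r, hr, by simp⟩))

variable {G : Type u} [Group G]

/-- The group algebra over the local ring. -/
abbrev LA (M : Ideal AlgInt) [M.IsPrime] (G : Type u) [Group G] : Type u :=
  MonoidAlgebra (localRing M) G

/-- Reduction of the group algebra over the local ring. -/
noncomputable def redA : LA M G →+* MonoidAlgebra (Residue M) G :=
  MonoidAlgebra.mapRingHom G (res M)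

@[simp] theorem coeff_redA (a : LA M G) (g : G) : (redA a).coeff g = res M (a.coeff g) := by
  simp [redA]

theorem redA_smul (r : localRing M) (a : LA M G) : redA (r • a) = res M r • redA a := by
  apply coeff_ext; intro g; simp

variable [Fintype G]

/-- An element congruent to one is a unit. -/
theorem isUnit_of_redA_eq_one {v : LA M G} (hv : redA v = 1) : IsUnit v := by
  classical
  let L : LA M G →ₗ[localRing M] LA M G := LinearMap.mulLeft (localRing M) v
  have hfin : Module.Finite (localRing M) (LA M G) :=
    Module.Finite.of_basis (MonoidAlgebra.basis G (localRing M))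
  have hJ : localIdeal M ≤ Ideal.jacobson ⊥ := fun x hx => Ideal.mem_jacobson_bot.2 fun y => by
    refine isUnit_of_res_ne_zero _ ?_
    rw [map_add, map_mul, map_one, show res M x = 0 from Ideal.Quotient.eq_zero_iff_mem.2 hx,
      zero_mul, zero_add]
    exact one_ne_zero
  have hsup : (⊤ : Submodule (localRing M) (LA M G)) ≤
      LinearMap.range L ⊔ localIdeal M • (⊤ : Submodule (localRing M) (LA M G)) := by
    intro a _
    have e : a = v * a + ((1 : LA M G) - v) * a := by rw [sub_mul, one_mul]; abel
    rw [e]
    refine Submodule.add_mem_sup ⟨a, rfl⟩ ?_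
    set d := ((1 : LA M G) - v) * a with hd
    have hd0 : redA d = 0 := by rw [hd, map_mul, map_sub, map_one, hv, sub_self, zero_mul]
    have hde : d = ∑ g : G, d.coeff g • MonoidAlgebra.single g (1 : localRing M) := by
      refine MonoidAlgebra.coeff_injective (Finsupp.ext fun g => ?_)
      rw [MonoidAlgebra.coeff_sum, Finsupp.finsetSum_apply, Finset.sum_eq_single g]
      · simp
      · intro h _ hne; simp [hne]
      · simp
    rw [hde]
    refine Submodule.sum_mem _ fun g _ => Submodule.smul_mem_smul ?_ trivial
    have := congrArg (fun z => z.coeff g) hd0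
    simpa [← Ideal.Quotient.eq_zero_iff_mem] using this
  have hsurj : Function.Surjective L := by
    rw [← LinearMap.range_eq_top, eq_top_iff]
    exact Submodule.le_of_le_smul_of_le_jacobson_bot hfin.fg_top hJ hsup
  have hinj : Function.Injective L := OrzechProperty.injective_of_surjective_endomorphism L hsurj
  obtain ⟨w, hw⟩ := hsurj 1
  exact ⟨⟨v, w, hw, hinj (by
    show v * (w * v) = v * 1
    rw [← mul_assoc, show v * w = 1 from hw, one_mul, mul_one])⟩, rfl⟩

theorem commute_aeval {a c : LA M G} (h : Commute c a) (P : (localRing M)[X]) :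
    Commute c (aeval a P) := by
  induction P using Polynomial.induction_on' with
  | add P Q hP hQ => rw [map_add]; exact hP.add_right hQ
  | monomial n r =>
    rw [aeval_monomial]
    exact Commute.mul_right (Algebra.commutes r c).symm (h.pow_right n)

/-- An element with idempotent reduction is congruent to an idempotent multiple of itself, by a
factor commuting with all that commutes with it. -/
theorem exists_idem_mul {a : LA M G} (ha : redA a * redA a = redA a) :
    ∃ w : LA M G, (∀ c, Commute c a → Commute c w) ∧ a * w * (a * w) = a * w ∧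
      redA (a * w) = redA a := by
  classical
  have hfin : Module.Finite (localRing M) (LA M G) :=
    Module.Finite.of_basis (MonoidAlgebra.basis G (localRing M))
  obtain ⟨f, hfm, hf⟩ := IsIntegral.of_finite (localRing M) a
  obtain ⟨s, hs⟩ := exists_factor hfm
  let s0 := s.filter fun r => res M r = 0
  let s1 := s.filter fun r => ¬ res M r = 0
  set P0' : (localRing M)[X] := (s0.map fun r => X - C r).prod
  set P1 : (localRing M)[X] := (s1.map fun r => X - C r).prod
  have hf0 : aeval a ((X * P0') * P1) = 0 := by
    rw [mul_assoc, ← Multiset.prod_add, ← Multiset.map_add, Multiset.filter_add_not, ← hs, map_mul,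
      show aeval a f = 0 from hf, mul_zero]
  set ā := redA a
  set c : Residue M := ((s1.map fun r => - res M r)).prod
  have hc : c ≠ 0 := Multiset.prod_ne_zero fun h => by
    obtain ⟨r, hr, h⟩ := Multiset.mem_map.1 h
    exact (Multiset.mem_filter.1 hr).2 (neg_eq_zero.1 h)
  have hX : ∀ r, redA (aeval a (X - C r)) = ā - res M r • (1 : MonoidAlgebra (Residue M) G) := by
    intro r
    rw [map_sub, aeval_X, aeval_C, Algebra.algebraMap_eq_smul_one, map_sub, redA_smul, map_one]
  have h0 : redA (aeval a (X * P0')) = ā := by
    have : ∀ t : Multiset (localRing M), (∀ r ∈ t, res M r = 0) →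
        redA (aeval a (X * (t.map fun r => X - C r).prod)) = ā := by
      intro t
      induction t using Multiset.induction with
      | empty => simp [ā]
      | cons r t ih =>
        intro h
        rw [Multiset.map_cons, Multiset.prod_cons, mul_left_comm, map_mul, map_mul, hX,
          ih (fun x hx => h x (Multiset.mem_cons_of_mem hx)), h r (Multiset.mem_cons_self r t),
          zero_smul, sub_zero, ha]
    exact this _ fun r hr => (Multiset.mem_filter.1 hr).2
  obtain ⟨d, h1⟩ : ∃ d : Residue M, redA (aeval a P1) = c • (1 - ā) + d • ā := by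
    have : ∀ t : Multiset (localRing M), ∃ d : Residue M,
        redA (aeval a (t.map fun r => X - C r).prod) =
          ((t.map fun r => - res M r)).prod • (1 - ā) + d • ā := by
      intro t
      induction t using Multiset.induction with
      | empty => exact ⟨1, by simp [sub_add_cancel]⟩
      | cons r t ih =>
        obtain ⟨d, hd⟩ := ih
        refine ⟨(1 - res M r) * d, ?_⟩
        rw [Multiset.map_cons, Multiset.prod_cons, map_mul, map_mul, hX, hd, Multiset.map_cons,
          Multiset.prod_cons]
        simp only [sub_mul, mul_add, mul_sub, smul_mul_assoc, mul_smul_comm, one_mul, mul_one, ha]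
        module
    exact this s1
  have hd : d • ā = 0 := by
    have h := congrArg redA hf0
    rw [map_zero, map_mul, map_mul, h0, h1] at h
    simpa [mul_add, mul_sub, mul_smul_comm, ha] using h
  rw [hd, add_zero] at h1
  obtain ⟨cc, hcc⟩ := Ideal.Quotient.mk_surjective c⁻¹
  set A0 := aeval a (X * P0')
  set W := cc • aeval a P1
  have hv : redA (A0 + W) = 1 := by
    rw [map_add, h0, redA_smul, h1, show res M cc = c⁻¹ from hcc, smul_smul, inv_mul_cancel₀ hc,
      one_smul, add_sub_cancel]
  obtain ⟨v, hveq⟩ := isUnit_of_redA_eq_one hv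
  refine ⟨aeval a P0' * ↑v⁻¹, fun z hz => (commute_aeval hz _).mul_right (Commute.units_inv_right
    (hveq ▸ (commute_aeval hz _).add_right ((commute_aeval hz _).smul_right cc))), ?_, ?_⟩
  · rw [← mul_assoc a (aeval a P0'),
      show a * aeval a P0' = A0 by rw [show A0 = _ from map_mul _ _ _, aeval_X]]
    have hA : Commute A0 (↑v⁻¹ : LA M G) := Commute.units_inv_right (hveq ▸
      (Commute.refl A0).add_right ((commute_aeval
        ((commute_aeval (Commute.refl a) (X * P0')).symm) P1).smul_right cc))
    have h2 : A0 * A0 = A0 * ↑v := by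
      rw [hveq, mul_add, mul_smul_comm,
        show A0 * aeval a P1 = 0 from (map_mul _ _ _).symm.trans hf0, smul_zero, add_zero]
    calc A0 * ↑v⁻¹ * (A0 * ↑v⁻¹) = A0 * A0 * (↑v⁻¹ * ↑v⁻¹) := by
          rw [mul_assoc, ← mul_assoc (↑v⁻¹ : LA M G) A0, ← hA.eq]; simp only [mul_assoc]
      _ = A0 * ↑v⁻¹ := by rw [h2, mul_assoc A0, ← mul_assoc (↑v : LA M G), Units.mul_inv, one_mul]
  · rw [← mul_assoc, show a * aeval a P0' = A0 by rw [show A0 = _ from map_mul _ _ _, aeval_X],
      map_mul, h0]
    have hvi : redA (↑v⁻¹ : LA M G) = 1 := by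
      have := congrArg redA v.mul_inv
      rwa [map_mul, map_one, hveq, hv, one_mul] at this
    rw [hvi, mul_one]

end CfsgLib.BlockStar
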