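import Cfsg.Agent.BlocksB.Star.SectionIntegral
import Cfsg.Agent.BlocksB.SubsectionCor
import Cfsg.Agent.BlocksB.MajorValuation
import Cfsg.Agent.BrauerPairs.Translate

/-!
# Weighted sections and block parts of sections
-/

set_option autoImplicit false
set_option linter.style.haveILetI false
set_option linter.unusedSectionVars false

namespace CfsgLib.BlockStar

open Cfsg Finset CfsgLib.Block CfsgLib.Block.Chr CfsgLib.BrauerPairs CfsgLib.Char CfsgLib.BlockB
open scoped ComplexConjugate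
open scoped Classical

universe u

variable {M : Ideal AlgInt} [M.IsPrime] {p : ℕ} [Fact p.Prime] [CharP (Residue M) p]
  {G : Type u} [Group G] [Fintype G]

local notation "𝕜" => Residue M
local notation "Z[" x "]" => Subgroup.zpowers x
local notation "C[" Q "]" => Subgroup.centralizer (SetLike.coe Q)

theorem sum_subgroupBlockCoeff_mul (H : Subgroup G) [Fintype H] (b : Set (IrrCharacter H))
    (F : G → ℂ) :
    ∑ g : G, subgroupBlockCoeff H b g * F g = ∑ h : H, blockCoeff b h * F (h : G) := by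
  refine (Fintype.sum_of_injective _ Subtype.val_injective _ _ (fun g hg => ?_) fun h => ?_).symm
  · rw [subgroupBlockCoeff_not_mem b fun hm => hg ⟨⟨g, hm⟩, rfl⟩, zero_mul]
  · rw [subgroupBlockCoeff_coe]

/-- The lift of the idempotent of a block of a subgroup. -/
noncomputable def liftBlk {H : Subgroup G} {b : Set (IrrCharacter H)} (hb : IsPBlock M b) :
    LA M G :=
  MonoidAlgebra.ofCoeff (Finsupp.equivFunOnFinite.symm fun g =>
    (⟨subgroupBlockCoeff H b g, memLocalRing_subgroupBlockCoeff hb g⟩ : localRing M))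

@[simp] theorem coeff_liftBlk {H : Subgroup G} {b : Set (IrrCharacter H)} (hb : IsPBlock M b)
    (g : G) : ((liftBlk hb).coeff g : ℂ) = subgroupBlockCoeff H b g := rfl

theorem liftBlk_idem {H : Subgroup G} [Fintype H] {b : Set (IrrCharacter H)}
    (hb : IsPBlock M b) : liftBlk hb * liftBlk hb = liftBlk hb := by
  refine MonoidAlgebra.coeff_injective (Finsupp.ext fun g => Subtype.ext ?_)
  rw [coeff_mul']
  push_cast
  simp only [coeff_liftBlk]
  rw [sum_subgroupBlockCoeff_mul H b fun x => subgroupBlockCoeff H b (x⁻¹ * g)]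
  by_cases hg : g ∈ H
  · obtain ⟨g, rfl⟩ : ∃ h : H, (h : G) = g := ⟨⟨g, hg⟩, rfl⟩
    rw [subgroupBlockCoeff_coe]
    conv_rhs => rw [← conv_blockCoeff_self b]
    refine sum_congr rfl fun h _ => ?_
    rw [show (h : G)⁻¹ * (g : G) = ((h⁻¹ * g : H) : G) from rfl, subgroupBlockCoeff_coe]
  · rw [subgroupBlockCoeff_not_mem b hg]
    refine sum_eq_zero fun h _ => ?_
    rw [subgroupBlockCoeff_not_mem b fun hm => hg (by simpa using H.mul_mem h.2 hm), mul_zero]

theorem redA_liftBlk {H : Subgroup G} {b : Set (IrrCharacter H)} (hb : IsPBlock M b) :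
    redA (liftBlk hb) = idemIn M H b := by
  refine coeff_ext fun g => ?_
  rw [coeff_redA, coeff_idemIn, red_eq (memLocalRing_subgroupBlockCoeff hb g)]
  rfl

theorem commute_liftBlk {H : Subgroup G} [Fintype H] {b : Set (IrrCharacter H)}
    (hb : IsPBlock M b) {y : G} (hy : y ∈ H) :
    Commute (MonoidAlgebra.single y (1 : localRing M)) (liftBlk hb) := by
  refine (commute_single_iff y _).2 fun g => Subtype.ext ?_
  simp only [coeff_liftBlk]
  by_cases hg : g ∈ H
  · rw [show g = ((⟨g, hg⟩ : H) : G) from rfl,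
      show y * ((⟨g, hg⟩ : H) : G) * y⁻¹ = ((⟨y, hy⟩ * ⟨g, hg⟩ * ⟨y, hy⟩⁻¹ : H) : G) from rfl,
      subgroupBlockCoeff_coe, subgroupBlockCoeff_coe, isClassFunction_blockCoeff b]
  · rw [subgroupBlockCoeff_not_mem b hg, subgroupBlockCoeff_not_mem b fun hm => hg ?_]
    rwa [H.mul_mem_cancel_right (H.inv_mem hy), H.mul_mem_cancel_left hy] at hm

theorem orderOf_eq_pow {x s : G} (h : PElt p x s) : ∃ k : ℕ, orderOf x = p ^ k := by
  obtain ⟨n, hn⟩ := h.pow
  obtain ⟨i, -, hi⟩ := (Nat.dvd_prime_pow Fact.out).1 (orderOf_dvd_of_pow_eq_one hn)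
  exact ⟨i, hi⟩

theorem PElt.mem {x s : G} (h : PElt p x s) : s ∈ C[Z[x]] := mem_cz.2 h.comm.eq.symm

/-- The value at the idempotent of a block of the centralizer is the block part of the section. -/
theorem val_idemIn (hM : IsPModular p M) (χ : IrrCharacter G) {x s : G} (h : PElt p x s)
    [Fintype C[Z[x]]] {b : Set (IrrCharacter C[Z[x]])} (hb : IsPBlock M b) :
    val χ x s (idemIn M C[Z[x]] b) = subPart p b x χ ⟨s, h.mem⟩ := by
  have hblk := isBlk_idemIn hM hb
  rw [val_eq hM χ h (liftBlk_idem hb) (commute_liftBlk hb (mem_cz.2 rfl))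
      (commute_liftBlk hb h.mem) hblk.idem (hblk.fixBy.mono (sup_le_cz h)) (by rw [redA_liftBlk hb]),
    subPart_eq_regPart hM hb, regPart_of_not_dvd (by rw [← Subgroup.orderOf_coe]; exact h.reg),
    blockPart_eq_conv b (isClassFunction_secFun (centralizer_zpowers_eq x) χ), sval]
  simp only [coeff_liftBlk]
  rw [sum_subgroupBlockCoeff_mul _ b fun g => (χ : G → ℂ) (g * (s * x))]
  refine sum_congr rfl fun c _ => ?_
  congr 1
  show (χ : G → ℂ) ((c : G) * (s * x)) = (χ : G → ℂ) (x * ((c : G) * s))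
  rw [← mul_assoc]
  exact classFun_mul_comm (isClassFunction_irr χ) _ _

/-- The blocks of a subgroup. -/
noncomputable def blockFinset (M : Ideal AlgInt) (H : Subgroup G) :
    Finset (Set (IrrCharacter H)) :=
  haveI := Fintype.ofFinite H
  letI := irrFintype (G := H)
  (Set.toFinite {b : Set (IrrCharacter H) | IsPBlock M b}).toFinset

theorem mem_blockFinset {H : Subgroup G} {b : Set (IrrCharacter H)} :
    b ∈ blockFinset M H ↔ IsPBlock M b := by
  simp [blockFinset]

theorem sum_blks (hM : IsPModular p M) (x : G) {A : Type*} [AddCommMonoid A]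
    (f : MonoidAlgebra 𝕜 G → A) :
    ∑ e ∈ blks M x, f e = ∑ b ∈ blockFinset M C[Z[x]], f (idemIn M C[Z[x]] b) := by
  symm
  refine sum_bij (fun b _ => idemIn M C[Z[x]] b)
    (fun b hb => mem_blks.2 (isBlk_idemIn hM (mem_blockFinset.1 hb)))
    (fun b hb b' hb' he => idemIn_injective (mem_blockFinset.1 hb) (mem_blockFinset.1 hb') he)
    (fun e he => ?_) fun _ _ => rfl
  obtain ⟨b, hb, hbe⟩ := exists_idemIn_eq hM (mem_blks.1 he)
  exact ⟨b, mem_blockFinset.2 hb, hbe⟩

theorem wsum_one_eq (hM : IsPModular p M) (W : G → MonoidAlgebra 𝕜 G → ℂ) (χ : IrrCharacter G)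
    {x s : G} (h : PElt p x s) [Fintype C[Z[x]]] :
    wsum W χ s 1 x = ∑ b ∈ blockFinset M C[Z[x]],
      W x (idemIn M C[Z[x]] b) * subPart p b x χ ⟨s, h.mem⟩ := by
  rw [wsum, sum_blks hM x]
  refine sum_congr rfl fun b hb => ?_
  rw [br_one, one_mul, val_idemIn hM χ h (mem_blockFinset.1 hb)]

/-- The block parts of a class function add up to it. -/
theorem sum_blockPart {K : Subgroup G} [Fintype K] {θ : K → ℂ}
    (hθ : IsClassFunction K θ) (c : K) : ∑ b ∈ blockFinset M K, blockPart b θ c = θ c := by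
  classical
  letI := irrFintype (G := K)
  simp only [blockPart_eq_sum_inner, sum_filter]
  rw [sum_comm]
  conv_rhs => rw [classFun_expand hθ c]
  refine sum_congr rfl fun ξ _ => ?_
  rw [sum_eq_single (blockOf M (ξ : K → ℂ))]
  · rw [if_pos (mem_blockOf_self ξ)]
  · intro b hb hne
    rw [if_neg fun hm => hne (eq_blockOf_of_mem (mem_blockFinset.1 hb) hm)]
  · intro hn
    exact absurd (mem_blockFinset.2 (isPBlock_blockOf ξ)) hn

/-- The trivial weight gives back the character. -/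
theorem wsum_const_one (hM : IsPModular p M) (χ : IrrCharacter G) {x s : G} (h : PElt p x s) :
    wsum (fun _ (_ : MonoidAlgebra 𝕜 G) => (1 : ℂ)) χ s 1 x = (χ : G → ℂ) (x * s) := by
  classical
  haveI := Fintype.ofFinite C[Z[x]]
  rw [wsum_one_eq hM _ χ h, ← show secFun C[Z[x]] x χ ⟨s, h.mem⟩ = (χ : G → ℂ) (x * s) from rfl,
    ← sum_blockPart (M := M) (isClassFunction_secFun (centralizer_zpowers_eq x) χ) ⟨s, h.mem⟩]
  refine sum_congr rfl fun b hb => ?_
  rw [one_mul, subPart_eq_regPart hM (mem_blockFinset.1 hb),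
    regPart_of_not_dvd (by rw [← Subgroup.orderOf_coe]; exact h.reg)]

/-- The weighted section function on the whole group. -/
noncomputable def starFun (p : ℕ) [Fact p.Prime] (W : G → MonoidAlgebra 𝕜 G → ℂ)
    (χ : IrrCharacter G) (g : G) : ℂ :=
  wsum W χ (exists_pPart (Fact.out : p.Prime) g).choose_spec.choose 1
    (exists_pPart (Fact.out : p.Prime) g).choose

theorem starFun_eq (W : G → MonoidAlgebra 𝕜 G → ℂ) (χ : IrrCharacter G) {g x s : G}
    (h : PElt p x s) (hg : x * s = g) : starFun p W χ g = wsum W χ s 1 x := by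
  obtain ⟨h1, h2, -, -, -, h6, h7, -, -⟩ :=
    (exists_pPart (Fact.out : p.Prime) g).choose_spec.choose_spec
  obtain ⟨n, hn⟩ := h.pow
  have hx := pPart_unique (Fact.out : p.Prime) ⟨_, h1, h2, h7, h6⟩ hg h.comm hn h.reg
    (pow_orderOf_eq_one s)
  exact congrArg₂ (fun t y => wsum W χ t 1 y)
    (mul_left_cancel ((congrArg (· * _) hx.symm).trans (h1.trans hg.symm))) hx

theorem exists_pElt (p : ℕ) [Fact p.Prime] (g : G) : ∃ x s : G, PElt p x s ∧ x * s = g := by
  obtain ⟨x, s, h1, h2, h3, -, -, h6, -, -, -⟩ := exists_pPart (Fact.out : p.Prime) g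
  exact ⟨x, s, ⟨h3, h6, h2⟩, h1⟩

theorem starFun_const_one (hM : IsPModular p M) (χ : IrrCharacter G) :
    starFun p (fun _ (_ : MonoidAlgebra 𝕜 G) => (1 : ℂ)) χ = (χ : G → ℂ) := by
  funext g
  obtain ⟨x, s, h, rfl⟩ := exists_pElt p g
  rw [starFun_eq _ χ h rfl, wsum_const_one hM χ h]

theorem isClassFunction_starFun (hM : IsPModular p M) {W : G → MonoidAlgebra 𝕜 G → ℂ}
    (hWG : ∀ g u e, IsBlk 𝕜 C[Z[u]] e → W (g * u * g⁻¹) (cj 𝕜 g e) = W u e)
    (χ : IrrCharacter G) : IsClassFunction G (starFun p W χ) := by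
  intro a g
  obtain ⟨x, s, h, rfl⟩ := exists_pElt p a
  rw [starFun_eq W χ h rfl, starFun_eq W χ (h.conj g) (by group)]
  have hmem : ∀ {g u : G} {e : MonoidAlgebra 𝕜 G}, IsBlk 𝕜 C[Z[u]] e →
      IsBlk 𝕜 C[Z[g * u * g⁻¹]] (cj 𝕜 g e) := by
    intro g u e he
    have := he.cj g
    rwa [map_conj_centralizer, show Z[u].map (MulAut.conj g).toMonoidHom = Z[g * u * g⁻¹] by
      rw [MonoidHom.map_zpowers]; rfl] at this
  symm
  refine sum_nbij' (fun e => cj 𝕜 g e) (fun e => cj 𝕜 g⁻¹ e)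
    (fun e he => mem_blks.2 (hmem (mem_blks.1 he))) (fun e he => ?_)
    (fun e _ => cj_inv_cj g e) (fun e _ => cj_cj_inv g e) (fun e he => ?_)
  · have := hmem (g := g⁻¹) (mem_blks.1 he)
    rw [show g⁻¹ * (g * x * g⁻¹) * g⁻¹⁻¹ = x by group] at this
    exact mem_blks.2 this
  · have heB := mem_blks.1 he
    rw [hWG g x e heB, br_one, one_mul, br_one, one_mul,
      val_conj hM χ h g heB.idem (heB.fixBy.mono (sup_le_cz h))]

end CfsgLib.BlockStar
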