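import Cfsg.Agent.BlocksB.Star.Generalized
import Cfsg.Agent.BrauerPairs.BlockSystem

/-!
# Weights of stable functions on a maximal pair

A function on the group of a maximal pair that is constant along the maps of the block gives a
weight on the pairs of the block on cyclic subgroups.  Sums over all such pairs become sums over
the group of the maximal pair when the maps are inner.
-/

set_option autoImplicit false
set_option linter.style.haveILetI false
set_option linter.unusedSectionVars false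

namespace CfsgLib.BlockStar

open Cfsg Finset CfsgLib.Block CfsgLib.Block.Chr CfsgLib.BrauerPairs CfsgLib.Char CfsgLib.BlockB
open scoped ComplexConjugate
open scoped Classical

universe u

variable {M : Ideal AlgInt} [M.IsPrime] {p : ℕ} [Fact p.Prime] [CharP (Residue M) p]
  {G : Type u} [Group G] [Fintype G]

local notation "𝕜" => Residue M
local notation "Z[" x "]" => Subgroup.zpowers x
local notation "C[" Q "]" => Subgroup.centralizer (SetLike.coe Q)

variable (p) in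
/-- Constant along the maps of the pair. -/
def Stable (P : Subgroup G) (e : MonoidAlgebra 𝕜 G) (η : G → ℂ) : Prop :=
  ∀ u ∈ P, ∀ g, Carries p (P, e) Z[u] g → η (g * u * g⁻¹) = η u

variable (p) in
/-- The weight of a stable function. -/
noncomputable def weight (P : Subgroup G) (e : MonoidAlgebra 𝕜 G) (η : G → ℂ)
    (x : G) (f : MonoidAlgebra 𝕜 G) : ℂ :=
  if h : ∃ g, PLE p (cjPair g (Z[x], f)) (P, e) then η (h.choose * x * h.choose⁻¹) else 0

theorem cjPair_zpowers (g x : G) (f : MonoidAlgebra 𝕜 G) :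
    cjPair g (Z[x], f) = (Z[g * x * g⁻¹], cj 𝕜 g f) := by
  unfold cjPair
  rw [MonoidHom.map_zpowers]
  rfl

theorem conj_mem_of_ple {P : Subgroup G} {e f : MonoidAlgebra 𝕜 G} {g x : G}
    (h : PLE p (cjPair g (Z[x], f)) (P, e)) : g * x * g⁻¹ ∈ P := by
  rw [cjPair_zpowers] at h
  exact PLE.le h (Subgroup.mem_zpowers _)

variable {P : Subgroup G} {e : MonoidAlgebra (Residue M) G} {η : G → ℂ}

theorem weight_eq (hst : Stable p P e η) {g x : G} {f : MonoidAlgebra 𝕜 G}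
    (h : PLE p (cjPair g (Z[x], f)) (P, e)) : weight p P e η x f = η (g * x * g⁻¹) := by
  have hex : ∃ g, PLE p (cjPair g (Z[x], f)) (P, e) := ⟨g, h⟩
  rw [weight, dif_pos hex]
  set g0 := hex.choose
  have h0 : PLE p (cjPair g0 (Z[x], f)) (P, e) := hex.choose_spec
  have hC : Carries p (P, e) Z[g * x * g⁻¹] (g0 * g⁻¹) := by
    refine ⟨cj 𝕜 g f, by rwa [← cjPair_zpowers], ?_⟩
    rwa [← cjPair_zpowers, ← cjPair_mul, inv_mul_cancel_right]
  have := hst _ (conj_mem_of_ple h) _ hC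
  rw [← this]
  congr 1
  group

theorem weight_conj (hst : Stable p P e η) (g u : G) (f : MonoidAlgebra 𝕜 G) :
    weight p P e η (g * u * g⁻¹) (cj 𝕜 g f) = weight p P e η u f := by
  by_cases h : ∃ a, PLE p (cjPair a (Z[u], f)) (P, e)
  · obtain ⟨a, ha⟩ := h
    rw [weight_eq hst ha, weight_eq hst (g := a * g⁻¹)]
    · congr 1; group
    · rwa [← cjPair_zpowers, ← cjPair_mul, inv_mul_cancel_right]
  · rw [weight, weight, dif_neg h, dif_neg]
    rintro ⟨a, ha⟩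
    exact h ⟨a * g, by rwa [cjPair_mul, cjPair_zpowers g u f]⟩

theorem weight_of_ple (hst : Stable p P e η) {u : G} {f : MonoidAlgebra 𝕜 G}
    (h : PLE p (Z[u], f) (P, e)) : weight p P e η u f = η u := by
  rw [weight_eq hst (g := 1) (by rwa [cjPair_one]), one_mul, inv_one, mul_one]

variable {b : MonoidAlgebra (Residue M) G}

theorem exists_conj_iff_isPairOf (hb : IsBlk 𝕜 ⊤ b) (hmax : IsMaxPair p b (P, e))
    {Q : Subgroup G} {f : MonoidAlgebra 𝕜 G} (hQ : IsPair p (Q, f)) :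
    (∃ g, PLE p (cjPair g (Q, f)) (P, e)) ↔ IsPairOf p b (Q, f) := by
  refine ⟨fun ⟨g, hg⟩ => ?_, fun h => exists_conj_ple_max hb hmax h⟩
  have := ((isPairOf_iff_of_ple hb hg hmax.1.1).2 hmax.1).cj hb g⁻¹
  rwa [← cjPair_mul, inv_mul_cancel, cjPair_one] at this

theorem weight_eq_zero (hb : IsBlk 𝕜 ⊤ b) (hmax : IsMaxPair p b (P, e)) {u : G}
    {f : MonoidAlgebra 𝕜 G} (hu : IsPair p (Z[u], f)) (h : ¬ IsPairOf p b (Z[u], f)) :
    weight p P e η u f = 0 := by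
  rw [weight, dif_neg fun h' => h ((exists_conj_iff_isPairOf hb hmax hu).1 h')]

/-- The weight of a stable generalized character is admissible. -/
theorem weight_admissible (hb : IsBlk 𝕜 ⊤ b) (hmax : IsMaxPair p b (P, e)) (hst : Stable p P e η)
    (hη : IsGeneralizedCharacter P fun u : P => η u) (Q : Subgroup G) (f : MonoidAlgebra 𝕜 G)
    (hQ : IsPair p (Q, f)) :
    ∃ θ : Q → ℂ, IsGeneralizedCharacter Q θ ∧ ∀ (u : G) (hu : u ∈ Q) (d : MonoidAlgebra 𝕜 G),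
      PLE p (Z[u], d) (Q, f) → weight p P e η u d = θ ⟨u, hu⟩ := by
  by_cases h : ∃ g, PLE p (cjPair g (Q, f)) (P, e)
  · obtain ⟨g, hg⟩ := h
    have hmem : ∀ q : Q, g * (q : G) * g⁻¹ ∈ P := fun q => PLE.le hg ⟨q, q.2, rfl⟩
    let κ : Q →* P := MonoidHom.mk' (fun q => ⟨g * (q : G) * g⁻¹, hmem q⟩) fun a c =>
      Subtype.ext (by show g * ((a : G) * c) * g⁻¹ = g * a * g⁻¹ * (g * c * g⁻¹); group)
    exact ⟨_, IsGeneralized.comp hη κ, fun u hu d hd => weight_eq hst ((hd.cj g).trans hg)⟩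
  · refine ⟨0, isGeneralized_zero, fun u hu d hd => weight_eq_zero hb hmax (PLE.isPair hd hQ) fun hp =>
      h ((exists_conj_iff_isPairOf hb hmax hQ).2 ((isPairOf_iff_of_ple hb hd hQ).1 hp))⟩

/-- The section function of a stable generalized character is a generalized character. -/
theorem isGeneralized_starFun_weight (hM : IsPModular p M) (hb : IsBlk 𝕜 ⊤ b)
    (hmax : IsMaxPair p b (P, e)) (hst : Stable p P e η)
    (hη : IsGeneralizedCharacter P fun u : P => η u) (χ : IrrCharacter G) :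
    IsGeneralizedCharacter G (starFun p (weight p P e η) χ) :=
  isGeneralized_starFun hM (weight_admissible hb hmax hst hη) (fun g u f _ => weight_conj hst g u f) χ

variable (p) in
/-- The contribution of a subsection in the residue group algebra. -/
noncomputable def contribR (χ ψ : IrrCharacter G) (x : G)
    (e : MonoidAlgebra 𝕜 G) : ℂ :=
  (Nat.card C[Z[x]] : ℂ)⁻¹ * ∑ s ∈ univ.filter (fun s : G => s ∈ C[Z[x]] ∧ ¬ p ∣ orderOf s),
    val χ x s e * conj (val ψ x s e)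

theorem contribR_idemIn (hM : IsPModular p M) (χ ψ : IrrCharacter G) {x : G} (hx : x ∈ pSet p G)
    {c : Set (IrrCharacter C[Z[x]])} (hc : IsPBlock M c) :
    contribR p χ ψ x (idemIn M C[Z[x]] c) = contrib p c x χ ψ := by
  rw [contribR, contrib, CfsgLib.Char.classInner_def]
  congr 1
  calc ∑ s ∈ univ.filter (fun s : G => s ∈ C[Z[x]] ∧ ¬ p ∣ orderOf s),
        val χ x s (idemIn M C[Z[x]] c) * conj (val ψ x s (idemIn M C[Z[x]] c))
      = ∑ s ∈ (univ : Finset C[Z[x]]).filter (fun s => ¬ p ∣ orderOf s),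
          subPart p c x χ s * conj (subPart p c x ψ s) := by
        refine sum_bij' (fun s hs => ⟨s, (mem_filter.1 hs).2.1⟩) (fun s _ => (s : G))
          (fun s hs => mem_filter.2 ⟨mem_univ _, by
            rw [← Subgroup.orderOf_coe]; exact (mem_filter.1 hs).2.2⟩)
          (fun s hs => mem_filter.2 ⟨mem_univ _, s.2, by
            rw [Subgroup.orderOf_coe]; exact (mem_filter.1 hs).2⟩)
          (fun _ _ => rfl) (fun _ _ => rfl) fun s hs => ?_
        obtain ⟨-, hsC, hsr⟩ := mem_filter.1 hs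
        have h : PElt p x s := ⟨mem_pSet.1 hx, hsr, (mem_cz.1 hsC).symm⟩
        rw [val_idemIn hM χ h hc, val_idemIn hM ψ h hc]
    _ = _ := sum_filter_of_ne fun s _ hne hd => hne (by
        rw [subPart_eq_zero_of_dvd hM hc χ hd, zero_mul])

theorem contribR_conj (hM : IsPModular p M) (χ ψ : IrrCharacter G) {x : G} (hx : x ∈ pSet p G)
    {f : MonoidAlgebra 𝕜 G} (hf : IsBlk 𝕜 C[Z[x]] f) (g : G) :
    contribR p χ ψ (g * x * g⁻¹) (cj 𝕜 g f) = contribR p χ ψ x f := by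
  have hC : C[Z[x]].map (MulAut.conj g).toMonoidHom = C[Z[g * x * g⁻¹]] := by
    rw [map_conj_centralizer, MonoidHom.map_zpowers]; rfl
  rw [contribR, contribR, ← hC, Subgroup.card_map_of_injective (MulEquiv.injective _)]
  congr 1
  symm
  refine sum_nbij' (fun s => g * s * g⁻¹) (fun s => g⁻¹ * s * g) ?_ ?_
    (fun s _ => by group) (fun s _ => by group) ?_
  · intro s hs
    obtain ⟨-, h1, h2⟩ := mem_filter.1 hs
    refine mem_filter.2 ⟨mem_univ _, ⟨s, h1, rfl⟩, ?_⟩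
    rwa [show g * s * g⁻¹ = (MulAut.conj g).toMonoidHom s from rfl,
      orderOf_injective _ (MulAut.conj g).injective]
  · intro s hs
    obtain ⟨-, ⟨t, h1, rfl⟩, h2⟩ := mem_filter.1 hs
    rw [orderOf_injective _ (MulAut.conj g).injective] at h2
    refine mem_filter.2 ⟨mem_univ _, ?_, ?_⟩ <;>
      simp only [MulEquiv.coe_toMonoidHom, MulAut.conj_apply] <;> group <;> assumption
  · intro s hs
    obtain ⟨-, h1, h2⟩ := mem_filter.1 hs
    have h : PElt p x s := ⟨mem_pSet.1 hx, h2, (mem_cz.1 h1).symm⟩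
    rw [val_conj hM χ h g hf.idem (hf.fixBy.mono (sup_le_cz h)),
      val_conj hM ψ h g hf.idem (hf.fixBy.mono (sup_le_cz h))]

theorem classInner_starFun' (hM : IsPModular p M) (W W' : G → MonoidAlgebra 𝕜 G → ℂ)
    (χ ψ : IrrCharacter G) :
    classInner (starFun p W χ) (starFun p W' ψ) = (Nat.card G : ℂ)⁻¹ *
      ∑ x ∈ pSet p G, (Nat.card C[Z[x]] : ℂ) *
        ∑ f ∈ blks M x, W x f * conj (W' x f) * contribR p χ ψ x f := by
  rw [classInner_starFun hM W W' χ ψ]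
  congr 1
  refine sum_congr rfl fun x hx => ?_
  rw [sum_blks hM x]
  congr 1
  exact sum_congr rfl fun c hc => by rw [contribR_idemIn hM χ ψ hx (mem_blockFinset.1 hc)]

/-- The second main theorem for the residue contributions. -/
theorem contribR_eq_zero (hM : IsPModular p M) {B : Set (IrrCharacter G)} (hB : IsPBlock M B)
    {χ ψ : IrrCharacter G} (hχψ : χ ∈ B ∨ ψ ∈ B) {x : G} (hx : x ∈ pSet p G)
    {f : MonoidAlgebra 𝕜 G} (hf : IsBlk 𝕜 C[Z[x]] f)
    (h : ¬ IsPairOf p (idem M B) (Z[x], f)) : contribR p χ ψ x f = 0 := by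
  obtain ⟨n, hn⟩ := mem_pSet.1 hx
  have hP : PElt p x 1 := ⟨⟨n, hn⟩, by rw [orderOf_one]; exact hM.1.not_dvd_one,
    Commute.one_right x⟩
  obtain ⟨c, hc, rfl⟩ := exists_idemIn_eq hM hf
  obtain ⟨b, ⟨hb, hbp⟩, -⟩ := existsUnique_isPairOf (x := (Z[x], idemIn M C[Z[x]] c))
    (show IsPair p _ from ⟨hP.isPGroup, hf⟩)
  obtain ⟨B', hB', rfl⟩ := exists_idem_eq hM hb
  have hind := isInducedBlock_of_isBrauerPairOf hM (zpowers_le_centralizer_zpowers x)
    ((isBrauerPairOf_iff hM).2 ⟨⟨hP.isPGroup, hc⟩, hB', hbp⟩)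
  obtain ⟨k, hk⟩ := orderOf_eq_pow hP
  have hne : ∀ φ ∈ B, φ ∉ B' := fun φ hφ hφ' => h (block_eq_of_common hB hB' hφ hφ' ▸ hbp)
  rw [contribR_idemIn hM χ ψ hx hc, contrib]
  rcases hχψ with hm | hm <;>
    rw [subPart_eq_zero_of_not_mem hM (centralizer_zpowers_eq x) hk hind (hne _ hm)] <;> simp

variable (p) in
/-- The unique pair below the maximal pair on a cyclic subgroup. -/
noncomputable def subBlk (P : Subgroup G) (e : MonoidAlgebra 𝕜 G) (u : G) :
    MonoidAlgebra 𝕜 G :=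
  if h : ∃ f, PLE p (Z[u], f) (P, e) then h.choose else 0

theorem subBlk_ple (hP : IsPair p (P, e)) {u : G} (hu : u ∈ P) :
    PLE p (Z[u], subBlk p P e u) (P, e) := by
  obtain ⟨f, hf, -⟩ := existsUnique_ple hP (Subgroup.zpowers_le.2 hu)
  have h : ∃ f, PLE p (Z[u], f) (P, e) := ⟨f, hf⟩
  rw [subBlk, dif_pos h]
  exact h.choose_spec

theorem mem_pSet_of_mem (hP : IsPair p (P, e)) {u : G} (hu : u ∈ P) : u ∈ pSet p G := by
  obtain ⟨n, hn⟩ := hP.1 ⟨u, hu⟩
  exact mem_pSet.2 ⟨n, by simpa using congrArg Subtype.val hn⟩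

theorem cj_subBlk_of_mem (hP : IsPair p (P, e)) {u c : G} (hu : u ∈ P) (hc : c ∈ C[Z[u]]) :
    cj 𝕜 c (subBlk p P e u) = subBlk p P e u :=
  (PLE.isPair (subBlk_ple hP hu) hP).2.fixBy c hc

theorem subBlk_conj (hP : IsPair p (P, e)) {u w : G} (hu : u ∈ P) (hw : w ∈ P) :
    cj 𝕜 w (subBlk p P e u) = subBlk p P e (w * u * w⁻¹) := by
  have h := (subBlk_ple hP hu).cj w
  rw [cjPair_self_of_mem hP hw, cjPair_zpowers] at h
  exact ple_unique hP h (subBlk_ple hP (P.mul_mem (P.mul_mem hw hu) (P.inv_mem hw)))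

/-- A stabilizer count. -/
theorem card_filter_conj_eq (P : Subgroup G) [Fintype P] {u v : G}
    (w : P) (hw : (w : G) * u * (w : G)⁻¹ = v) :
    ((univ : Finset P).filter fun a : P => (a : G) * u * (a : G)⁻¹ = v).card =
      Nat.card (P ⊓ C[Z[v]] : Subgroup G) := by
  rw [Nat.card_eq_fintype_card, ← Fintype.card_coe]
  refine Fintype.card_congr
    { toFun := fun a => ⟨(a.1 * w⁻¹ : P), (a.1 * w⁻¹).2, mem_cz.2 ?_⟩
      invFun := fun c => ⟨⟨c.1, c.2.1⟩ * w, mem_filter.2 ⟨mem_univ _, ?_⟩⟩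
      left_inv := fun a => Subtype.ext (Subtype.ext (by simp))
      right_inv := fun c => Subtype.ext (by simp) }
  · have ha := (mem_filter.1 a.2).2
    show (a.1 : G) * (w : G)⁻¹ * v = v * ((a.1 : G) * (w : G)⁻¹)
    have e1 : (w : G)⁻¹ * v = u * (w : G)⁻¹ := by rw [← hw]; group
    rw [mul_assoc, e1]
    calc (a.1 : G) * (u * (w : G)⁻¹)
        = (a.1 : G) * u * (a.1 : G)⁻¹ * ((a.1 : G) * (w : G)⁻¹) := by group
      _ = v * ((a.1 : G) * (w : G)⁻¹) := by rw [ha]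
  · have hc := mem_cz.1 c.2.2
    show (c.1 * w : G) * u * (c.1 * w : G)⁻¹ = v
    rw [mul_inv_rev, show c.1 * (w : G) * u * ((w : G)⁻¹ * c.1⁻¹) =
      c.1 * ((w : G) * u * (w : G)⁻¹) * c.1⁻¹ by group, hw, hc, mul_inv_cancel_right]

/-- **Sums over the subsections of a block with inner maps.** -/
theorem sum_pairs_eq (hb : IsBlk 𝕜 ⊤ b) (hmax : IsMaxPair p b (P, e))
    (hinner : ∀ u ∈ P, ∀ g, Carries p (P, e) Z[u] g → ∃ w ∈ P, g * u * g⁻¹ = w * u * w⁻¹)
    [Fintype P] (F : G → MonoidAlgebra 𝕜 G → ℂ)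
    (hF0 : ∀ x ∈ pSet p G, ∀ f ∈ blks M x, ¬ IsPairOf p b (Z[x], f) → F x f = 0)
    (hFG : ∀ x ∈ pSet p G, ∀ f ∈ blks M x, ∀ g, F (g * x * g⁻¹) (cj 𝕜 g f) = F x f) :
    (Nat.card P : ℂ) * ∑ x ∈ pSet p G, (Nat.card C[Z[x]] : ℂ) * ∑ f ∈ blks M x, F x f =
      (Nat.card G : ℂ) * ∑ u : P, (Nat.card (P ⊓ C[Z[(u : G)]] : Subgroup G) : ℂ) *
        F (u : G) (subBlk p P e (u : G)) := by
  have hP : IsPair p (P, e) := hmax.1.1
  set E := fun u : G => subBlk p P e u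
  set T := (pSet p G).sigma fun x => blks M x
  let Ψ : G × P → (_ : G) × MonoidAlgebra 𝕜 G := fun y =>
    ⟨y.1 * (y.2 : G) * y.1⁻¹, cj 𝕜 y.1 (E y.2)⟩
  have hEblk : ∀ u : P, E u ∈ blks M (u : G) := fun u =>
    mem_blks.2 (PLE.isPair (subBlk_ple hP u.2) hP).2
  have hΨ : ∀ y ∈ (univ : Finset (G × P)), Ψ y ∈ T := fun y _ => by
    refine mem_sigma.2 ⟨?_, ?_⟩
    · obtain ⟨n, hn⟩ := mem_pSet.1 (mem_pSet_of_mem hP y.2.2)
      exact mem_pSet.2 ⟨n, by rw [conj_pow, hn, mul_one, mul_inv_cancel]⟩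
    · have := (mem_blks.1 (hEblk y.2)).cj y.1
      rw [map_conj_centralizer, MonoidHom.map_zpowers] at this
      exact mem_blks.2 this
  -- the weighted sum over the group times the subgroup
  have h1 : (Nat.card G : ℂ) * ∑ u : P, (Nat.card (P ⊓ C[Z[(u : G)]] : Subgroup G) : ℂ) *
      F (u : G) (E u) = ∑ y : G × P,
        (Nat.card (P ⊓ C[Z[(y.2 : G)]] : Subgroup G) : ℂ) * F (Ψ y).1 (Ψ y).2 := by
    rw [Fintype.sum_prod_type]
    have : ∀ g : G, ∑ u : P, (Nat.card (P ⊓ C[Z[(u : G)]] : Subgroup G) : ℂ) *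
        F (Ψ (g, u)).1 (Ψ (g, u)).2 = ∑ u : P,
          (Nat.card (P ⊓ C[Z[(u : G)]] : Subgroup G) : ℂ) * F (u : G) (E u) := fun g =>
      sum_congr rfl fun u _ => by
        rw [hFG _ (mem_pSet_of_mem hP u.2) _ (hEblk u) g]
    rw [sum_congr rfl fun g _ => this g, sum_const, card_univ, nsmul_eq_mul,
      Nat.card_eq_fintype_card]
  rw [h1, ← sum_fiberwise_of_maps_to hΨ fun y =>
    (Nat.card (P ⊓ C[Z[(y.2 : G)]] : Subgroup G) : ℂ) * F (Ψ y).1 (Ψ y).2]
  simp only [mul_sum]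
  rw [Finset.sum_sigma']
  refine sum_congr rfl fun t ht => ?_
  obtain ⟨x, f⟩ := t
  obtain ⟨hx, hf⟩ := mem_sigma.1 ht
  have hval : ∀ y ∈ univ.filter (fun y => Ψ y = ⟨x, f⟩),
      (Nat.card (P ⊓ C[Z[(y.2 : G)]] : Subgroup G) : ℂ) * F (Ψ y).1 (Ψ y).2 =
        (Nat.card (P ⊓ C[Z[(y.2 : G)]] : Subgroup G) : ℂ) * F x f := fun y hy => by
    rw [(mem_filter.1 hy).2]
  rw [sum_congr rfl hval, ← sum_mul]
  dsimp only
  by_cases hpair : IsPairOf p b (Z[x], f)
  swap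
  · rw [hF0 x hx f hf hpair, mul_zero, mul_zero, mul_zero]
  rw [← mul_assoc]
  congr 1
  obtain ⟨a, ha⟩ := exists_conj_ple_max hb hmax hpair
  rw [cjPair_zpowers] at ha
  set u0 := a * x * a⁻¹ with hu0
  have hu0P : u0 ∈ P := PLE.le ha (Subgroup.mem_zpowers _)
  have hfE : E u0 = cj 𝕜 a f := ple_unique hP (subBlk_ple hP hu0P) ha
  let Y := univ.filter fun y => Ψ y = (⟨x, f⟩ : (_ : G) × MonoidAlgebra 𝕜 G)
  let K : Finset (P × C[Z[x]]) := univ
  let Λ : P × C[Z[x]] → G × P := fun z =>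
    ((z.2 : G) * a⁻¹ * (z.1 : G)⁻¹,
      ⟨(z.1 : G) * u0 * (z.1 : G)⁻¹, P.mul_mem (P.mul_mem z.1.2 hu0P) (P.inv_mem z.1.2)⟩)
  have hΛ : ∀ z ∈ K, Λ z ∈ Y := fun z _ => by
    refine mem_filter.2 ⟨mem_univ _, Sigma.ext ?_ (heq_of_eq ?_)⟩
    · show ((z.2 : G) * a⁻¹ * (z.1 : G)⁻¹) * ((z.1 : G) * u0 * (z.1 : G)⁻¹) *
        ((z.2 : G) * a⁻¹ * (z.1 : G)⁻¹)⁻¹ = x
      rw [hu0, show ((z.2 : G) * a⁻¹ * (z.1 : G)⁻¹) * ((z.1 : G) * (a * x * a⁻¹) * (z.1 : G)⁻¹) *
        ((z.2 : G) * a⁻¹ * (z.1 : G)⁻¹)⁻¹ = (z.2 : G) * x * (z.2 : G)⁻¹ by group,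
        mem_cz.1 z.2.2, mul_inv_cancel_right]
    · show cj 𝕜 ((z.2 : G) * a⁻¹ * (z.1 : G)⁻¹) (E ((z.1 : G) * u0 * (z.1 : G)⁻¹)) = f
      rw [show E ((z.1 : G) * u0 * (z.1 : G)⁻¹) = cj 𝕜 (z.1 : G) (E u0) from
          (subBlk_conj hP hu0P z.1.2).symm, ← cj_mul, inv_mul_cancel_right, cj_mul, hfE, cj_inv_cj,
        (mem_blks.1 hf).fixBy _ z.2.2]
  have hfib : ∀ y ∈ Y, ((K.filter fun z => Λ z = y).card) =
      Nat.card (P ⊓ C[Z[(y.2 : G)]] : Subgroup G) := by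
    rintro ⟨g, u⟩ hy
    obtain ⟨h1, h2⟩ := Sigma.mk.inj_iff.1 (mem_filter.1 hy).2
    have h2' : cj 𝕜 g (E u) = f := eq_of_heq h2
    have hC : Carries p (P, e) Z[u0] (g⁻¹ * a⁻¹) := by
      refine ⟨E u0, subBlk_ple hP hu0P, ?_⟩
      rw [cjPair_zpowers, hfE, ← cj_mul, inv_mul_cancel_right, ← h2', cj_inv_cj,
        show g⁻¹ * a⁻¹ * u0 * (g⁻¹ * a⁻¹)⁻¹ = (u : G) by rw [hu0, ← h1]; group]
      exact subBlk_ple hP u.2
    obtain ⟨w, hw, hwe⟩ := hinner u0 hu0P _ hC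
    have hw' : w * u0 * w⁻¹ = (u : G) := by
      rw [← hwe, hu0, ← h1]; group
    rw [← card_filter_conj_eq P ⟨w, hw⟩ hw']
    refine card_bij' (fun z _ => z.1) (fun q hq => (q, ⟨g * (q : G) * a, ?_⟩)) ?_ ?_ ?_ ?_
    · rw [mem_cz]
      have hq' : (q : G) * u0 * (q : G)⁻¹ = (u : G) := (mem_filter.1 hq).2
      conv_rhs => rw [← h1, ← hq', hu0]
      group
    · intro z hz
      exact mem_filter.2 ⟨mem_univ _, congrArg (fun y : G × P => (y.2 : G)) (mem_filter.1 hz).2⟩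
    · intro q hq
      refine mem_filter.2 ⟨mem_univ _, Prod.ext ?_ (Subtype.ext (mem_filter.1 hq).2)⟩
      show g * (q : G) * a * a⁻¹ * (q : G)⁻¹ = g
      group
    · intro z hz
      refine Prod.ext rfl (Subtype.ext ?_)
      have : (Λ z).1 = g := congrArg Prod.fst (mem_filter.1 hz).2
      show g * (z.1 : G) * a = (z.2 : G)
      rw [← this]
      show (z.2 : G) * a⁻¹ * (z.1 : G)⁻¹ * (z.1 : G) * a = (z.2 : G)
      group
    · exact fun q _ => rfl
  have hcount := card_eq_sum_card_fiberwise hΛ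
  rw [sum_congr rfl hfib] at hcount
  rw [← Nat.cast_sum, ← Nat.cast_mul, ← hcount]
  simp [K, Nat.card_eq_fintype_card]

/-- The inner product of two section functions of stable weights of a block with inner maps. -/
theorem classInner_starFun_inner (hM : IsPModular p M) {B : Set (IrrCharacter G)}
    (hB : IsPBlock M B) (hmax : IsMaxPair p (idem M B) (P, e))
    (hinner : ∀ u ∈ P, ∀ g, Carries p (P, e) Z[u] g → ∃ w ∈ P, g * u * g⁻¹ = w * u * w⁻¹)
    [Fintype P] {χ ψ : IrrCharacter G} (hχψ : χ ∈ B ∨ ψ ∈ B) (W W' : G → MonoidAlgebra 𝕜 G → ℂ)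
    (hW : ∀ g u f, W (g * u * g⁻¹) (cj 𝕜 g f) = W u f)
    (hW' : ∀ g u f, W' (g * u * g⁻¹) (cj 𝕜 g f) = W' u f) :
    classInner (starFun p W χ) (starFun p W' ψ) = (Nat.card P : ℂ)⁻¹ *
      ∑ u : P, W (u : G) (subBlk p P e (u : G)) * conj (W' (u : G) (subBlk p P e (u : G))) *
        ((Nat.card (P ⊓ C[Z[(u : G)]] : Subgroup G) : ℂ) *
          contribR p χ ψ (u : G) (subBlk p P e (u : G))) := by
  have h := sum_pairs_eq (isBlk_idem hM hB) hmax hinner
    (fun x f => W x f * conj (W' x f) * contribR p χ ψ x f)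
    (fun x hx f hf hn => by rw [contribR_eq_zero hM hB hχψ hx (mem_blks.1 hf) hn, mul_zero])
    (fun x hx f hf g => by rw [hW, hW', contribR_conj hM χ ψ hx (mem_blks.1 hf) g])
  rw [classInner_starFun' hM W W' χ ψ]
  have hP0 : (Nat.card P : ℂ) ≠ 0 := Nat.cast_ne_zero.2 Nat.card_pos.ne'
  have hG0 : (Nat.card G : ℂ) ≠ 0 := Nat.cast_ne_zero.2 Nat.card_pos.ne'
  rw [eq_inv_mul_iff_mul_eq₀ hP0, mul_left_comm, h, inv_mul_cancel_left₀ hG0]
  exact sum_congr rfl fun u _ => by ring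

end CfsgLib.BlockStar
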