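import Cfsg.Agent.BlocksB.Star.Bridge

/-!
# Inner products of weighted section functions
-/

set_option autoImplicit false
set_option linter.style.haveILetI false
set_option linter.unusedSectionVars false

namespace CfsgLib.BlockStar

open Cfsg Finset CfsgLib.Block CfsgLib.Block.Chr CfsgLib.BrauerPairs CfsgLib.Char CfsgLib.BlockB
open scoped ComplexConjugate
open scoped Classical

universe u

variable {M : Ideal AlgInt} [M.IsPrime] {p : ℕ} [Fact p.Prime] [CharP (Residue M) p]
  {G : Type u} [Group G] [Fintype G]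

local notation "𝕜" => Residue M
local notation "Z[" x "]" => Subgroup.zpowers x
local notation "C[" Q "]" => Subgroup.centralizer (SetLike.coe Q)

/-- The elements of `p`-power order. -/
noncomputable def pSet (p : ℕ) (G : Type u) [Group G] [Fintype G] : Finset G :=
  univ.filter fun x => ∃ n : ℕ, x ^ p ^ n = 1

theorem mem_pSet {x : G} : x ∈ pSet p G ↔ ∃ n : ℕ, x ^ p ^ n = 1 := by simp [pSet]

theorem pElt_of_mem {x : G} (hx : x ∈ pSet p G) (s : C[Z[x]]) (hs : ¬ p ∣ orderOf s) :
    PElt p x (s : G) :=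
  ⟨mem_pSet.1 hx, by rwa [Subgroup.orderOf_coe], (mem_cz.1 s.2).symm⟩

/-- A sum over the group is a sum over `p`-sections. -/
theorem sum_eq_sum_sections (F : G → ℂ) :
    ∑ g, F g = ∑ x ∈ pSet p G, ∑ s : C[Z[x]], if p ∣ orderOf s then 0 else F (x * s) := by
  have h1 : ∀ x : G, ∑ s : C[Z[x]], (if p ∣ orderOf s then 0 else F (x * s)) =
      ∑ s ∈ (univ : Finset C[Z[x]]).filter (fun s => ¬ p ∣ orderOf s), F (x * s) := by
    intro x
    rw [sum_filter]
    exact sum_congr rfl fun s _ => (ite_not _ _ _).symm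
  simp only [h1]
  rw [Finset.sum_sigma']
  symm
  refine sum_bij (fun a _ => a.1 * (a.2 : G)) (fun _ _ => mem_univ _) (fun a ha b hb he => ?_)
    (fun g _ => ?_) fun _ _ => rfl
  · obtain ⟨x, s⟩ := a
    obtain ⟨y, t⟩ := b
    simp only [mem_sigma, mem_filter, mem_univ, true_and] at ha hb he
    have h := pElt_of_mem ha.1 s ha.2
    have h' := pElt_of_mem hb.1 t hb.2
    obtain ⟨n, hn⟩ := h'.pow
    obtain ⟨k, hk⟩ := orderOf_eq_pow h
    obtain rfl := pPart_unique (Fact.out : p.Prime) ⟨(s : G), rfl, h.comm, ⟨k, hk⟩, h.reg⟩ he.symm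
      h'.comm hn h'.reg (pow_orderOf_eq_one (t : G))
    obtain rfl := Subtype.ext (mul_left_cancel he)
    rfl
  · obtain ⟨x, s, h, rfl⟩ := exists_pElt p g
    exact ⟨⟨x, ⟨s, h.mem⟩⟩, mem_sigma.2 ⟨mem_pSet.2 h.pow, mem_filter.2 ⟨mem_univ _,
      by rw [← Subgroup.orderOf_coe]; exact h.reg⟩⟩, rfl⟩

theorem classInner_subPart_of_ne {H : Subgroup G} [Fintype H] {y : G} {b b' : Set (IrrCharacter H)}
    (hb : IsPBlock M b) (hb' : IsPBlock M b') (hne : b ≠ b') (χ ψ : IrrCharacter G) :
    classInner (subPart p b y χ) (subPart p b' y ψ) = 0 := by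
  letI := irrFintype (G := H)
  have hexp : subPart p b' y ψ = ∑ ξ ∈ univ.filter (· ∈ b'),
      classInner (regPart p (secFun H y ψ)) (ξ : H → ℂ) • (ξ : H → ℂ) := by
    funext s
    rw [Finset.sum_apply, subPart, blockPart_eq_sum_inner]
    rfl
  rw [hexp, classInner_sum_right]
  refine sum_eq_zero fun ξ hξ => ?_
  rw [classInner_smul_right, subPart, classInner_blockPart,
    if_neg fun h => hne (block_eq_of_common hb hb' h (mem_filter.1 hξ).2), mul_zero]

theorem conj_ite_zero {q : Prop} [Decidable q] (a : ℂ) :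
    conj (if q then 0 else a) = if q then 0 else conj a := by
  split_ifs <;> simp

/-- **The inner product of two weighted section functions.** -/
theorem classInner_starFun (hM : IsPModular p M) (W W' : G → MonoidAlgebra 𝕜 G → ℂ)
    (χ ψ : IrrCharacter G) :
    classInner (starFun p W χ) (starFun p W' ψ) = (Nat.card G : ℂ)⁻¹ *
      ∑ x ∈ pSet p G, (Nat.card C[Z[x]] : ℂ) * ∑ b ∈ blockFinset M C[Z[x]],
        W x (idemIn M C[Z[x]] b) * conj (W' x (idemIn M C[Z[x]] b)) * contrib p b x χ ψ := by
  rw [CfsgLib.Char.classInner_def]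
  congr 1
  rw [sum_eq_sum_sections (p := p) fun g => starFun p W χ g * conj (starFun p W' ψ g)]
  refine sum_congr rfl fun x hx => ?_
  set S := blockFinset M C[Z[x]]
  set c : Set (IrrCharacter C[Z[x]]) → ℂ := fun b => W x (idemIn M C[Z[x]] b)
  set c' : Set (IrrCharacter C[Z[x]]) → ℂ := fun b => W' x (idemIn M C[Z[x]] b)
  have hterm : ∀ s : C[Z[x]],
      (if p ∣ orderOf s then 0 else
          starFun p W χ (x * s) * conj (starFun p W' ψ (x * s))) =
        (∑ b ∈ S, c b * subPart p b x χ s) * conj (∑ b ∈ S, c' b * subPart p b x ψ s) := by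
    intro s
    split_ifs with hs
    · rw [sum_eq_zero fun b hb => by rw [subPart_eq_zero_of_dvd hM (mem_blockFinset.1 hb) χ hs,
        mul_zero], zero_mul]
    · rw [starFun_eq W χ (pElt_of_mem hx s hs) rfl, starFun_eq W' ψ (pElt_of_mem hx s hs) rfl,
        wsum_one_eq hM W χ (pElt_of_mem hx s hs), wsum_one_eq hM W' ψ (pElt_of_mem hx s hs)]
  simp only [hterm]
  have hin : ∀ b b', ∑ s : C[Z[x]], subPart p b x χ s * conj (subPart p b' x ψ s) =
      (Nat.card C[Z[x]] : ℂ) * classInner (subPart p b x χ) (subPart p b' x ψ) := by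
    intro b b'
    rw [CfsgLib.Char.classInner_def,
      mul_inv_cancel_left₀ (Nat.cast_ne_zero.2 Nat.card_pos.ne' : (Nat.card C[Z[x]] : ℂ) ≠ 0)]
  calc ∑ s : C[Z[x]], (∑ b ∈ S, c b * subPart p b x χ s) * conj (∑ b ∈ S, c' b * subPart p b x ψ s)
      = ∑ b ∈ S, ∑ b' ∈ S, c b * conj (c' b') *
          ((Nat.card C[Z[x]] : ℂ) * classInner (subPart p b x χ) (subPart p b' x ψ)) := by
        simp only [← hin]
        simp only [map_sum, sum_mul_sum]
        rw [sum_comm]
        refine sum_congr rfl fun b _ => ?_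
        rw [sum_comm]
        refine sum_congr rfl fun b' _ => ?_
        rw [mul_sum]
        exact sum_congr rfl fun s _ => by rw [map_mul]; ring
    _ = _ := by
        rw [mul_sum]
        refine sum_congr rfl fun b hb => ?_
        rw [sum_eq_single b (fun b' hb' hne => by
          rw [classInner_subPart_of_ne (mem_blockFinset.1 hb) (mem_blockFinset.1 hb') hne.symm,
            mul_zero, mul_zero]) fun hn => absurd hb hn]
        simp only [c, c', contrib]
        ring

/-- The multiplicity of an irreducible character in a weighted section function. -/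
theorem classInner_starFun_irr (hM : IsPModular p M) (W : G → MonoidAlgebra 𝕜 G → ℂ)
    (χ ψ : IrrCharacter G) :
    classInner (starFun p W χ) (ψ : G → ℂ) = (Nat.card G : ℂ)⁻¹ *
      ∑ x ∈ pSet p G, (Nat.card C[Z[x]] : ℂ) * ∑ b ∈ blockFinset M C[Z[x]],
        W x (idemIn M C[Z[x]] b) * contrib p b x χ ψ := by
  rw [← starFun_const_one (M := M) hM ψ, classInner_starFun hM W _ χ ψ]
  simp only [map_one, mul_one]

/-- The contributions of all the subsections add up to the inner product. -/
theorem sum_contrib_eq (hM : IsPModular p M) (χ ψ : IrrCharacter G) :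
    (Nat.card G : ℂ)⁻¹ * ∑ x ∈ pSet p G, (Nat.card C[Z[x]] : ℂ) *
      ∑ b ∈ blockFinset M C[Z[x]], contrib p b x χ ψ = if χ = ψ then 1 else 0 := by
  rw [← classInner_irr, ← starFun_const_one (M := M) hM χ, classInner_starFun_irr hM _ χ ψ]
  simp only [one_mul]

theorem blockPart_sum_smul {K : Subgroup G} [Fintype K] (b : Set (IrrCharacter K))
    {ι : Type*} (t : Finset ι) (c : ι → ℂ) (f : ι → K → ℂ) :
    blockPart b (∑ i ∈ t, c i • f i) = ∑ i ∈ t, c i • blockPart b (f i) := by
  letI := irrFintype (G := K)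
  funext g
  simp only [Finset.sum_apply, Pi.smul_apply, smul_eq_mul, blockPart_eq_sum_inner,
    classInner_sum_left, classInner_smul_left, mul_sum, sum_mul]
  rw [sum_comm]
  exact sum_congr rfl fun i _ => sum_congr rfl fun ξ _ => by ring

theorem blockPart_blockPart {K : Subgroup G} [Fintype K] {b b' : Set (IrrCharacter K)}
    (hb : IsPBlock M b) (hb' : IsPBlock M b') (θ : K → ℂ) :
    blockPart b (blockPart b' θ) = if b = b' then blockPart b θ else 0 := by
  letI := irrFintype (G := K)
  funext g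
  rw [blockPart_eq_sum_inner]
  simp only [classInner_blockPart]
  split_ifs with h
  · subst h
    rw [blockPart_eq_sum_inner]
    exact sum_congr rfl fun ξ hξ => by rw [if_pos (mem_filter.1 hξ).2]
  · refine sum_eq_zero fun ξ hξ => ?_
    rw [if_neg fun hm => h (block_eq_of_common hb hb' (mem_filter.1 hξ).2 hm), zero_mul]

/-- The block parts of a character that is a weighted section function. -/
theorem subPart_starFun (hM : IsPModular p M) {W : G → MonoidAlgebra 𝕜 G → ℂ}
    {χ φ : IrrCharacter G} (hφ : (φ : G → ℂ) = starFun p W χ) {x : G} (hx : x ∈ pSet p G)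
    {b : Set (IrrCharacter C[Z[x]])} (hb : IsPBlock M b) :
    subPart p b x φ = W x (idemIn M C[Z[x]] b) • subPart p b x χ := by
  have hreg : regPart p (secFun C[Z[x]] x φ) = ∑ b' ∈ blockFinset M C[Z[x]],
      W x (idemIn M C[Z[x]] b') • subPart p b' x χ := by
    funext s
    simp only [Finset.sum_apply, Pi.smul_apply, smul_eq_mul]
    by_cases hs : p ∣ orderOf s
    · rw [regPart_of_dvd hs]
      exact (sum_eq_zero fun b' hb' => by
        rw [subPart_eq_zero_of_dvd hM (mem_blockFinset.1 hb') χ hs, mul_zero]).symm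
    · rw [regPart_of_not_dvd hs, secFun, hφ, starFun_eq W χ (pElt_of_mem hx s hs) rfl,
        wsum_one_eq hM W χ (pElt_of_mem hx s hs)]
  rw [subPart, hreg, blockPart_sum_smul, sum_eq_single b]
  · rw [subPart, blockPart_blockPart hb hb, if_pos rfl]
  · intro b' hb' hne
    rw [subPart, blockPart_blockPart hb (mem_blockFinset.1 hb'), if_neg hne.symm, smul_zero]
  · exact fun h => absurd (mem_blockFinset.2 hb) h

/-- Weighted section functions compose by multiplying the weights. -/
theorem starFun_comp (hM : IsPModular p M) {W W' : G → MonoidAlgebra 𝕜 G → ℂ}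
    {χ φ : IrrCharacter G} (hφ : (φ : G → ℂ) = starFun p W χ) :
    starFun p W' φ = starFun p (fun x e => W' x e * W x e) χ := by
  funext g
  obtain ⟨x, s, h, rfl⟩ := exists_pElt p g
  rw [starFun_eq W' φ h rfl, starFun_eq _ χ h rfl, wsum_one_eq hM W' φ h, wsum_one_eq hM _ χ h]
  refine sum_congr rfl fun b hb => ?_
  rw [subPart_starFun hM hφ (mem_pSet.2 h.pow) (mem_blockFinset.1 hb), Pi.smul_apply, smul_eq_mul,
    mul_assoc]

end CfsgLib.BlockStar
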