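import Cfsg.Agent.BlocksB.Star.Nilpotent
import Cfsg.Agent.Char.Linear

/-!
# Linear characters of the defect group act on a block

The linear characters of the defect group that are trivial on the focal subgroup act on the
characters of each height.
-/

set_option autoImplicit false
set_option linter.style.haveILetI false
set_option linter.unusedSectionVars false

namespace CfsgLib.BlockStar

open Cfsg Finset CfsgLib.Block CfsgLib.Block.Chr CfsgLib.BrauerPairs CfsgLib.Char CfsgLib.BlockB
open scoped ComplexConjugate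
open scoped Classical

universe u

/-- The linear characters trivial on a subgroup. -/
def homKer {A : Type u} [Group A] (N : Subgroup A) : Subgroup (A →* ℂˣ) where
  carrier := {l | ∀ x ∈ N, l x = 1}
  one_mem' := fun _ _ => rfl
  mul_mem' := fun {a b} ha hb x hx => by rw [MonoidHom.mul_apply, ha x hx, hb x hx, one_mul]
  inv_mem' := fun {a} ha x hx => by rw [MonoidHom.inv_apply, ha x hx, inv_one]

/-- A subgroup containing the derived subgroup is killed by as many linear characters as its
index. -/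
theorem card_homKer {A : Type u} [Group A] [Finite A] (N : Subgroup A) [N.Normal]
    (h : commutator A ≤ N) : Nat.card (homKer N) = N.index := by
  have e : homKer N ≃ (A ⧸ N →* ℂˣ) :=
    { toFun := fun l => QuotientGroup.lift N l.1 fun x hx => MonoidHom.mem_ker.2 (l.2 x hx)
      invFun := fun m => ⟨m.comp (QuotientGroup.mk' N), fun x hx => by
        rw [MonoidHom.comp_apply, QuotientGroup.mk'_apply, (QuotientGroup.eq_one_iff x).2 hx,
          map_one]⟩
      left_inv := fun l => Subtype.ext (MonoidHom.ext fun x => rfl)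
      right_inv := fun m => QuotientGroup.monoidHom_ext N (MonoidHom.ext fun x => rfl) }
  rw [Nat.card_congr e, card_hom_eq_index_commutator]
  have hbot : commutator (A ⧸ N) = ⊥ := by
    rw [commutator_def, ← Subgroup.map_top_of_surjective _ (QuotientGroup.mk'_surjective N),
      ← Subgroup.map_commutator, ← commutator_def, Subgroup.map_eq_bot_iff, QuotientGroup.ker_mk']
    exact h
  rw [hbot, Subgroup.index_bot]
  rfl

/-- If every stabilizer lies in a subgroup, its index divides the number of points. -/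
theorem index_dvd_card_of_stabilizer_le {Γ X : Type*} [Group Γ] [Finite Γ] [MulAction Γ X]
    [Finite X] (K : Subgroup Γ) (h : ∀ x : X, MulAction.stabilizer Γ x ≤ K) :
    K.index ∣ Nat.card X := by
  haveI := Fintype.ofFinite (Quotient (MulAction.orbitRel Γ X))
  rw [Nat.card_congr (MulAction.selfEquivSigmaOrbitsQuotientStabilizer Γ X), Nat.card_sigma]
  exact Finset.dvd_sum fun ω _ => Subgroup.index_dvd_of_le (h _)

variable {M : Ideal AlgInt} [M.IsPrime] {p : ℕ} [Fact p.Prime] [CharP (Residue M) p]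
  {G : Type u} [Group G] [Fintype G]

local notation "𝕜" => Residue M
local notation "Z[" x "]" => Subgroup.zpowers x
local notation "C[" Q "]" => Subgroup.centralizer (SetLike.coe Q)

variable {B : Set (IrrCharacter G)} {P : Subgroup G} {e : MonoidAlgebra (Residue M) G}

/-- A linear character as a function on the whole group. -/
noncomputable def linFun (l : P →* ℂˣ) : G → ℂ := extendByZero P fun u => ((l u : ℂˣ) : ℂ)

theorem linFun_apply (l : P →* ℂˣ) (u : P) : linFun l (u : G) = ((l u : ℂˣ) : ℂ) :=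
  extendByZero_apply _ u

theorem conj_linFun_mul (l : P →* ℂˣ) {u : G} (hu : u ∈ P) :
    linFun l u * conj (linFun l u) = 1 := by
  rw [show u = ((⟨u, hu⟩ : P) : G) from rfl, linFun_apply]
  haveI : Finite P := inferInstance
  have h : ((l ⟨u, hu⟩ : ℂˣ) : ℂ) ^ orderOf (⟨u, hu⟩ : P) = 1 := by
    rw [← Units.val_pow_eq_pow_val, ← map_pow, pow_orderOf_eq_one, map_one, Units.val_one]
  rw [← Complex.inv_eq_conj (Complex.norm_eq_one_of_pow_eq_one h (orderOf_pos _).ne'),
    mul_inv_cancel₀ (Units.ne_zero _)]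

/-- The focal quotients of a pair. -/
def IsFocalKilled (p : ℕ) [Fact p.Prime] [CharP (Residue M) p] (P : Subgroup G)
    (e : MonoidAlgebra (Residue M) G) (N : Subgroup P) : Prop :=
  ∀ (u : P) (g : G), Carries p (P, e) Z[(u : G)] g → ∃ v ∈ N, (v : G) = (u : G)⁻¹ * (g * u * g⁻¹)

theorem stable_linFun {N : Subgroup P} (hN : IsFocalKilled p P e N) (l : homKer N) :
    Stable p P e (linFun l.1) := by
  intro u hu g hC
  obtain ⟨v, hv, hve⟩ := hN ⟨u, hu⟩ g hC
  rw [show g * u * g⁻¹ = ((⟨u, hu⟩ * v : P) : G) by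
    rw [Subgroup.coe_mul, hve]; group, linFun_apply, map_mul, l.2 v hv, mul_one]
  exact (linFun_apply l.1 ⟨u, hu⟩).symm

/-- The twist of a character. -/
noncomputable def twist (p : ℕ) [Fact p.Prime] [CharP (Residue M) p] (P : Subgroup G)
    (e : MonoidAlgebra (Residue M) G) (l : P →* ℂˣ) (χ : IrrCharacter G) : G → ℂ :=
  starFun p (weight p P e (linFun l)) χ

variable {N : Subgroup P}

theorem twist_regular (hM : IsPModular p M) (hB : IsPBlock M B)
    (hmax : IsMaxPair p (idem M B) (P, e)) (hN : IsFocalKilled p P e N) (l : homKer N)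
    {χ : IrrCharacter G} (hχ : χ ∈ B) {s : G} (hs : ¬ p ∣ orderOf s) :
    twist p P e l.1 χ s = (χ : G → ℂ) s := by
  have h : PElt p (1 : G) s := ⟨⟨0, by simp⟩, hs, Commute.one_left s⟩
  have := starFun_eq_smul hM hB hχ (weight p P e (linFun l.1)) h (c := 1) fun f hf => ?_
  · rwa [one_mul, one_mul] at this
  obtain ⟨g, hg⟩ := exists_conj_ple_max (isBlk_idem hM hB) hmax hf
  rw [weight_eq (stable_linFun hN l) hg, mul_one, mul_inv_cancel,
    show (1 : G) = ((1 : P) : G) from rfl, linFun_apply, map_one, Units.val_one]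

theorem twist_one_hom (hM : IsPModular p M) (hB : IsPBlock M B)
    (hmax : IsMaxPair p (idem M B) (P, e)) (hN : IsFocalKilled p P e N)
    {χ : IrrCharacter G} (hχ : χ ∈ B) : twist p P e (1 : homKer N).1 χ = (χ : G → ℂ) := by
  funext g
  obtain ⟨x, s, h, rfl⟩ := exists_pElt p g
  have := starFun_eq_smul hM hB hχ (weight p P e (linFun (1 : homKer N).1)) h (c := 1) fun f hf => ?_
  · rwa [one_mul] at this
  obtain ⟨a, ha⟩ := exists_conj_ple_max (isBlk_idem hM hB) hmax hf
  rw [weight_eq (stable_linFun hN 1) ha,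
    show a * x * a⁻¹ = ((⟨_, conj_mem_of_ple ha⟩ : P) : G) from rfl, linFun_apply]
  rfl

theorem twist_irr (hM : IsPModular p M) (hB : IsPBlock M B)
    (hmax : IsMaxPair p (idem M B) (P, e)) (hN : IsFocalKilled p P e N) (l : homKer N)
    {χ : IrrCharacter G} (hχ : χ ∈ B) :
    ∃ φ : IrrCharacter G, (φ : G → ℂ) = twist p P e l.1 χ ∧ φ ∈ B ∧
      blockHeight p B (φ : G → ℂ) = blockHeight p B (χ : G → ℂ) := by
  have hb := isBlk_idem hM hB
  set W := weight p P e (linFun l.1) with hW
  have hgen : IsGeneralizedCharacter G (twist p P e l.1 χ) :=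
    isGeneralized_starFun_weight hM hb hmax (stable_linFun hN l) (by
      simp only [linFun_apply]
      exact IsIrrCharacter.isGeneralized (isIrrCharacter_ofHom l.1)) χ
  have hnorm : classInner (twist p P e l.1 χ) (twist p P e l.1 χ) = 1 := by
    have h1 := classInner_starFun' hM (fun _ _ => (1 : ℂ)) (fun _ _ => (1 : ℂ)) χ χ
    rw [starFun_const_one hM, classInner_irr, if_pos rfl] at h1
    rw [twist, classInner_starFun' hM, h1]
    refine congrArg _ (sum_congr rfl fun x hx => ?_)
    congr 1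
    refine sum_congr rfl fun f hf => ?_
    by_cases hp : IsPairOf p (idem M B) (Z[x], f)
    · obtain ⟨a, ha⟩ := exists_conj_ple_max hb hmax hp
      rw [weight_eq (stable_linFun hN l) ha, conj_linFun_mul _ (conj_mem_of_ple ha), map_one,
        mul_one]
    · rw [contribR_eq_zero hM hB (Or.inl hχ) hx (mem_blks.1 hf) hp, mul_zero, mul_zero]
  have h1 : twist p P e l.1 χ 1 = (χ : G → ℂ) 1 :=
    twist_regular hM hB hmax hN l hχ (by rw [orderOf_one]; exact hM.1.not_dvd_one)
  have hirr : IsIrrCharacter G (twist p P e l.1 χ) := by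
    refine (IsGeneralized.isIrr_or_neg hgen hnorm).resolve_right fun hneg => ?_
    obtain ⟨h2, h3⟩ := irr_one (⟨_, hneg⟩ : IrrCharacter G)
    have h4 : -(twist p P e l.1 χ 1) = (charDegree (-(twist p P e l.1 χ)) : ℂ) := h2
    rw [h1, (irr_one χ).1, neg_eq_iff_add_eq_zero, ← Nat.cast_add, Nat.cast_eq_zero] at h4
    have h3' : 0 < charDegree (-(twist p P e l.1 χ)) := h3
    omega
  refine ⟨⟨_, hirr⟩, rfl, ?_, ?_⟩
  · by_contra hn
    set φ : IrrCharacter G := ⟨_, hirr⟩ with hφ
    have h2 : classInner (starFun p W χ) ((φ : IrrCharacter G) : G → ℂ) = 1 := hnorm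
    rw [← starFun_const_one (M := M) hM φ, classInner_starFun' hM] at h2
    refine one_ne_zero (h2.symm.trans ?_)
    rw [sum_eq_zero, mul_zero]
    intro x hx
    rw [sum_eq_zero, mul_zero]
    intro f hf
    by_cases hp : IsPairOf p (idem M B) (Z[x], f)
    · obtain ⟨c, hc, rfl⟩ := exists_idemIn_eq hM (mem_blks.1 hf)
      have hind := isInducedBlock_of_isBrauerPairOf hM (zpowers_le_centralizer_zpowers x)
        ((isBrauerPairOf_iff hM).2 ⟨⟨hp.1.1, hc⟩, hB, hp⟩)
      obtain ⟨n, hn'⟩ := mem_pSet.1 hx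
      obtain ⟨k, -, hk⟩ := (Nat.dvd_prime_pow hM.1).1 (orderOf_dvd_of_pow_eq_one hn')
      rw [contribR_idemIn hM _ _ hx hc, contrib,
        subPart_eq_zero_of_not_mem hM (centralizer_zpowers_eq x) hk hind hn, classInner_zero_right,
        mul_zero]
    · rw [contribR_eq_zero hM hB (Or.inl hχ) hx (mem_blks.1 hf) hp, mul_zero]
  · show blockHeight p B (twist p P e l.1 χ) = _
    simp only [blockHeight, charDegree, h1]

theorem weight_linFun_mul (hN : IsFocalKilled p P e N) (l l' : homKer N) (x : G)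
    (f : MonoidAlgebra 𝕜 G) :
    weight p P e (linFun l.1) x f * weight p P e (linFun l'.1) x f =
      weight p P e (linFun (l * l').1) x f := by
  by_cases h : ∃ g, PLE p (cjPair g (Z[x], f)) (P, e)
  · obtain ⟨g, hg⟩ := h
    rw [weight_eq (stable_linFun hN l) hg, weight_eq (stable_linFun hN l') hg,
      weight_eq (stable_linFun hN (l * l')) hg,
      show g * x * g⁻¹ = ((⟨_, conj_mem_of_ple hg⟩ : P) : G) from rfl, linFun_apply, linFun_apply,
      linFun_apply, Subgroup.coe_mul, MonoidHom.mul_apply, Units.val_mul]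
  · simp only [weight, dif_neg h, mul_zero]

theorem twist_twist (hM : IsPModular p M) (hN : IsFocalKilled p P e N) (l l' : homKer N)
    {χ φ : IrrCharacter G} (hφ : (φ : G → ℂ) = twist p P e l'.1 χ) :
    twist p P e l.1 φ = twist p P e (l * l').1 χ := by
  rw [twist, starFun_comp hM hφ, twist]
  congr 1
  funext x f
  exact weight_linFun_mul hN l l' x f

theorem hom_eq_one_of_fixed (hM : IsPModular p M) (hP : IsPair p (P, e))
    (hN : IsFocalKilled p P e N) (l : homKer N) {χ ψ : IrrCharacter G}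
    (h : (χ : G → ℂ) = twist p P e l.1 χ) (u : P)
    (hne : contribR p χ ψ (u : G) (subBlk p P e (u : G)) ≠ 0) : l.1 u = 1 := by
  have hle := subBlk_ple hP u.2
  have hu := mem_pSet_of_mem hP u.2
  obtain ⟨c, hc, hcE⟩ : ∃ c : Set (IrrCharacter C[Z[(u : G)]]), IsPBlock M c ∧
      idemIn M C[Z[(u : G)]] c = subBlk p P e (u : G) := exists_idemIn_eq hM (PLE.isPair hle hP).2
  have h1 := subPart_starFun hM h hu hc
  have hwt : weight p P e (linFun l.1) (u : G) (idemIn M C[Z[(u : G)]] c) = ((l.1 u : ℂˣ) : ℂ) := by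
    rw [hcE, weight_of_ple (stable_linFun hN l) hle, linFun_apply]
  rw [hwt] at h1
  have h2 : contrib p c (u : G) χ ψ = ((l.1 u : ℂˣ) : ℂ) * contrib p c (u : G) χ ψ := by
    conv_lhs => rw [contrib, h1, classInner_smul_left]
    rfl
  have hne' : contrib p c (u : G) χ ψ ≠ 0 := by
    rw [← contribR_idemIn hM χ ψ hu hc]
    rw [← hcE] at hne
    exact hne
  exact Units.ext (mul_right_cancel₀ hne' (by rw [Units.val_one, one_mul, ← h2]))

/-- The action on the characters of a height. -/
noncomputable abbrev twistAction (hM : IsPModular p M) (hB : IsPBlock M B)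
    (hmax : IsMaxPair p (idem M B) (P, e)) (hN : IsFocalKilled p P e N) (h : ℕ) :
    MulAction (homKer N) {χ : IrrCharacter G // χ ∈ B ∧ blockHeight p B (χ : G → ℂ) = h} where
  smul l χ := ⟨(twist_irr hM hB hmax hN l χ.2.1).choose,
    (twist_irr hM hB hmax hN l χ.2.1).choose_spec.2.1,
    (twist_irr hM hB hmax hN l χ.2.1).choose_spec.2.2.trans χ.2.2⟩
  one_smul χ := Subtype.ext (Subtype.ext
    ((twist_irr hM hB hmax hN 1 χ.2.1).choose_spec.1.trans (twist_one_hom hM hB hmax hN χ.2.1)))
  mul_smul l l' χ := Subtype.ext (Subtype.ext (by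
    refine (twist_irr hM hB hmax hN (l * l') χ.2.1).choose_spec.1.trans ?_
    refine Eq.trans ?_ (twist_irr hM hB hmax hN l
      (twist_irr hM hB hmax hN l' χ.2.1).choose_spec.2.1).choose_spec.1.symm
    exact (twist_twist hM hN l l' (twist_irr hM hB hmax hN l' χ.2.1).choose_spec.1).symm))

theorem contribR_center_ne_zero (hM : IsPModular p M) (hB : IsPBlock M B)
    (hmax : IsMaxPair p (idem M B) (P, e)) {χ ψ : IrrCharacter G} (hχ : χ ∈ B) (hψ : ψ ∈ B)
    (h0 : blockHeight p B (ψ : G → ℂ) = 0) {u : G} (hu : u ∈ P) (huz : u ∈ C[P]) :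
    contribR p χ ψ u (subBlk p P e u) ≠ 0 := by
  have hb := isBlk_idem hM hB
  have hP : IsPair p (P, e) := hmax.1.1
  obtain ⟨f, hf, -⟩ := existsUnique_nstep hP (Subgroup.zpowers_le.2 hu) (by
    refine le_trans (fun v hv => ?_) (centralizer_le_normalizer _)
    exact mem_cz.2 (Subgroup.mem_centralizer_iff.1 huz v hv))
  have hfE : f = subBlk p P e u :=
    ple_unique hP (Relation.ReflTransGen.single hf) (subBlk_ple hP hu)
  obtain ⟨c, hc, hcE⟩ : ∃ c : Set (IrrCharacter C[Z[u]]), IsPBlock M c ∧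
      idemIn M C[Z[u]] c = f := exists_idemIn_eq hM hf.1.2
  have hPC : P ≤ C[Z[u]] := fun v hv => mem_cz.2 (Subgroup.mem_centralizer_iff.1 huz v hv)
  have hpair : IsPairOf p (idem M B) (Z[u], idemIn M C[Z[u]] c) := by
    rw [hcE]
    exact (isPairOf_iff_of_ple hb (Relation.ReflTransGen.single hf) hP).2 hmax.1
  have hind := isInducedBlock_of_isBrauerPairOf hM (zpowers_le_centralizer_zpowers u)
    ((isBrauerPairOf_iff hM).2 ⟨⟨hpair.1.1, hc⟩, hB, hpair⟩)
  obtain ⟨D₀, hD₀⟩ := exists_defectGroup hc hM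
  have hmaxH := (isDefectGroup_sub_iff hM _ hc D₀).mp hD₀
  have hne : br P (idemIn M C[Z[u]] c) ≠ 0 := by
    intro hz
    have h1 := hf.2.2.2.2.2
    rw [← hcE] at h1
    simp only at h1
    rw [hz, zero_mul] at h1
    exact hP.2.ne_zero h1.symm
  have hge := hmaxH.2.2.2 P hP.1 hPC hne
  rw [Subgroup.card_map_of_injective (Subgroup.subtype_injective _), card_defectGroup hM hc hD₀,
    card_defectGroup hM hB (isDefectGroup_of_isDef hM hB (hmax.isDef hb))] at hge
  have hbd : blockDefect p c = blockDefect p B := le_antisymm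
    (blockDefect_le_of_induced hM hpair.1.1 rfl (zpowers_le_centralizer_zpowers u) hind)
    ((Nat.pow_le_pow_iff_right hM.1.one_lt).1 hge)
  obtain ⟨n, hn⟩ := mem_pSet.1 (mem_pSet_of_mem hP hu)
  obtain ⟨k, -, hk⟩ := (Nat.dvd_prime_pow hM.1).1 (orderOf_dvd_of_pow_eq_one hn)
  rw [← hfE, ← hcE, contribR_idemIn hM χ ψ (mem_pSet_of_mem hP hu) hc]
  exact contrib_ne_zero hM (centralizer_zpowers_eq u) hk hind hbd hχ hψ h0

/-- **The index of the focal subgroup divides the number of characters of height zero.** -/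
theorem index_dvd_card_height_zero (hM : IsPModular p M) (hB : IsPBlock M B)
    (hmax : IsMaxPair p (idem M B) (P, e)) (hN : IsFocalKilled p P e N) [N.Normal]
    (hcomm : commutator P ≤ N) :
    N.index ∣ Nat.card {χ : IrrCharacter G // χ ∈ B ∧ blockHeight p B (χ : G → ℂ) = 0} := by
  letI := twistAction hM hB hmax hN 0
  letI := irrFintype (G := G)
  haveI : Finite (P →* ℂˣ) := Finite.of_equiv _ (linearCharEquiv (G := P)).symm
  rw [← card_homKer N hcomm, ← Subgroup.index_bot]
  refine index_dvd_card_of_stabilizer_le ⊥ fun χ l hl => ?_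
  rw [Subgroup.mem_bot]
  refine Subtype.ext (MonoidHom.ext fun u => ?_)
  rw [MulAction.mem_stabilizer_iff] at hl
  have h : (χ.1 : G → ℂ) = twist p P e l.1 χ.1 := by
    conv_lhs => rw [← hl]
    exact (twist_irr hM hB hmax hN l χ.2.1).choose_spec.1
  exact hom_eq_one_of_fixed hM hmax.1.1 hN l h u
    (contribR_ne_zero hM hB χ.2.1 χ.2.2 hmax u.2)

/-- **The index of the focal part of the center divides the number of characters of a height.** -/
theorem relIndex_dvd_card_height (hM : IsPModular p M) (hB : IsPBlock M B)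
    (hmax : IsMaxPair p (idem M B) (P, e)) (hN : IsFocalKilled p P e N) [N.Normal]
    (hcomm : commutator P ≤ N) (h : ℕ) :
    N.relIndex (Subgroup.center P) ∣
      Nat.card {χ : IrrCharacter G // χ ∈ B ∧ blockHeight p B (χ : G → ℂ) = h} := by
  letI := twistAction hM hB hmax hN h
  letI := irrFintype (G := G)
  haveI : Finite (P →* ℂˣ) := Finite.of_equiv _ (linearCharEquiv (G := P)).symm
  obtain ⟨ψ, hψ, hψ0⟩ := exists_height_zero hM hB
  set K : Subgroup (homKer N) := (homKer (N ⊔ Subgroup.center P)).subgroupOf (homKer N)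
  have hKle : homKer (N ⊔ Subgroup.center P) ≤ homKer N := fun l hl x hx =>
    hl x (Subgroup.mem_sup_left hx)
  have h1 : Nat.card K = (N ⊔ Subgroup.center P).index := by
    rw [Nat.card_congr (Subgroup.subgroupOfEquivOfLe hKle).toEquiv]
    exact card_homKer _ (hcomm.trans le_sup_left)
  have h2 : K.index = N.relIndex (Subgroup.center P) := by
    have h3 := K.card_mul_index
    rw [h1, card_homKer N hcomm, ← Subgroup.relIndex_mul_index (le_sup_left :
      N ≤ N ⊔ Subgroup.center P), Subgroup.relIndex_sup_left, mul_comm] at h3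
    exact Nat.eq_of_mul_eq_mul_right
      (Nat.pos_of_ne_zero Subgroup.index_ne_zero_of_finite) h3
  rw [← h2]
  refine index_dvd_card_of_stabilizer_le K fun χ l hl => ?_
  rw [MulAction.mem_stabilizer_iff] at hl
  have hfix : (χ.1 : G → ℂ) = twist p P e l.1 χ.1 := by
    conv_lhs => rw [← hl]
    exact (twist_irr hM hB hmax hN l χ.2.1).choose_spec.1
  have hz : ∀ u ∈ Subgroup.center P, l.1 u = 1 := fun u hu => by
    refine hom_eq_one_of_fixed hM hmax.1.1 hN l hfix u
      (contribR_center_ne_zero hM hB hmax χ.2.1 hψ hψ0 u.2 ?_)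
    exact Subgroup.mem_centralizer_iff.2 fun v hv =>
      congrArg Subtype.val (Subgroup.mem_center_iff.1 hu ⟨v, hv⟩)
  show l.1 ∈ homKer (N ⊔ Subgroup.center P)
  have : N ⊔ Subgroup.center P ≤ l.1.ker := sup_le (fun x hx => l.2 x hx) hz
  exact fun x hx => this hx

/-- The focal subgroup of the system of a pair, inside the group of the pair. -/
theorem focal_data (hP : IsPair p (P, e)) :
    IsFocalKilled p P e ((blockSystem hP).focalSubgroup.subgroupOf P) ∧
      commutator P ≤ (blockSystem hP).focalSubgroup.subgroupOf P := by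
  refine ⟨fun u g hC => ?_, ?_⟩
  · have hmem : g * u * g⁻¹ ∈ P := hC.map_le ⟨u, Subgroup.mem_zpowers _, rfl⟩
    refine ⟨⟨(u : G)⁻¹ * (g * u * g⁻¹), P.mul_mem (P.inv_mem u.2) hmem⟩, ?_, rfl⟩
    rw [Subgroup.mem_subgroupOf]
    exact Subgroup.subset_closure ⟨Z[(u : G)], conjHom Z[(u : G)] g, ⟨u, Subgroup.mem_zpowers _⟩,
      ⟨g, fun _ => rfl, hC⟩, rfl⟩
  · rw [commutator_def, Subgroup.commutator_le]
    rintro a - c -
    rw [Subgroup.mem_subgroupOf]
    refine Subgroup.subset_closure ⟨P, conjHom P (c : G), ⟨((a⁻¹ : P) : G), (a⁻¹).2⟩,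
      ⟨(c : G), fun _ => rfl, Carries.of_mem hP le_rfl c.2⟩, ?_⟩
    show _ = ((a⁻¹ : P) : G)⁻¹ * ((c : G) * ((a⁻¹ : P) : G) * (c : G)⁻¹)
    rw [commutatorElement_def]
    push_cast
    group

end CfsgLib.BlockStar
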