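import Cfsg.Agent.BrauerPairs.Prim
import Mathlib.FieldTheory.IsAlgClosed.Basic
import Mathlib.Algebra.CharP.Basic

/-!
# Primitive idempotents of a finite-dimensional algebra over an algebraically closed field

Corners at primitive idempotents are local with residue field `k`.  If an automorphism `σ` of
prime order `p` has `i = ∑ σ ^ m d` for an idempotent `i`, then in a decomposition of `i` into
primitive idempotents every orbit of linkage classes has cardinality divisible by `p`.
-/

set_option autoImplicit false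
set_option linter.style.haveILetI false
set_option linter.unusedSectionVars false

namespace CfsgLib.BlockStar

open CfsgLib.BrauerPairs Finset

variable {k : Type*} [Field k] {A : Type*} [Ring A] [Algebra k A]

/-- A primitive idempotent of the algebra. -/
def IsPrim (e : A) : Prop :=
  e ≠ 0 ∧ e * e = e ∧ ∀ f : A, f * f = f → e * f = f → f * e = f → f = 0 ∨ f = e

/-- Two idempotents are linked when they are the two products of a pair of elements. -/
def Link (e f : A) : Prop :=
  ∃ x y : A, x * y = e ∧ y * x = f ∧ e * x = x ∧ x * f = x ∧ f * y = y ∧ y * e = y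

theorem link_refl {e : A} (he : e * e = e) : Link e e := ⟨e, e, he, he, he, he, he, he⟩

theorem link_symm {e f : A} (h : Link e f) : Link f e := by
  obtain ⟨x, y, h1, h2, h3, h4, h5, h6⟩ := h
  exact ⟨y, x, h2, h1, h5, h6, h3, h4⟩

theorem link_trans {e f g : A} (h : Link e f) (h' : Link f g) : Link e g := by
  obtain ⟨x, y, h1, h2, h3, h4, h5, h6⟩ := h
  obtain ⟨u, v, k1, k2, k3, k4, k5, k6⟩ := h'
  refine ⟨x * u, v * y, ?_, ?_, ?_, ?_, ?_, ?_⟩
  · rw [mul_assoc, ← mul_assoc u, k1, h5, h1]
  · rw [mul_assoc, ← mul_assoc y, h2, k3, k2]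
  · rw [← mul_assoc, h3]
  · rw [mul_assoc, k4]
  · rw [← mul_assoc, k5]
  · rw [mul_assoc, h6]

theorem link_map {e f : A} (h : Link e f) {B : Type*} [Ring B] [Algebra k B] (φ : A →ₐ[k] B) :
    Link (φ e) (φ f) := by
  obtain ⟨x, y, h1, h2, h3, h4, h5, h6⟩ := h
  exact ⟨φ x, φ y, by rw [← map_mul, h1], by rw [← map_mul, h2], by rw [← map_mul, h3],
    by rw [← map_mul, h4], by rw [← map_mul, h5], by rw [← map_mul, h6]⟩

theorem isPrim_map {e : A} (h : IsPrim e) (σ : A ≃ₐ[k] A) : IsPrim (σ e) := by
  refine ⟨(map_ne_zero_iff σ σ.injective).2 h.1, by rw [← map_mul, h.2.1], fun f hf h1 h2 => ?_⟩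
  obtain ⟨g, rfl⟩ := σ.surjective f
  rw [← map_mul] at hf h1 h2
  rcases h.2.2 g (σ.injective hf) (σ.injective h1) (σ.injective h2) with rfl | rfl
  · exact Or.inl (map_zero σ)
  · exact Or.inr rfl

theorem commute_of_mem_adjoin {a c z : A} (hc : c ∈ Algebra.adjoin k ({a} : Set A))
    (hz : Commute z a) : Commute z c := by
  induction hc using Algebra.adjoin_induction with
  | mem x hx => rw [Set.mem_singleton_iff.1 hx]; exact hz
  | algebraMap r => exact (Algebra.commutes r z).symm
  | add x y _ _ hx hy => exact hx.add_right hy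
  | mul x y _ _ hx hy => exact hx.mul_right hy

variable [FiniteDimensional k A]

/-- Decomposition into primitive idempotents. -/
theorem exists_decomp (k : Type*) [Field k] {A : Type*} [Ring A] [Algebra k A]
    [FiniteDimensional k A] {i : A} (hi : i * i = i) :
    ∃ (n : ℕ) (j : Fin n → A), (∀ l, IsPrim (j l) ∧ i * j l = j l ∧ j l * i = j l) ∧
      (∀ l m, l ≠ m → j l * j m = 0) ∧ ∑ l, j l = i := by
  induction hd : Module.finrank k (LinearMap.range (LinearMap.mulLeft k i)) using
    Nat.strong_induction_on generalizing i with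
  | _ d ih =>
    by_cases h0 : i = 0
    · exact ⟨0, Fin.elim0, fun l => l.elim0, fun l => l.elim0, by simp [h0]⟩
    by_cases hp : ∀ f : A, f * f = f → i * f = f → f * i = f → f = 0 ∨ f = i
    · exact ⟨1, fun _ => i, fun _ => ⟨⟨h0, hi, hp⟩, hi, hi⟩,
        fun l m h => absurd (Subsingleton.elim l m) h, by simp⟩
    simp only [not_forall, not_or] at hp
    obtain ⟨f, hf, hif, hfi, hf0, hne⟩ := hp
    have hlt : ∀ g : A, g * g = g → i * g = g → g * i = g → g ≠ i →
        Module.finrank k (LinearMap.range (LinearMap.mulLeft k g)) < d := by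
      intro g hg hig hgi hgne
      subst hd
      refine Submodule.finrank_lt_finrank_of_lt (lt_of_le_of_ne ?_ ?_)
      · rintro _ ⟨a, rfl⟩
        exact ⟨g * a, by simp only [LinearMap.mulLeft_apply, ← mul_assoc, hig]⟩
      · intro heq
        have hmem : i ∈ LinearMap.range (LinearMap.mulLeft k i) := ⟨1, mul_one i⟩
        rw [← heq] at hmem
        obtain ⟨a, ha⟩ := hmem
        simp only [LinearMap.mulLeft_apply] at ha
        exact hgne (by rw [← hgi, ← ha, ← mul_assoc, hg])
    have hg2 : (i - f) * (i - f) = i - f := by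
      simp only [sub_mul, mul_sub, hi, hf, hif, hfi, sub_self, sub_zero]
    have hig : i * (i - f) = i - f := by rw [mul_sub, hi, hif]
    have hgi : (i - f) * i = i - f := by rw [sub_mul, hi, hfi]
    obtain ⟨n, j, hj, hjo, hjs⟩ := ih _ (hlt f hf hif hfi hne) hf rfl
    obtain ⟨n', j', hj', hjo', hjs'⟩ := ih _ (hlt (i - f) hg2 hig hgi (fun h => hf0 (by simpa using h)))
      hg2 rfl
    refine ⟨n + n', Fin.addCases j j', fun l => ?_, fun l m => ?_,
      by simp [Fin.sum_univ_add, hjs, hjs']⟩
    swap
    · have h1 : f * (i - f) = 0 := by rw [mul_sub, hfi, hf, sub_self]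
      have h2 : (i - f) * f = 0 := by rw [sub_mul, hif, hf, sub_self]
      refine Fin.addCases (fun a => ?_) (fun a => ?_) l <;>
        refine Fin.addCases (fun b => ?_) (fun b => ?_) m <;>
        simp only [Fin.addCases_left, Fin.addCases_right] <;> intro hne
      · exact hjo a b fun h => hne (by rw [h])
      · rw [← (hj a).2.2, ← (hj' b).2.1, mul_assoc, ← mul_assoc f, h1, zero_mul, mul_zero]
      · rw [← (hj' a).2.2, ← (hj b).2.1, mul_assoc, ← mul_assoc (i - f), h2, zero_mul, mul_zero]
      · exact hjo' a b fun h => hne (by rw [h])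
    refine Fin.addCases (fun a => ?_) (fun a => ?_) l
    · simp only [Fin.addCases_left]
      exact ⟨(hj a).1, by rw [← (hj a).2.1, ← mul_assoc, hif], by rw [← (hj a).2.2, mul_assoc, hfi]⟩
    · simp only [Fin.addCases_right]
      exact ⟨(hj' a).1, by rw [← (hj' a).2.1, ← mul_assoc, hig],
        by rw [← (hj' a).2.2, mul_assoc, hgi]⟩

/-- An element of a corner at a primitive idempotent is nilpotent or invertible there. -/
theorem IsPrim.nilpotent_or_inv (k : Type*) [Field k] {A : Type*} [Ring A] [Algebra k A]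
    [FiniteDimensional k A] {e a : A} (he : IsPrim e) (h1 : e * a = a) (h2 : a * e = a) :
    IsNilpotent a ∨ ∃ b, e * b = b ∧ b * e = b ∧ a * b = e ∧ b * a = e := by
  obtain ⟨n, c, hn, hc, hidem, habs⟩ :=
    exists_idem_pow (S := Algebra.adjoin k ({a} : Set A)) (Algebra.subset_adjoin (Set.mem_singleton a))
  have hca : Commute a c := commute_of_mem_adjoin hc (Commute.refl a)
  have hce : Commute e c := commute_of_mem_adjoin hc (show Commute e a from h1.trans h2.symm)
  obtain ⟨m, rfl⟩ := Nat.exists_eq_succ_of_ne_zero hn.ne'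
  have hean : e * a ^ (m + 1) = a ^ (m + 1) := by rw [pow_succ', ← mul_assoc, h1]
  have hane : a ^ (m + 1) * e = a ^ (m + 1) := by rw [pow_succ, mul_assoc, h2]
  rcases he.2.2 _ hidem (by rw [← mul_assoc, hean])
    (by rw [mul_assoc, ← hce.eq, ← mul_assoc, hane]) with h | h
  · exact Or.inl ⟨m + 1, by rw [← habs, h, mul_zero]⟩
  · refine Or.inr ⟨e * (a ^ m * c) * e, ?_, ?_, ?_, ?_⟩
    · rw [← mul_assoc, ← mul_assoc, he.2.1]
    · rw [mul_assoc, he.2.1]
    · calc a * (e * (a ^ m * c) * e) = a * e * a ^ m * c * e := by simp only [mul_assoc]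
        _ = a ^ (m + 1) * c * e := by rw [h2, pow_succ']
        _ = e := by rw [h, he.2.1]
    · calc e * (a ^ m * c) * e * a = e * (a ^ m * (c * a)) := by
            rw [mul_assoc, h1]; simp only [mul_assoc]
        _ = e * (a ^ (m + 1) * c) := by rw [← hca.eq, ← mul_assoc (a ^ m), pow_succ]
        _ = e := by rw [h, he.2.1]

theorem not_nilpotent_of_right_inv {e a b : A} (he0 : e ≠ 0) (h2 : a * e = a) (hab : a * b = e) :
    ¬ IsNilpotent a := by
  rintro ⟨n, hn⟩
  have : ∀ r, a ^ (r + 1) = 0 → a ^ r * e = 0 := fun r hr => by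
    rw [← hab, ← mul_assoc, ← pow_succ, hr, zero_mul]
  induction n with
  | zero => exact he0 (by rw [← mul_one e, ← pow_zero a, hn, mul_zero])
  | succ n ih =>
    rcases n with _ | n
    · exact he0 (by simpa using this 0 hn)
    · exact ih (by
        have := this (n + 1) hn
        rwa [pow_succ, mul_assoc, h2, ← pow_succ] at this)

/-- Nilpotent elements of a corner are closed under addition. -/
theorem IsPrim.nilpotent_add (k : Type*) [Field k] {A : Type*} [Ring A] [Algebra k A]
    [FiniteDimensional k A] {e a b : A} (he : IsPrim e) (ha1 : e * a = a) (ha2 : a * e = a)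
    (hb1 : e * b = b) (hb2 : b * e = b) (ha : IsNilpotent a) (hb : IsNilpotent b) :
    IsNilpotent (a + b) := by
  rcases he.nilpotent_or_inv k (a := a + b) (by rw [mul_add, ha1, hb1])
    (by rw [add_mul, ha2, hb2]) with h | ⟨w, hw1, hw2, hab, -⟩
  · exact h
  exfalso
  rcases he.nilpotent_or_inv k (a := a * w) (by rw [← mul_assoc, ha1]) (by rw [mul_assoc, hw2]) with
    ⟨n, hn⟩ | ⟨v, -, -, hv, -⟩
  · -- `e - a w` is invertible
    have hv : ∀ r, ∃ v, (e - a * w) * v = e - (a * w) ^ (r + 1) := by
      intro r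
      induction r with
      | zero =>
        exact ⟨e, by rw [sub_mul, he.2.1, mul_assoc, hw2, zero_add, pow_one]⟩
      | succ r ih =>
        obtain ⟨v, hv⟩ := ih
        refine ⟨v + (a * w) ^ (r + 1), ?_⟩
        rw [mul_add, hv, sub_mul, ← pow_succ', show e * (a * w) ^ (r + 1) = (a * w) ^ (r + 1) by
          rw [pow_succ', ← mul_assoc, ← mul_assoc e a, ha1]]
        abel
    obtain ⟨v, hv⟩ := hv n
    rw [pow_succ, hn, zero_mul, sub_zero] at hv
    have hbw : b * w = e - a * w := by rw [← hab, add_mul]; abel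
    exact not_nilpotent_of_right_inv he.1 hb2 (b := w * v) (by rw [← mul_assoc, hbw, hv]) hb
  · exact not_nilpotent_of_right_inv he.1 ha2 (b := w * v) (by rw [← mul_assoc, hv]) ha

variable [IsAlgClosed k]

theorem IsPrim.exists_scalar {e a : A} (he : IsPrim e) (h1 : e * a = a) (h2 : a * e = a) :
    ∃ c : k, IsNilpotent (a - c • e) := by
  by_contra hno
  simp only [not_exists] at hno
  have key : ∀ s : Multiset k, ∃ b,
      Polynomial.aeval a (s.map fun c => Polynomial.X - Polynomial.C c).prod * e * b = e := by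
    intro s
    induction s using Multiset.induction with
    | empty => exact ⟨e, by simp [he.2.1]⟩
    | cons c s ih =>
      obtain ⟨b, hb⟩ := ih
      obtain ⟨v, hv1, hv2, hv, -⟩ := (he.nilpotent_or_inv k (a := a - c • e)
        (by rw [mul_sub, h1, mul_smul_comm, he.2.1])
        (by rw [sub_mul, h2, smul_mul_assoc, he.2.1])).resolve_left (hno c)
      have hcomm : Commute (Polynomial.aeval a (s.map fun c => Polynomial.X - Polynomial.C c).prod)
          (Polynomial.aeval a (Polynomial.X - Polynomial.C c)) :=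
        (Commute.all _ _).map (Polynomial.aeval a)
      refine ⟨v * b, ?_⟩
      rw [Multiset.map_cons, Multiset.prod_cons, map_mul, ← hcomm.eq]
      set P := Polynomial.aeval a (s.map fun c => Polynomial.X - Polynomial.C c).prod
      have h3 : Polynomial.aeval a (Polynomial.X - Polynomial.C c) * e = a - c • e := by
        rw [map_sub, Polynomial.aeval_X, Polynomial.aeval_C, sub_mul, h2, ← Algebra.smul_def]
      calc P * Polynomial.aeval a (Polynomial.X - Polynomial.C c) * e * (v * b)
          = P * ((a - c • e) * v) * b := by rw [mul_assoc P, h3]; simp only [mul_assoc]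
        _ = e := by rw [hv, hb]
  have hint : IsIntegral k a := Algebra.IsIntegral.isIntegral a
  obtain ⟨b, hb⟩ := key (minpoly k a).roots
  rw [← (IsAlgClosed.splits (minpoly k a)).eq_prod_roots_of_monic (minpoly.monic hint),
    minpoly.aeval, zero_mul, zero_mul] at hb
  exact he.1 hb.symm

theorem IsPrim.scalar_unique {e a : A} (he : IsPrim e) (h1 : e * a = a) (h2 : a * e = a)
    {c c' : k} (hc : IsNilpotent (a - c • e)) (hc' : IsNilpotent (a - c' • e)) : c = c' := by
  by_contra hne
  have hcomm : Commute (a - c' • e) (a - c • e) := by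
    have hae : Commute a e := h2.trans h1.symm
    exact ((Commute.refl a).sub_right (hae.smul_right c)).sub_left
      ((hae.symm.smul_left c').sub_right (((Commute.refl e).smul_left c').smul_right c))
  have h := hcomm.isNilpotent_sub hc' hc
  rw [show a - c' • e - (a - c • e) = (c - c') • e by rw [sub_smul]; abel] at h
  obtain ⟨n, hn⟩ := h
  rcases n with _ | n
  · rw [pow_zero] at hn
    exact he.1 (by rw [← mul_one e, hn, mul_zero])
  · have he' : ∀ r, e ^ (r + 1) = e := fun r => by
      induction r with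
      | zero => rw [zero_add, pow_one]
      | succ r ih => rw [pow_succ, ih, he.2.1]
    rw [smul_pow, he', smul_eq_zero] at hn
    exact hn.elim (fun h => pow_ne_zero _ (sub_ne_zero.2 hne) h) he.1

variable (k) in
/-- The residue of `e * a * e` in the corner at `e`. -/
noncomputable def cornerRes (e a : A) : k :=
  open Classical in if h : ∃ c : k, IsNilpotent (e * a * e - c • e) then h.choose else 0

theorem corner_abs {e : A} (he : e * e = e) (a : A) :
    e * (e * a * e) = e * a * e ∧ (e * a * e) * e = e * a * e :=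
  ⟨by rw [← mul_assoc, ← mul_assoc, he], by rw [mul_assoc, he]⟩

theorem cornerRes_spec {e : A} (he : IsPrim e) (a : A) :
    IsNilpotent (e * a * e - cornerRes k e a • e) := by
  have h := he.exists_scalar (k := k) (corner_abs he.2.1 a).1 (corner_abs he.2.1 a).2
  rw [cornerRes, dif_pos h]
  exact h.choose_spec

theorem cornerRes_eq {e : A} (he : IsPrim e) {a : A} {c : k}
    (h : IsNilpotent (e * a * e - c • e)) : cornerRes k e a = c :=
  he.scalar_unique (corner_abs he.2.1 a).1 (corner_abs he.2.1 a).2 (cornerRes_spec he a) h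

theorem cornerRes_add {e : A} (he : IsPrim e) (a b : A) :
    cornerRes k e (a + b) = cornerRes k e a + cornerRes k e b := by
  refine cornerRes_eq he ?_
  rw [mul_add, add_mul, add_smul]
  rw [show e * a * e + e * b * e - (cornerRes k e a • e + cornerRes k e b • e) =
    (e * a * e - cornerRes k e a • e) + (e * b * e - cornerRes k e b • e) by abel]
  have h := fun a : A => corner_abs he.2.1 a
  refine he.nilpotent_add k ?_ ?_ ?_ ?_ (cornerRes_spec he a) (cornerRes_spec he b) <;>
    simp only [mul_sub, sub_mul, h, mul_smul_comm, smul_mul_assoc, he.2.1]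

theorem cornerRes_zero {e : A} (he : IsPrim e) : cornerRes k e (0 : A) = 0 :=
  cornerRes_eq he (by simp)

theorem cornerRes_sum {e : A} (he : IsPrim e) {ι : Type*} (s : Finset ι) (a : ι → A) :
    cornerRes k e (∑ l ∈ s, a l) = ∑ l ∈ s, cornerRes k e (a l) := by
  classical
  induction s using Finset.induction with
  | empty => simp [cornerRes_zero he]
  | insert x s hx ih => rw [sum_insert hx, sum_insert hx, cornerRes_add he, ih]

theorem cornerRes_self {e : A} (he : IsPrim e) : cornerRes k e e = 1 :=
  cornerRes_eq he (by simp [he.2.1])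

theorem cornerRes_smul {e : A} (he : IsPrim e) (c : k) (a : A) :
    cornerRes k e (c • a) = c * cornerRes k e a := by
  refine cornerRes_eq he ?_
  rw [mul_smul_comm, smul_mul_assoc, mul_smul, ← smul_sub]
  exact (cornerRes_spec he a).smul c

theorem exists_link_of_inv (k : Type*) [Field k] {A : Type*} [Ring A] [Algebra k A]
    [FiniteDimensional k A] {e f x y : A} (he : IsPrim e) (hf : IsPrim f) (h3 : e * x = x)
    (h4 : x * f = x) (h5 : f * y = y) (h6 : y * e = y) (hn : ¬ IsNilpotent (x * y)) :
    Link e f := by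
  obtain ⟨b, hb1, hb2, hb, -⟩ := (he.nilpotent_or_inv k (a := x * y) (by rw [← mul_assoc, h3])
    (by rw [mul_assoc, h6])).resolve_left hn
  have hxy : x * (y * b) = e := by rw [← mul_assoc, hb]
  refine ⟨x, y * b, hxy, ?_, h3, h4, by rw [← mul_assoc, h5], by rw [mul_assoc, hb2]⟩
  have hid : y * b * x * (y * b * x) = y * b * x := by
    rw [mul_assoc (y * b) x, ← mul_assoc x (y * b) x, hxy, h3]
  refine (hf.2.2 _ hid (by rw [← mul_assoc, ← mul_assoc, h5]) (by rw [mul_assoc, h4])).resolve_left
    fun h0 => he.1 ?_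
  calc e = x * (y * b) * (x * (y * b)) := by rw [hxy, he.2.1]
    _ = x * (y * b * x) * (y * b) := by simp only [mul_assoc]
    _ = 0 := by rw [h0, mul_zero, zero_mul]

theorem cornerRes_eq_zero_of_not_link {e f : A} (he : IsPrim e) (hf : IsPrim f)
    (hn : ¬ Link e f) (a b : A) : cornerRes k e (a * f * b) = 0 := by
  refine cornerRes_eq he ?_
  rw [zero_smul, sub_zero]
  by_contra h
  refine hn (exists_link_of_inv k he hf (x := e * a * f) (y := f * b * e) ?_ ?_ ?_ ?_ ?_)
  · rw [← mul_assoc, ← mul_assoc, he.2.1]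
  · rw [mul_assoc, hf.2.1]
  · rw [← mul_assoc, ← mul_assoc, hf.2.1]
  · rw [mul_assoc, he.2.1]
  · rwa [show e * a * f * (f * b * e) = e * (a * f * b) * e by
      simp only [mul_assoc]; rw [← mul_assoc f f, hf.2.1]]

/-- The trace property of corner residues. -/
theorem cornerRes_mul_comm {e f x y : A} (he : IsPrim e) (hf : IsPrim f) (h3 : e * x = x)
    (h4 : x * f = x) (h5 : f * y = y) (h6 : y * e = y) :
    cornerRes k e (x * y) = cornerRes k f (y * x) := by
  have key : ∀ {e f x y : A}, IsPrim e → IsPrim f → e * x = x → x * f = x → f * y = y → y * e = y →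
      ∀ c : k, c ≠ 0 → IsNilpotent (x * y - c • e) → IsNilpotent (y * x - c • f) := by
    intro e f x y he hf h3 h4 h5 h6 c hc hn
    obtain ⟨n, hn⟩ := hn
    have hcomm : ∀ r, x * (y * x - c • f) ^ r = (x * y - c • e) ^ r * x := by
      intro r
      induction r with
      | zero => simp
      | succ r ih =>
        rw [pow_succ', ← mul_assoc, mul_sub, ← mul_assoc, mul_smul_comm, h4]
        rw [show x * y * x - c • x = (x * y - c • e) * x by rw [sub_mul, smul_mul_assoc, h3],
          mul_assoc, ih, ← mul_assoc, ← pow_succ']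
    have h1 : y * x * (y * x - c • f) ^ n = 0 := by rw [mul_assoc, hcomm, hn, zero_mul, mul_zero]
    rcases hf.nilpotent_or_inv k (a := y * x) (by rw [← mul_assoc, h5]) (by rw [mul_assoc, h4]) with
      hnil | ⟨b, -, -, -, hb⟩
    · exfalso
      obtain ⟨r, hr⟩ := hnil
      have h2 : ∀ r, (x * y) ^ (r + 1) = x * (y * x) ^ r * y := by
        intro r
        induction r with
        | zero => simp
        | succ r ih => rw [pow_succ, ih, pow_succ]; simp only [mul_assoc]
      have h0 : IsNilpotent (x * y) := ⟨r + 1, by rw [h2, hr, mul_zero, zero_mul]⟩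
      exact hc (he.scalar_unique (a := x * y) (by rw [← mul_assoc, h3]) (by rw [mul_assoc, h6])
        ⟨n, hn⟩ (by rwa [zero_smul, sub_zero]))
    · refine ⟨n + 1, ?_⟩
      have hfa : f * (y * x - c • f) = y * x - c • f := by
        rw [mul_sub, ← mul_assoc, h5, mul_smul_comm, hf.2.1]
      rw [pow_succ', show (y * x - c • f) = f * (y * x - c • f) from hfa.symm]
      rw [hfa]
      calc (y * x - c • f) * (y * x - c • f) ^ n
          = f * (y * x - c • f) * (y * x - c • f) ^ n := by rw [hfa]
        _ = f * ((y * x - c • f) ^ n * (y * x - c • f)) := by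
            rw [mul_assoc, ← pow_succ', pow_succ]
        _ = b * (y * x * (y * x - c • f) ^ n) * (y * x - c • f) := by
            rw [← hb]; simp only [mul_assoc]
        _ = 0 := by rw [h1, mul_zero, zero_mul]
  have hx : e * (x * y) * e = x * y := by rw [← mul_assoc, h3, mul_assoc, h6]
  have hy : f * (y * x) * f = y * x := by rw [← mul_assoc, h5, mul_assoc, h4]
  have se := cornerRes_spec (k := k) he (x * y)
  have sf := cornerRes_spec (k := k) hf (y * x)
  rw [hx] at se
  rw [hy] at sf
  by_cases hc : cornerRes k e (x * y) = 0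
  · by_contra hne
    have hd : cornerRes k f (y * x) ≠ 0 := fun h => hne (hc.trans h.symm)
    exact hne (cornerRes_eq he (by rw [hx]; exact key hf he h5 h6 h3 h4 _ hd sf))
  · exact (cornerRes_eq hf (by rw [hy]; exact key he hf h3 h4 h5 h6 _ hc se)).symm

/-- **Orbits of linkage classes have cardinality divisible by `p`.** -/
theorem exists_orbit_multiple {p : ℕ} (hp : p.Prime) [CharP k p] {i d : A} (σ : A ≃ₐ[k] A)
    (hσi : σ i = i) (hσp : ∀ a, (σ ^ p) a = a) (hd : ∑ m ∈ range p, (σ ^ m) d = i)
    {ι : Type*} [Fintype ι] (j : ι → A) (hj : ∀ l, IsPrim (j l) ∧ i * j l = j l ∧ j l * i = j l)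
    (horth : ∀ l m, l ≠ m → j l * j m = 0) (hjs : ∑ l, j l = i) {R : Type*} [CommRing R] (f : A → R)
    (hlink : ∀ e e', IsPrim e → IsPrim e' → i * e = e → e * i = e → i * e' = e' → e' * i = e' →
      Link e e' → f e = f e')
    (hinv : ∀ e, IsPrim e → i * e = e → e * i = e → f (σ e) = f e) :
    ∃ c : ι → ℕ, ∑ l, f (j l) = (p : R) * ∑ l, (c l : R) * f (j l) := by
  classical
  have hσt : ∀ (t : ℕ) {e : A}, IsPrim e → i * e = e → e * i = e →
      IsPrim ((σ ^ t) e) ∧ i * (σ ^ t) e = (σ ^ t) e ∧ (σ ^ t) e * i = (σ ^ t) e := by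
    intro t e h1 h2 h3
    induction t with
    | zero => exact ⟨h1, h2, h3⟩
    | succ t ih =>
      rw [pow_succ', AlgEquiv.mul_apply]
      exact ⟨isPrim_map ih.1 σ, by conv_lhs => rw [← hσi, ← map_mul, ih.2.1],
        by conv_lhs => rw [← hσi, ← map_mul, ih.2.2]⟩
  have hσmul : ∀ (t r : ℕ) (a : A), (σ ^ t) ((σ ^ r) a) = (σ ^ (t + r)) a := fun t r a => by
    rw [pow_add, AlgEquiv.mul_apply]
  have hσper : ∀ (q : ℕ) (a : A), (σ ^ (p * q)) a = a := by
    intro q a
    induction q with
    | zero => simp
    | succ q ih => rw [Nat.mul_succ, ← hσmul, hσp, ih]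
  let r : Setoid ι := {
    r := fun l m => ∃ t : ℕ, Link ((σ ^ t) (j m)) (j l)
    iseqv := by
      refine ⟨fun l => ⟨0, link_refl (hj l).1.2.1⟩, ?_, ?_⟩
      · rintro l m ⟨t, ht⟩
        refine ⟨t * (p - 1), ?_⟩
        have h := link_map (link_symm ht) ((σ ^ (t * (p - 1))) : A ≃ₐ[k] A).toAlgHom
        simp only [AlgEquiv.toAlgHom_eq_coe, AlgEquiv.coe_algHom] at h
        rwa [hσmul, show t * (p - 1) + t = p * t by
          obtain ⟨p', rfl⟩ := Nat.exists_eq_succ_of_ne_zero hp.ne_zero
          simp only [Nat.succ_sub_one, Nat.succ_eq_add_one]; ring, hσper] at h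
      · rintro l m q ⟨t, ht⟩ ⟨t', ht'⟩
        refine ⟨t + t', ?_⟩
        have h := link_map ht' (σ ^ t : A ≃ₐ[k] A).toAlgHom
        simp only [AlgEquiv.toAlgHom_eq_coe, AlgEquiv.coe_algHom] at h
        rw [hσmul] at h
        exact link_trans h ht }
  have hfconst : ∀ l m, r.r l m → f (j l) = f (j m) := by
    rintro l m ⟨t, ht⟩
    obtain ⟨h1, h2, h3⟩ := hσt t (hj m).1 (hj m).2.1 (hj m).2.2
    rw [← hlink _ _ h1 (hj l).1 h2 h3 (hj l).2.1 (hj l).2.2 ht]
    clear ht h1 h2 h3
    induction t with
    | zero => rfl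
    | succ t ih =>
      obtain ⟨h1, h2, h3⟩ := hσt t (hj m).1 (hj m).2.1 (hj m).2.2
      rw [pow_succ', AlgEquiv.mul_apply, hinv _ h1 h2 h3, ih]
  have hdvd : ∀ l₀, p ∣ (univ.filter fun l => r.r l l₀).card := by
    intro l₀
    set O := univ.filter fun l => r.r l l₀
    let φ : A → k := fun b => ∑ l ∈ O, cornerRes k (j l) b
    have φadd : ∀ {κ : Type} (s : Finset κ) (g : κ → A), φ (∑ m ∈ s, g m) = ∑ m ∈ s, φ (g m) := by
      intro κ s g
      simp only [φ]
      rw [sum_comm]
      exact sum_congr rfl fun l _ => cornerRes_sum (hj l).1 s g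
    have φι : ∀ g : ι → A, φ (∑ m, g m) = ∑ m, φ (g m) := by
      intro g
      simp only [φ]
      rw [sum_comm]
      exact sum_congr rfl fun l _ => cornerRes_sum (hj l).1 univ g
    -- trace property
    have φtr : ∀ a b, i * a = a → a * i = a → i * b = b → b * i = b → φ (a * b) = φ (b * a) := by
      intro a b ha ha' hb hb'
      have e : ∀ a b : A, a * i = a → φ (a * b) =
          ∑ l ∈ O, ∑ m ∈ O, cornerRes k (j l) (j l * a * j m * (j m * b * j l)) := by
        intro a b ha
        simp only [φ]
        refine sum_congr rfl fun l hl => ?_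
        conv_lhs => rw [← ha, ← hjs, mul_sum, sum_mul, cornerRes_sum (hj l).1]
        rw [← sum_subset (subset_univ O) fun m _ hm => ?_]
        · refine sum_congr rfl fun m _ => ?_
          have : j l * a * j m * (j m * b * j l) = j l * (a * j m * b) * j l := by
            simp only [mul_assoc]; rw [← mul_assoc (j m) (j m), (hj m).1.2.1]
          rw [this]
          refine cornerRes_eq (hj l).1 ?_
          have h := cornerRes_spec (k := k) (hj l).1 (j l * (a * j m * b) * j l)
          rwa [(corner_abs (hj l).1.2.1 _).1, (corner_abs (hj l).1.2.1 _).2] at h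
        · refine cornerRes_eq_zero_of_not_link (hj l).1 (hj m).1 (fun hL => hm ?_) a b
          refine mem_filter.2 ⟨mem_univ _, ?_⟩
          exact r.iseqv.trans (r.iseqv.symm ⟨0, by simpa using link_symm hL⟩) (mem_filter.1 hl).2
      rw [e a b ha', e b a hb', sum_comm]
      refine sum_congr rfl fun l _ => sum_congr rfl fun m _ => ?_
      have h : ∀ l m (c : A), j l * (j l * c * j m) = j l * c * j m ∧
          j l * c * j m * j m = j l * c * j m := fun l m c =>
        ⟨by rw [← mul_assoc, ← mul_assoc, (hj l).1.2.1], by rw [mul_assoc, (hj m).1.2.1]⟩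
      exact cornerRes_mul_comm (hj m).1 (hj l).1 (h m l a).1 (h m l a).2 (h l m b).1 (h l m b).2
    -- values on primitive idempotents and on nilpotent elements of their corners
    have φsmul : ∀ (c : k) a, φ (c • a) = c * φ a := fun c a => by
      simp only [φ, mul_sum]
      exact sum_congr rfl fun l _ => cornerRes_smul (hj l).1 c a
    have φprim : ∀ e, IsPrim e → i * e = e → e * i = e →
        ∃ m, Link e (j m) ∧ φ e = (if r.r m l₀ then (1 : k) else 0) ∧
          ∀ a, e * a = a → a * e = a → IsNilpotent a → φ a = 0 := by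
      intro e he hie hei
      obtain ⟨m, hm⟩ : ∃ m, ¬ IsNilpotent (e * j m * e) := by
        by_contra hno
        simp only [not_exists, not_not] at hno
        have h : cornerRes k e (i : A) = 0 := by
          rw [← hjs, cornerRes_sum he]
          exact sum_eq_zero fun m _ => cornerRes_eq he (by rw [zero_smul, sub_zero]; exact hno m)
        have h' : cornerRes k e (i : A) = 1 := cornerRes_eq he (by rw [hei, he.2.1]; simp)
        exact one_ne_zero (h'.symm.trans h)
      have hL : Link e (j m) := by
        refine exists_link_of_inv k he (hj m).1 (x := e * j m) (y := j m * e) ?_ ?_ ?_ ?_ ?_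
        · rw [← mul_assoc, he.2.1]
        · rw [mul_assoc, (hj m).1.2.1]
        · rw [← mul_assoc, (hj m).1.2.1]
        · rw [mul_assoc, he.2.1]
        · rwa [mul_assoc, ← mul_assoc (j m) (j m), (hj m).1.2.1, ← mul_assoc]
      obtain ⟨x, y, h1, h2, h3, h4, h5, h6⟩ := id hL
      have hx : i * x = x ∧ x * i = x :=
        ⟨by rw [← h3, ← mul_assoc, hie], by rw [← h4, mul_assoc, (hj m).2.2]⟩
      have hy : i * y = y ∧ y * i = y :=
        ⟨by rw [← h5, ← mul_assoc, (hj m).2.1], by rw [← h6, mul_assoc, hei]⟩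
      -- `φ` of an element of the corner of `j m`
      have hval : ∀ a, j m * a = a → a * j m = a →
          φ a = if r.r m l₀ then cornerRes k (j m) a else 0 := by
        intro a ha ha'
        simp only [φ]
        have hoff : ∀ l, l ≠ m → cornerRes k (j l) a = 0 := fun l hlm =>
          cornerRes_eq (hj l).1 (by
            rw [← ha, ← mul_assoc (j l) (j m), horth l m hlm, zero_mul, zero_mul, zero_smul, sub_zero]
            exact IsNilpotent.zero)
        by_cases hm' : r.r m l₀
        · rw [if_pos hm', sum_eq_single m (fun l _ hlm => hoff l hlm)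
            (fun h => absurd (show m ∈ O from mem_filter.2 ⟨mem_univ m, hm'⟩) h)]
        · rw [if_neg hm']
          exact sum_eq_zero fun l hl => hoff l fun h => hm' (h ▸ (mem_filter.1 hl).2)
      refine ⟨m, hL, ?_, fun a ha ha' hnil => ?_⟩
      · rw [← h1, φtr x y hx.1 hx.2 hy.1 hy.2, h2, hval _ (hj m).1.2.1 (hj m).1.2.1,
          cornerRes_self (hj m).1]
      · have hax : a * x * y = a := by rw [mul_assoc, h1, ha']
        rw [← hax, φtr (a * x) y (by rw [← mul_assoc, ← ha, ← mul_assoc i, hie])
          (by rw [mul_assoc, hx.2]) hy.1 hy.2,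
          hval _ (by rw [← mul_assoc, h5]) (by rw [mul_assoc, mul_assoc, h4])]
        split_ifs with h
        · refine cornerRes_eq (hj m).1 ?_
          rw [zero_smul, sub_zero, ← mul_assoc (j m) y, h5, mul_assoc, mul_assoc a x, h4]
          obtain ⟨n, hn⟩ := hnil
          have h7 : ∀ r, (y * (a * x)) ^ (r + 1) = y * a ^ (r + 1) * x := by
            intro r
            induction r with
            | zero => simp [mul_assoc]
            | succ r ih =>
              rw [pow_succ, ih, pow_succ a (r + 1)]
              simp only [mul_assoc]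
              rw [← mul_assoc x y, h1, ← mul_assoc e a, ha]
          exact ⟨n + 1, by rw [h7, pow_succ, hn, zero_mul, mul_zero, zero_mul]⟩
        · rfl
    -- invariance
    have φσ : ∀ b, i * b = b → b * i = b → φ (σ b) = φ b := by
      intro b hb hb'
      have hsi : ∀ {a}, i * a = a → i * σ a = σ a := fun h => by
        conv_lhs => rw [← hσi, ← map_mul, h]
      have hsi' : ∀ {a}, a * i = a → σ a * i = σ a := fun h => by
        conv_lhs => rw [← hσi, ← map_mul, h]
      have e : ∀ c, i * c = c → c * i = c → φ c = ∑ l, φ (j l * c * j l) := by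
        intro c hc hc'
        conv_lhs => rw [← hc, ← hjs, sum_mul, φι]
        refine sum_congr rfl fun l _ => ?_
        calc φ (j l * c) = φ (j l * (j l * c)) := by rw [← mul_assoc, (hj l).1.2.1]
          _ = φ (j l * c * j l) := φtr (j l) (j l * c) (hj l).2.1 (hj l).2.2
            (by rw [← mul_assoc, (hj l).2.1]) (by rw [mul_assoc, hc'])
      have e' : φ (σ b) = ∑ l, φ (σ (j l * b * j l)) := by
        conv_lhs => rw [← hb, ← hjs, sum_mul, map_sum, φι]
        refine sum_congr rfl fun l _ => ?_
        calc φ (σ (j l * b)) = φ (σ (j l) * σ (j l * b)) := by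
              rw [← map_mul, ← mul_assoc, (hj l).1.2.1]
          _ = φ (σ (j l * b) * σ (j l)) := φtr _ _ (hsi (hj l).2.1) (hsi' (hj l).2.2)
            (hsi (by rw [← mul_assoc, (hj l).2.1])) (hsi' (by rw [mul_assoc, hb']))
          _ = _ := by rw [← map_mul]
      rw [e', e b hb hb']
      refine sum_congr rfl fun l _ => ?_
      obtain ⟨c, hc⟩ := (hj l).1.exists_scalar (k := k) (corner_abs (hj l).1.2.1 b).1
        (corner_abs (hj l).1.2.1 b).2
      set a := j l * b * j l with ha
      have hla := (corner_abs (hj l).1.2.1 b)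
      rw [← ha] at hla
      set n := a - c • j l with hn
      have hn1 : j l * n = n := by rw [hn, mul_sub, hla.1, mul_smul_comm, (hj l).1.2.1]
      have hn2 : n * j l = n := by rw [hn, sub_mul, hla.2, smul_mul_assoc, (hj l).1.2.1]
      obtain ⟨m, hL, hv, hnil⟩ := φprim _ (hj l).1 (hj l).2.1 (hj l).2.2
      obtain ⟨m', hL', hv', hnil'⟩ :=
        φprim _ (isPrim_map (hj l).1 σ) (hsi (hj l).2.1) (hsi' (hj l).2.2)
      have hlm : r.r m l ∧ r.r m' l :=
        ⟨⟨0, by simpa using hL⟩, ⟨1, by simpa using hL'⟩⟩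
      have hiff : r.r m l₀ ↔ r.r m' l₀ :=
        ⟨fun h => r.iseqv.trans hlm.2 (r.iseqv.trans (r.iseqv.symm hlm.1) h),
          fun h => r.iseqv.trans hlm.1 (r.iseqv.trans (r.iseqv.symm hlm.2) h)⟩
      have hsplit : a = c • j l + n := by rw [hn]; abel
      have φadd2 : ∀ u v, φ (u + v) = φ u + φ v := fun u v => by
        simp only [φ, ← sum_add_distrib]
        exact sum_congr rfl fun x _ => cornerRes_add (hj x).1 u v
      rw [hsplit, map_add, map_smul, φadd2, φadd2, φsmul, φsmul, hv, hv', hnil n hn1 hn2 hc,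
        hnil' (σ n) (by rw [← map_mul, hn1]) (by rw [← map_mul, hn2]) (hc.map σ)]
      exact congrArg (fun z => c * z + 0) (if_congr hiff.symm rfl rfl)
    have hpre : ∑ m ∈ range p, (σ ^ m) (i * d * i) = i := by
      have h : ∀ m, (σ ^ m) i = i := fun m => by
        induction m with
        | zero => rfl
        | succ m ih => rw [pow_succ', AlgEquiv.mul_apply, ih, hσi]
      simp only [map_mul, h, ← sum_mul, ← mul_sum, hd]
      have hii : i * i = i := by
        conv_lhs => arg 2; rw [← hjs]
        rw [mul_sum, sum_congr rfl fun l _ => (hj l).2.1, hjs]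
      rw [hii, hii]
    have hii : i * i = i := by
      conv_lhs => arg 2; rw [← hjs]
      rw [mul_sum, sum_congr rfl fun l _ => (hj l).2.1, hjs]
    have hm : ∀ m, φ ((σ ^ m) (i * d * i)) = φ (i * d * i) ∧
        i * (σ ^ m) (i * d * i) = (σ ^ m) (i * d * i) ∧
        (σ ^ m) (i * d * i) * i = (σ ^ m) (i * d * i) := by
      intro m
      induction m with
      | zero =>
        rw [pow_zero, AlgEquiv.one_apply]
        exact ⟨rfl, (corner_abs hii d).1, (corner_abs hii d).2⟩
      | succ m ih =>
        rw [pow_succ', AlgEquiv.mul_apply]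
        set a := (σ ^ m) (i * d * i)
        exact ⟨(φσ _ ih.2.1 ih.2.2).trans ih.1,
          (congrArg (· * σ a) hσi.symm).trans (by rw [← map_mul, ih.2.1]),
          (congrArg (σ a * ·) hσi.symm).trans (by rw [← map_mul, ih.2.2])⟩
    have hφi : φ i = 0 := by
      rw [← hpre, φadd, sum_congr rfl fun m _ => (hm m).1, sum_const, card_range, nsmul_eq_mul,
        CharP.cast_eq_zero, zero_mul]
    have hφi' : φ i = (O.card : k) := by
      have : ∀ l ∈ O, cornerRes k (j l) i = 1 := fun l _ =>
        cornerRes_eq (hj l).1 (by rw [(hj l).2.2, (hj l).1.2.1]; simp)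
      simp only [φ]
      rw [sum_congr rfl this, sum_const, nsmul_eq_mul, mul_one]
    exact (CharP.cast_eq_zero_iff k p _).1 (hφi'.symm.trans hφi)
  -- assemble
  let q : ι → Quotient r := Quotient.mk r
  refine ⟨fun l => if (q l).out = l then (univ.filter fun m => r.r m l).card / p else 0, ?_⟩
  rw [mul_sum, ← sum_fiberwise univ q fun l => f (j l),
    ← sum_fiberwise univ q fun l =>
      (p : R) * (((if (q l).out = l then (univ.filter fun m => r.r m l).card / p else 0 : ℕ) : R) *
        f (j l))]
  refine sum_congr rfl fun Qc _ => ?_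
  have hmem : ∀ m, m ∈ univ.filter (fun l => q l = Qc) ↔ r.r m Qc.out := fun m => by
    rw [mem_filter, and_iff_right (mem_univ _)]
    refine ⟨fun h => Quotient.exact (h.trans (Quotient.out_eq Qc).symm), fun h => ?_⟩
    exact (Quotient.sound h).trans (Quotient.out_eq Qc)
  rw [sum_congr rfl fun m hm => hfconst m Qc.out ((hmem m).1 hm), sum_const, nsmul_eq_mul,
    sum_eq_single_of_mem Qc.out ((hmem _).2 (r.iseqv.refl _))]
  · have hcard : (univ.filter fun l => q l = Qc) = univ.filter fun m => r.r m Qc.out := by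
      ext m
      rw [hmem, mem_filter, and_iff_right (mem_univ _)]
    rw [show q Qc.out = Qc from Quotient.out_eq Qc, if_pos rfl, hcard, ← mul_assoc, ← Nat.cast_mul,
      Nat.mul_div_cancel' (hdvd _)]
  · intro m hm hne
    rw [(mem_filter.1 hm).2, if_neg (Ne.symm hne), Nat.cast_zero, zero_mul, mul_zero]

end CfsgLib.BlockStar
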