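import Cfsg.Agent.BlocksB.Star.Weight

/-!
# Characters of height zero have nonzero parts at every subsection

Some primitive idempotent of a block that is fixed by the defect group survives there and has a
value at the character that is not in the ideal.
-/

set_option autoImplicit false
set_option linter.style.haveILetI false
set_option linter.unusedSectionVars false

namespace CfsgLib.BlockStar

open Cfsg Finset CfsgLib.Block CfsgLib.Block.Chr CfsgLib.BrauerPairs CfsgLib.Char CfsgLib.BlockB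
open scoped ComplexConjugate
open scoped Classical

universe u

variable {M : Ideal AlgInt} [M.IsPrime] {p : ℕ} [Fact p.Prime] [CharP (Residue M) p]
  {G : Type u} [Group G] [Fintype G]

local notation "𝕜" => Residue M
local notation "Z[" x "]" => Subgroup.zpowers x
local notation "C[" Q "]" => Subgroup.centralizer (SetLike.coe Q)

/-- The linear extension of the reduced character. -/
noncomputable def rho (χ : IrrCharacter G) : MonoidAlgebra 𝕜 G →ₗ[𝕜] 𝕜 where
  toFun a := ∑ g, a.coeff g * red M ((χ : G → ℂ) g)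
  map_add' a b := by simp [add_mul, sum_add_distrib]
  map_smul' c a := by simp [mul_sum, mul_assoc]

theorem rho_apply (χ : IrrCharacter G) (a : MonoidAlgebra 𝕜 G) :
    rho χ a = ∑ g, a.coeff g * red M ((χ : G → ℂ) g) := rfl

theorem rho_mul (χ : IrrCharacter G) (a b : MonoidAlgebra 𝕜 G) :
    rho χ (a * b) = ∑ x, ∑ h, a.coeff x * b.coeff h * red M ((χ : G → ℂ) (x * h)) := by
  rw [rho_apply]
  simp only [CfsgLib.BrauerPairs.coeff_mul, sum_mul]
  rw [sum_comm]
  refine sum_congr rfl fun x _ => ?_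
  refine Fintype.sum_equiv (Equiv.mulLeft x⁻¹) _ _ fun g => ?_
  show a.coeff x * b.coeff (x⁻¹ * g) * red M ((χ : G → ℂ) g) = _
  rw [Equiv.coe_mulLeft, mul_inv_cancel_left]

theorem rho_mul_comm (χ : IrrCharacter G) (a b : MonoidAlgebra 𝕜 G) :
    rho χ (a * b) = rho χ (b * a) := by
  rw [rho_mul, rho_mul, sum_comm]
  exact sum_congr rfl fun h _ => sum_congr rfl fun x _ => by
    rw [classFun_mul_comm (isClassFunction_irr χ) x h]; ring

theorem rho_mul_single (χ : IrrCharacter G) (a : MonoidAlgebra 𝕜 G) (z : G) :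
    rho χ (a * MonoidAlgebra.single z 1) = ∑ x, a.coeff x * red M ((χ : G → ℂ) (x * z)) := by
  rw [rho_mul]
  refine sum_congr rfl fun x _ => ?_
  rw [sum_eq_single z]
  · rw [MonoidAlgebra.coeff_single_apply, if_pos rfl, mul_one]
  · intro h _ hne
    rw [MonoidAlgebra.coeff_single_apply, if_neg hne.symm, mul_zero, zero_mul]
  · exact fun h => absurd (mem_univ _) h

theorem rho_cj (χ : IrrCharacter G) (g : G) (a : MonoidAlgebra 𝕜 G) :
    rho χ (cj 𝕜 g a) = rho χ a := by
  rw [rho_apply, rho_apply]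
  refine Fintype.sum_equiv (MulAut.conj g⁻¹).toEquiv _ _ fun x => ?_
  have hc : (cj 𝕜 g a).coeff x = a.coeff (g⁻¹ * x * g) := by simp [cj, MulAut.conj_symm_apply]
  show _ = a.coeff (g⁻¹ * x * g⁻¹⁻¹) * red M ((χ : G → ℂ) (g⁻¹ * x * g⁻¹⁻¹))
  rw [hc, inv_inv, show (χ : G → ℂ) (g⁻¹ * x * g) = (χ : G → ℂ) x by
    simpa using isClassFunction_irr χ x g⁻¹]

theorem red_sval (χ : IrrCharacter G) (z : G) (a : LA M G) :
    red M (sval χ z a) = rho χ (redA a * MonoidAlgebra.single z 1) := by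
  rw [rho_mul_single, sval, red_sum _ fun g _ => memLocalRing_mul (a.coeff g).2 (irr_mem χ _)]
  refine sum_congr rfl fun g _ => ?_
  rw [red_mul (a.coeff g).2 (irr_mem χ _), coeff_redA, red_eq (a.coeff g).2]

/-- The value of a member at a `p`-regular element, computed with the idempotent of its block. -/
theorem rho_idem_mul (hM : IsPModular p M) {B : Set (IrrCharacter G)} (hB : IsPBlock M B)
    {χ : IrrCharacter G} (hχ : χ ∈ B) (y : G) :
    rho χ (idem M B * MonoidAlgebra.single y 1) = red M ((χ : G → ℂ) y) := by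
  rw [rho_mul_single, show (χ : G → ℂ) y = blockPart B (χ : G → ℂ) y by
    rw [blockPart_irr, if_pos hχ], blockPart_eq_conv B (isClassFunction_irr χ),
    red_sum _ fun g _ => memLocalRing_mul (blockCoeff_mem hB g) (irr_mem χ _)]
  refine sum_congr rfl fun g _ => ?_
  rw [red_mul (blockCoeff_mem hB g) (irr_mem χ _), idem, coeff_redFun]

/-- A regular central element acts on a primitive idempotent by a scalar. -/
theorem exists_smul_of_regular {T : Subgroup G} {j : MonoidAlgebra 𝕜 G} (hj : IsPrimFix T j)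
    {y : G} (hy : ¬ p ∣ orderOf y) (hyT : y ∈ T) (hcen : ∀ t ∈ T, t * y = y * t) :
    ∃ c : 𝕜, MonoidAlgebra.single y (1 : 𝕜) * j = c • j := by
  have hp : p.Prime := Fact.out
  set sy := MonoidAlgebra.single y (1 : 𝕜) with hsy
  have hc : Commute sy j := fixBy_iff_commute.1 hj.1 y hyT
  have hfix : FixBy T sy := fixBy_iff_commute.2 fun t ht => by
    show _ * _ = _ * _
    rw [hsy, MonoidAlgebra.single_mul_single, MonoidAlgebra.single_mul_single, hcen t ht]
  set J : fixAlg 𝕜 T := ⟨j, suppIn_top j, hj.1⟩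
  set A : fixAlg 𝕜 T := ⟨sy * j, suppIn_top _, fixBy_mul hfix hj.1⟩
  have hjj := hj.2.2.1
  obtain ⟨c, hn⟩ := IsPrim.exists_scalar (k := 𝕜) (isPrim_of_isPrimFix hj) (a := A)
    (Subtype.ext (show j * (sy * j) = sy * j by rw [← mul_assoc, ← hc.eq, mul_assoc, hjj]))
    (Subtype.ext (show sy * j * j = sy * j by rw [mul_assoc, hjj]))
  obtain ⟨n, hn'⟩ := hn.map (fixAlg 𝕜 T).val
  replace hn' : (sy * j - c • j) ^ n = 0 := hn'
  obtain ⟨K, hK⟩ : ∃ K, n ≤ p ^ K := ⟨n, (Nat.lt_pow_self hp.one_lt).le⟩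
  have hcop : Nat.Coprime (p ^ K) (orderOf y) :=
    (hp.coprime_iff_not_dvd.2 hy).pow_left K
  obtain ⟨r, hr⟩ := exists_pow_eq_self_of_coprime hcop
  obtain ⟨r', hr0, hr'⟩ : ∃ r' ≠ 0, (y ^ p ^ K) ^ r' = y :=
    ⟨r + orderOf y, by have := orderOf_pos y; omega, by
      rw [pow_add, hr, ← pow_mul, mul_comm, pow_mul, pow_orderOf_eq_one, one_pow, mul_one]⟩
  haveI : CharP (MonoidAlgebra 𝕜 G) p :=
    charP_of_injective_algebraMap (algebraMap 𝕜 (MonoidAlgebra 𝕜 G)).injective p
  have hcomm : Commute (c • j) (sy * j - c • j) :=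
    ((hc.symm.mul_right (Commute.refl j)).smul_left c).sub_right (Commute.refl _)
  have hjpow : ∀ m ≠ 0, j ^ m = j := fun m hm => (show IsIdempotentElem j from hjj).pow_eq hm
  have hq : p ^ K ≠ 0 := pow_ne_zero _ hp.ne_zero
  have h1 : (sy * j) ^ p ^ K = c ^ p ^ K • j := by
    have h := add_pow_char_pow_of_commute (p := p) (n := K) hcomm
    rw [add_sub_cancel] at h
    rw [h, pow_eq_zero_of_le hK hn', add_zero, smul_pow, hjpow _ hq]
  refine ⟨(c ^ p ^ K) ^ r', ?_⟩
  calc sy * j = (sy * j) ^ (p ^ K * r') := by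
        rw [hc.mul_pow, hjpow _ (mul_ne_zero hq hr0), hsy, MonoidAlgebra.single_pow, one_pow,
          pow_mul, hr']
    _ = (c ^ p ^ K) ^ r' • j := by rw [pow_mul, h1, smul_pow, hjpow _ hr0]

/-- A surviving primitive idempotent of the block with nonzero value. -/
theorem exists_local_idem (hM : IsPModular p M) {B : Set (IrrCharacter G)} (hB : IsPBlock M B)
    {χ : IrrCharacter G} (hχ : χ ∈ B) (h0 : blockHeight p B (χ : G → ℂ) = 0) {P : Subgroup G}
    (hP : IsDef p (idem M B) P) :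
    ∃ (y : G) (j : MonoidAlgebra 𝕜 G), ¬ p ∣ orderOf y ∧ y ∈ C[P] ∧ IsPrimFix (P ⊔ Z[y]) j ∧
      idem M B * j = j ∧ br P j ≠ 0 ∧ rho χ j ≠ 0 := by
  have hPp : IsPGroup p P := hP.1
  obtain ⟨y, hy, S, hS⟩ := isDefectGroup_of_isDef hM hB hP
  have hyreg : ¬ p ∣ orderOf y := defectClass_regular hM hB hy
  have hyP : y ∈ C[P] := by
    rw [hS]
    refine Subgroup.mem_centralizer_iff.2 ?_
    rintro _ ⟨u, -, rfl⟩
    exact Subgroup.mem_centralizer_singleton_iff.1 u.2
  set T := P ⊔ Z[y] with hT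
  have hyT : y ∈ T := Subgroup.mem_sup_right (Subgroup.mem_zpowers y)
  have hcen : ∀ t ∈ T, t * y = y * t := by
    have hle : T ≤ C[Z[y]] := by
      rw [hT, sup_le_iff, Subgroup.zpowers_le, mem_cz]
      exact ⟨fun u hu => mem_cz.2 (Subgroup.mem_centralizer_iff.1 hyP u hu), rfl⟩
    exact fun t ht => mem_cz.1 (hle ht)
  have hbT : FixBy T (idem M B) := (isBlk_idem hM hB).fixBy.mono le_top
  obtain ⟨N, j, hj, -, hjs⟩ := exists_decomp 𝕜
    (i := (⟨idem M B, suppIn_top _, hbT⟩ : fixAlg 𝕜 T)) (Subtype.ext (idem_idem hB))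
  have hprim : ∀ l, IsPrimFix T (j l : MonoidAlgebra 𝕜 G) := fun l => isPrimFix_of_isPrim (hj l).1
  choose c hc using fun l => exists_smul_of_regular (hprim l) hyreg hyT hcen
  have hsum : red M ((χ : G → ℂ) y) = ∑ l, c l * rho χ (j l : MonoidAlgebra 𝕜 G) := by
    rw [← rho_idem_mul hM hB hχ y, rho_mul_comm,
      show idem M B = ((∑ l, j l : fixAlg 𝕜 T) : MonoidAlgebra 𝕜 G) by rw [hjs],
      AddSubmonoidClass.coe_finsetSum, mul_sum, map_sum]
    exact sum_congr rfl fun l _ => by rw [hc, map_smul, smul_eq_mul]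
  obtain ⟨l, hl⟩ : ∃ l, rho χ (j l : MonoidAlgebra 𝕜 G) ≠ 0 := by
    by_contra h
    simp only [not_exists, not_not] at h
    refine (blockHeight_eq_zero_iff hM hB hy hχ).1 h0 ((red_eq_zero_iff (irr_mem χ y)).1 ?_)
    rw [hsum]
    exact sum_eq_zero fun l _ => by rw [h, mul_zero]
  refine ⟨y, _, hyreg, hyP, hprim l, congrArg Subtype.val (hj l).2.1, fun hbr => hl ?_, hl⟩
  obtain ⟨X, d, hXP, hXn, hXi, hd, -, -, htr⟩ := exists_eq_tr_of_br_eq_zero hPp
    (by rwa [Nat.card_zpowers]) (Subgroup.zpowers_le.2 hyP) (hprim l) hbr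
  obtain ⟨g, hg, hgX⟩ : ∃ g ∈ P, g ∉ X := by
    by_contra hno
    simp only [not_exists, not_and, not_not] at hno
    rw [Subgroup.relIndex_eq_one.2 hno] at hXi
    exact (Fact.out : p.Prime).one_lt.ne hXi
  rw [← htr, tr_eq_sum_pow hXn hXP hXi hg hgX (hd.mono le_sup_left), map_sum]
  simp only [rho_cj, sum_const, card_range, nsmul_eq_mul, CharP.cast_eq_zero, zero_mul]

/-- A block part of a section is congruent to its value at the `p'`-part. -/
theorem blockPart_cong_pPart (hM : IsPModular p M) {y : G} {H : Subgroup G} [Fintype H]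
    (hH : H = Subgroup.centralizer ({y} : Set G)) {k : ℕ} (hy : orderOf y = p ^ k)
    (c : Set (IrrCharacter H)) (χ : IrrCharacter G) {x t : H} (hcomm : Commute x t) {n : ℕ}
    (hx : x ^ p ^ n = 1) (ht : ¬ p ∣ orderOf t) :
    MemLocalIdeal M (blockPart c (secFun H y χ) (x * t) - blockPart c (secFun H y χ) t) := by
  letI := irrFintype (G := H)
  rw [blockPart_eq_sum_inner, blockPart_eq_sum_inner, ← sum_sub_distrib]
  refine memLocalIdeal_sum fun ξ _ => ?_
  obtain ⟨lam, m, hlam, -, -, hm⟩ := exists_section_coeff hM hH hy χ ξ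
  rw [hm, ← mul_sub]
  exact memLocalIdeal_mul_left (memLocalRing_mul
    (memLocalRing_of_isIntegral (isIntegral_of_pow_eq_one (pow_pos hM.1.pos k) hlam))
    (natCast_mem_localRing m))
    (char_cong_pPart hM (isCharacter_irr ξ) hcomm hx ht (pow_orderOf_eq_one t))

/-- Nonvanishing below a pair met by the idempotent. -/
theorem contribR_ne_zero_aux (hM : IsPModular p M) {χ : IrrCharacter G} {P : Subgroup G}
    (hP : IsPGroup p P) {y : G} (hyreg : ¬ p ∣ orderOf y) (hyP : y ∈ C[P])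
    {j : MonoidAlgebra 𝕜 G} (hj : IsPrimFix (P ⊔ Z[y]) j) {f : MonoidAlgebra 𝕜 G}
    (hf : IsPair p (P, f)) (hjf : br P j * f ≠ 0) (hrho : rho χ j ≠ 0) {u : G} (hu : u ∈ P) :
    contribR p χ χ u (subBlk p P f u) ≠ 0 := by
  intro hzero
  have hle := subBlk_ple hf hu
  have hbe := br_mul_eq_of_ple hP (by rwa [Nat.card_zpowers]) (Subgroup.zpowers_le.2 hyP) hj hf hjf hle
  set E := subBlk p P f u
  have hEB : IsBlk 𝕜 C[Z[u]] E := (PLE.isPair hle hf).2
  obtain ⟨c, hc, hcE⟩ := exists_idemIn_eq hM hEB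
  have hup : u ∈ pSet p G := mem_pSet_of_mem hf hu
  obtain ⟨n, hn⟩ := mem_pSet.1 hup
  have h : PElt p u 1 :=
    ⟨⟨n, hn⟩, by rw [orderOf_one]; exact hM.1.not_dvd_one, Commute.one_right u⟩
  obtain ⟨k, hk⟩ := orderOf_eq_pow h
  -- the block part vanishes
  have hsub : ∀ s : C[Z[u]], subPart p c u χ s = 0 := by
    intro s
    have hz : contrib p c u χ χ = 0 := by rw [← contribR_idemIn hM χ χ hup hc, hcE]; exact hzero
    rw [contrib, CfsgLib.Char.classInner_def, mul_eq_zero] at hz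
    have hz' := hz.resolve_left (inv_ne_zero (Nat.cast_ne_zero.2 Nat.card_pos.ne'))
    simp only [Complex.mul_conj'] at hz'
    norm_cast at hz'
    rw [sum_eq_zero_iff_of_nonneg fun _ _ => sq_nonneg _] at hz'
    exact norm_eq_zero.1 (pow_eq_zero_iff two_ne_zero |>.1 (hz' s (mem_univ s)))
  have hT : Z[u] ⊔ Z[(1 : G)] ≤ P := by
    simpa [Subgroup.zpowers_le] using hu
  have hjT : FixBy (Z[u] ⊔ Z[(1 : G)]) j := hj.1.mono (hT.trans le_sup_left)
  have hju : FixBy Z[u] j := hjT.mono le_sup_left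
  have hidem : br Z[u] j * br Z[u] j = br Z[u] j := by
    rw [← br_mul h.isPGroup hju hju, hj.2.2.1]
  have hfixbr : FixBy (Z[u] ⊔ Z[(1 : G)]) (br Z[u] j) :=
    fixBy_br hjT ((sup_le_cz h).trans (centralizer_le_normalizer _))
  -- a lift supported in the centralizer
  obtain ⟨a, ha, hared, haT, haC⟩ := exists_lift_in (sup_le_cz h) hidem hfixbr (suppIn_br j)
  have hu' : u ∈ Z[u] ⊔ Z[(1 : G)] := Subgroup.mem_sup_left (Subgroup.mem_zpowers u)
  have h1' : (1 : G) ∈ Z[u] ⊔ Z[(1 : G)] := Subgroup.one_mem _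
  have hcl : Commute a (liftBlk hc) := by
    have hsum : a = ∑ g, MonoidAlgebra.single g (a.coeff g) := by
      refine MonoidAlgebra.coeff_injective (Finsupp.ext fun g => ?_)
      rw [MonoidAlgebra.coeff_sum, Finsupp.finsetSum_apply, sum_eq_single g]
      · rw [MonoidAlgebra.coeff_single_apply, if_pos rfl]
      · exact fun x _ hne => by rw [MonoidAlgebra.coeff_single_apply, if_neg hne]
      · exact fun hg => absurd (mem_univ g) hg
    rw [hsum]
    refine Commute.sum_left _ _ _ fun g _ => ?_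
    by_cases hg : g ∈ C[Z[u]]
    · rw [show MonoidAlgebra.single g (a.coeff g) =
        a.coeff g • MonoidAlgebra.single g (1 : localRing M) by
          rw [MonoidAlgebra.smul_single, smul_eq_mul, mul_one]]
      exact (commute_liftBlk hc hg).smul_left _
    · rw [haC g hg, MonoidAlgebra.single_zero]
      exact Commute.zero_left _
  set A := a * liftBlk hc with hA
  have hAid : A * A = A := by
    rw [hA, mul_assoc, ← mul_assoc (liftBlk hc) a, ← hcl.eq, mul_assoc, liftBlk_idem hc,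
      ← mul_assoc, ha]
  have hAred : redA A = br Z[u] j := by rw [hA, map_mul, hared, redA_liftBlk hc, hcE, hbe]
  have hval : val χ u 1 j = sval χ (1 * u) A := val_eq hM χ h hAid
    ((haT u hu').mul_right (commute_liftBlk hc (mem_cz.2 rfl)))
    ((haT 1 h1').mul_right (commute_liftBlk hc (Subgroup.one_mem _))) hj.2.2.1 hjT
    (by rw [hAred, br_br_of_le le_rfl])
  -- the value is congruent to the value at one
  obtain ⟨b, hb, hbred, hbT⟩ := exists_lift (M := M) P hj.2.2.1 (hj.1.mono le_sup_left)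
  haveI : Fintype P := Fintype.ofFinite P
  have hΦ := isCharacter_sval χ hb hbT
  have hcong := char_cong_pPart hM hΦ (x := (⟨u, hu⟩ : P)) (y := 1) (Commute.one_right _) (n := n)
    (Subtype.ext (by simpa using hn)) (m := 1) hM.1.not_dvd_one (one_pow 1)
  simp only [mul_one, OneMemClass.coe_one] at hcong
  have hval' : val χ u 1 j = sval χ (1 * u) b :=
    val_eq hM χ h hb (hbT u hu) (hbT 1 (P.one_mem)) hj.2.2.1 hjT (by rw [hbred])
  refine hrho ?_
  have hsvalmem : ∀ (z : G) (x : LA M G), MemLocalRing M (sval χ z x) := fun z x =>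
    memLocalRing_sum fun g _ => memLocalRing_mul (x.coeff g).2 (irr_mem χ _)
  have hone : rho χ j = red M (sval χ 1 b) := by
    rw [red_sval, hbred, ← MonoidAlgebra.one_def, mul_one]
  rw [hone, ← (red_eq_iff (hsvalmem u b) (hsvalmem 1 b)).2 hcong,
    show sval χ u b = sval χ (1 * u) A by rw [← hval, hval', one_mul]]
  rw [red_eq_zero_iff (hsvalmem _ _), sval]
  -- the value through the block part
  have hexp : ∑ g, (A.coeff g : ℂ) * (χ : G → ℂ) (g * (1 * u)) =
      ∑ x : G, if hx : x ∈ C[Z[u]] then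
        (a.coeff x : ℂ) * blockPart c (secFun C[Z[u]] u χ) ⟨x, hx⟩ else 0 := by
    have e1 : ∀ g, (A.coeff g : ℂ) = ∑ x, (a.coeff x : ℂ) * subgroupBlockCoeff C[Z[u]] c (x⁻¹ * g) := by
      intro g
      rw [hA, coeff_mul']
      push_cast
      rfl
    simp only [e1, sum_mul]
    rw [sum_comm]
    refine sum_congr rfl fun x _ => ?_
    split_ifs with hx
    · rw [blockPart_eq_conv c (isClassFunction_secFun (centralizer_zpowers_eq u) χ), mul_sum]
      rw [← Equiv.sum_comp (Equiv.mulLeft x)]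
      simp only [Equiv.coe_mulLeft, inv_mul_cancel_left, mul_assoc]
      rw [← mul_sum, sum_subgroupBlockCoeff_mul C[Z[u]] c fun g => (χ : G → ℂ) (x * (g * (1 * u))),
        mul_sum]
      refine sum_congr rfl fun w _ => ?_
      congr 2
      show (χ : G → ℂ) (x * ((w : G) * (1 * u))) = (χ : G → ℂ) (u * ((w : G) * x))
      have hwu : (w : G) * u = u * (w : G) := mem_cz.1 w.2
      rw [one_mul, hwu, ← mul_assoc, classFun_mul_comm (isClassFunction_irr χ) (x * u) (w : G),
        ← mul_assoc u (w : G) x, ← hwu, mul_assoc (w : G) u x, ← mem_cz.1 hx]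
    · exact sum_eq_zero fun g _ => by rw [haC x hx]; simp
  rw [hexp]
  refine memLocalIdeal_sum fun x _ => ?_
  split_ifs with hx
  swap
  · exact memLocalIdeal_zero
  refine memLocalIdeal_mul_left (a.coeff x).2 ?_
  obtain ⟨v, t, hvt, hcomm, ⟨m, hm⟩, -, -, ht, -, -, -⟩ :=
    exists_pPart (Fact.out : p.Prime) (⟨x, hx⟩ : C[Z[u]])
  have hb0 : blockPart c (secFun C[Z[u]] u χ) t = 0 := by
    have := hsub t
    rwa [subPart_eq_regPart hM hc, regPart_of_not_dvd ht] at this
  have := blockPart_cong_pPart hM (centralizer_zpowers_eq u) hk c χ hcomm hm ht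
  rwa [hvt, hb0, sub_zero] at this

/-- **Characters of height zero have nonzero contributions at every subsection.** -/
theorem contribR_ne_zero (hM : IsPModular p M) {B : Set (IrrCharacter G)} (hB : IsPBlock M B)
    {χ : IrrCharacter G} (hχ : χ ∈ B) (h0 : blockHeight p B (χ : G → ℂ) = 0) {P : Subgroup G}
    {e : MonoidAlgebra 𝕜 G} (hmax : IsMaxPair p (idem M B) (P, e)) {u : G} (hu : u ∈ P) :
    contribR p χ χ u (subBlk p P e u) ≠ 0 := by
  have hb := isBlk_idem hM hB
  have hdef := hmax.isDef hb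
  obtain ⟨y, j, hyreg, hyP, hj, hbj, hbr, hrho⟩ := exists_local_idem hM hB hχ h0 hdef
  obtain ⟨f, hf, hf0⟩ := exists_prim_mul_ne_zero (alg_comm (k := Residue M) (le_refl C[P])) hbr
  have hfB : IsBlk 𝕜 C[P] f := hf
  have hjf : br P j * f ≠ 0 := by rwa [alg_commute le_rfl (suppIn_br j) hfB.fixBy]
  have hbf : br P (idem M B) * f = f := by
    have hbP : FixBy P (idem M B) := hb.fixBy.mono le_top
    have hmem : br P (idem M B) ∈ alg 𝕜 C[P] C[P] :=
      ⟨suppIn_br _, fixBy_br (hb.fixBy.mono le_top) (centralizer_le_normalizer _)⟩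
    have hne : f * br P (idem M B) ≠ 0 := fun h => hjf (by
      rw [← hbj, alg_commute le_rfl (a := j) (b := idem M B) (suppIn_top _) hb.fixBy |>.symm, br_mul hdef.1 (hj.1.mono le_sup_left) hbP, mul_assoc,
        alg_commute le_rfl (suppIn_br _) hfB.fixBy, h, mul_zero])
    have := hf.mul_eq_self hmem (br_idem hdef.1 (idem_idem hB) hbP) hne
    rwa [← alg_commute le_rfl (suppIn_br _) hfB.fixBy] at this
  have hpair : IsPairOf p (idem M B) (P, f) := ⟨⟨hdef.1, hfB⟩, hbf⟩
  obtain ⟨z, hz⟩ := IsMaxPair.conj hb ((isMaxPair_iff_card hb hdef).2 ⟨hpair, rfl⟩) hmax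
  have hzP : P.map (MulAut.conj z).toMonoidHom = P := congrArg Prod.fst hz
  obtain ⟨u', hu', rfl⟩ : ∃ u' ∈ P, z * u' * z⁻¹ = u := by
    rw [← hzP] at hu
    obtain ⟨u', h1, h2⟩ := hu
    exact ⟨u', h1, h2⟩
  have hle := (subBlk_ple hpair.1 hu').cj z
  rw [hz, cjPair_zpowers] at hle
  rw [← ple_unique hmax.1.1 hle (subBlk_ple hmax.1.1 hu),
    contribR_conj hM χ χ (mem_pSet_of_mem hpair.1 hu') (PLE.isPair (subBlk_ple hpair.1 hu') hpair.1).2 z]
  exact contribR_ne_zero_aux hM hdef.1 hyreg hyP hj hpair.1 hjf hrho hu'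

end CfsgLib.BlockStar
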