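import Cfsg.Agent.BlocksB.Star.Focal
import Cfsg.Agent.BrauerPairs.FusionBridge
import Cfsg.Agent.Fusion.FocalProper
import Cfsg.Agent.Blocks.BrauerFeit
import Mathlib.NumberTheory.LegendreSymbol.Basic

/-!
# Height zero characters when the defect group has only `p`-automorphisms

The orbits of the linear characters of the defect group killing the focal subgroup have constant
restrictions to the regular elements, and the squares of a row of the reduced matrix sum to a
multiple of the order of the defect group.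
-/

set_option autoImplicit false
set_option linter.unusedSectionVars false

namespace CfsgLib.BlockStar

open Cfsg Finset CfsgLib.Block CfsgLib.Block.Chr CfsgLib.BrauerPairs CfsgLib.Char CfsgLib.BlockB

universe u

section Orbits

variable {Γ X : Type*} [Group Γ] [Fintype Γ] [MulAction Γ X] [Fintype X] [DecidableEq X]

/-- The sum over two free orbits of an invariant function. -/
theorem free_orbit_sum (hfree : ∀ x : X, MulAction.stabilizer Γ x = ⊥) (F : X → ℤ)
    (hF : ∀ (g : Γ) (x : X), F (g • x) = F x) :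
    (Nat.card X = Nat.card Γ → ∀ x : X, ∑ y, F y = Nat.card Γ * F x) ∧
      (Nat.card X = 2 * Nat.card Γ → ∃ x x' : X, ∑ y, F y = Nat.card Γ * (F x + F x')) := by
  classical
  have hcard : ∀ x : X, ((Finset.univ : Finset Γ).image (· • x)).card = Nat.card Γ := by
    intro x
    rw [Nat.card_eq_fintype_card, Finset.card_image_of_injective, Finset.card_univ]
    intro g h hgh
    have : h⁻¹ * g ∈ MulAction.stabilizer Γ x := by
      rw [MulAction.mem_stabilizer_iff, mul_smul]
      exact inv_smul_eq_iff.2 hgh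
    rw [hfree x, Subgroup.mem_bot] at this
    exact (inv_mul_eq_one.1 this).symm
  have hsum : ∀ x : X,
      ∑ y ∈ (Finset.univ : Finset Γ).image (· • x), F y = Nat.card Γ * F x := by
    intro x
    rw [Finset.sum_congr rfl (fun y hy => ?_), Finset.sum_const, hcard x, nsmul_eq_mul]
    obtain ⟨g, -, rfl⟩ := Finset.mem_image.1 hy
    exact hF g x
  constructor
  · intro h x
    have : (Finset.univ : Finset Γ).image (· • x) = Finset.univ := by
      refine Finset.eq_univ_of_card _ ?_
      rw [hcard x, ← h, Nat.card_eq_fintype_card]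
    rw [← hsum x, this]
  · intro h
    obtain ⟨x⟩ : Nonempty X := (Nat.card_pos_iff.1 (by
      rw [h]; have := Nat.card_pos (α := Γ); omega)).1
    obtain ⟨x', hx'⟩ : ∃ x', x' ∉ (Finset.univ : Finset Γ).image (· • x) := by
      by_contra hall
      push Not at hall
      have h1 := hcard x
      rw [Finset.eq_univ_iff_forall.2 hall, Finset.card_univ, ← Nat.card_eq_fintype_card, h] at h1
      have : 0 < Nat.card Γ := Nat.card_pos
      omega
    have hd : Disjoint ((Finset.univ : Finset Γ).image (· • x))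
        ((Finset.univ : Finset Γ).image (· • x')) := by
      rw [Finset.disjoint_left]
      rintro y hy hy'
      obtain ⟨g, -, rfl⟩ := Finset.mem_image.1 hy
      obtain ⟨g', -, hg'⟩ := Finset.mem_image.1 hy'
      refine hx' (Finset.mem_image.2 ⟨g'⁻¹ * g, Finset.mem_univ _, ?_⟩)
      rw [mul_smul, inv_smul_eq_iff]
      exact hg'.symm
    refine ⟨x, x', ?_⟩
    rw [mul_add, ← hsum x, ← hsum x', ← Finset.sum_union hd]
    refine Finset.sum_congr (Eq.symm (Finset.eq_univ_of_card _ ?_)) fun _ _ => rfl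
    rw [Finset.card_union_of_disjoint hd, hcard, hcard, ← Nat.card_eq_fintype_card, h, two_mul]

end Orbits

variable {G : Type u} [Group G] [Fintype G] {M : Ideal AlgInt} [M.IsPrime] {p : ℕ} [Fact p.Prime]
  {B : Set (IrrCharacter G)}

open scoped Classical in
/-- The squares of a row over the members of height zero. -/
theorem dvd_sum_height_zero (hM : IsPModular p M) (hB : IsPBlock M B) [Fintype (IrrCharacter G)]
    {ξ : IrrCharacter G} (hξ : ξ ∈ B) {k : ℕ} (hk : k ≤ blockDefect p B) (hk2 : k ≤ 2) :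
    (p : ℤ) ^ k ∣
      ∑ x : {χ : IrrCharacter G // χ ∈ B ∧ blockHeight p B (χ : G → ℂ) = 0},
        redInt p B ξ x.1 ^ 2 := by
  have htot : (p : ℤ) ^ k ∣ ∑ ψ ∈ univ.filter (· ∈ B), redInt p B ξ ψ ^ 2 := by
    rw [redInt_sum_sq hM hB hξ]
    exact (pow_dvd_pow (p : ℤ) hk).mul_right _
  rw [← Finset.sum_filter_add_sum_filter_not (univ.filter (· ∈ B))
    (fun ψ : IrrCharacter G => blockHeight p B (ψ : G → ℂ) = 0)] at htot
  have hrest : (p : ℤ) ^ k ∣
      ∑ ψ ∈ (univ.filter (· ∈ B)).filter (fun ψ : IrrCharacter G => ¬ blockHeight p B (ψ : G → ℂ) = 0),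
        redInt p B ξ ψ ^ 2 := by
    refine Finset.dvd_sum fun ψ hψ => ?_
    simp only [Finset.mem_filter, Finset.mem_univ, true_and] at hψ
    refine dvd_trans ?_ (pow_dvd_pow_of_dvd (pow_dvd_redInt hM hB hξ hψ.1).1 2)
    rw [← pow_mul]
    exact pow_dvd_pow _ (by omega)
  have hmain := (dvd_add_left hrest).1 htot
  rwa [Finset.sum_subtype _ (p := fun ψ : IrrCharacter G => ψ ∈ B ∧ blockHeight p B (ψ : G → ℂ) = 0)
    (fun ψ : IrrCharacter G => by simp only [Finset.mem_filter, Finset.mem_univ, true_and])] at hmain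

theorem not_dvd_redInt_height_zero (hM : IsPModular p M) (hB : IsPBlock M B)
    {ξ ψ : IrrCharacter G} (hξ : ξ ∈ B) (hξ0 : blockHeight p B (ξ : G → ℂ) = 0) (hψ : ψ ∈ B)
    (hψ0 : blockHeight p B (ψ : G → ℂ) = 0) : ¬ (p : ℤ) ∣ redInt p B ξ ψ := fun h => by
  have h2 := (pow_dvd_redInt hM hB hξ hψ).2
  rw [hψ0, zero_add, pow_one] at h2
  exact h2.1 h hξ0

theorem zmod_two_sq : ∀ a : ZMod 2, a ≠ 0 → a ^ 2 = 1 := by decide

theorem zmod_three_sq : ∀ a : ZMod 3, a ≠ 0 → a ^ 2 = 1 := by decide

/-- For `p ≤ 3` the number of characters of height zero of a block of positive defect is divisible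
by `p`. -/
theorem dvd_card_height_zero_of_small (hM : IsPModular p M) (hB : IsPBlock M B)
    (hd : 1 ≤ blockDefect p B) (hp : p ≤ 3) :
    p ∣ Nat.card {χ : IrrCharacter G // χ ∈ B ∧ blockHeight p B (χ : G → ℂ) = 0} := by
  classical
  letI := irrFintype (G := G)
  obtain ⟨ξ, hξ, hξ0⟩ := exists_height_zero hM hB
  have h := dvd_sum_height_zero hM hB hξ (k := 1) hd (by norm_num)
  rw [pow_one, ← ZMod.intCast_zmod_eq_zero_iff_dvd, Int.cast_sum,
    Finset.sum_congr rfl (fun x _ => ?_)] at h
  · rw [Finset.sum_const, Finset.card_univ, nsmul_eq_mul, mul_one,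
      ← Nat.card_eq_fintype_card, ZMod.natCast_eq_zero_iff] at h
    exact h
  · have hne : ((redInt p B ξ x.1 : ℤ) : ZMod p) ≠ 0 := by
      rw [Ne, ZMod.intCast_zmod_eq_zero_iff_dvd]
      exact not_dvd_redInt_height_zero hM hB hξ hξ0 x.2.1 x.2.2
    rw [Int.cast_pow]
    have hp2 : 2 ≤ p := hM.1.two_le
    interval_cases p
    · exact zmod_two_sq _ hne
    · exact zmod_three_sq _ hne

/-- The reduced matrix is constant along twists. -/
theorem redInt_congr_regular {ξ χ φ : IrrCharacter G}
    (h : ∀ s : G, ¬ p ∣ orderOf s → (φ : G → ℂ) s = (χ : G → ℂ) s) :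
    redInt p B ξ φ = redInt p B ξ χ := by
  have hreg : regPart p (φ : G → ℂ) = regPart p (χ : G → ℂ) := funext fun s => by
    unfold regPart
    split_ifs with hs
    · rfl
    · exact h s hs
  rw [redInt_comm, redInt_comm ξ χ, redInt, redInt]
  congr 1
  have := regInt_spec (p := p) φ ξ
  rw [hreg, ← regInt_spec (p := p) χ ξ] at this
  exact_mod_cast this

/-- The lower bounds for the number of characters of height zero. -/
theorem height_zero_count (hM : IsPModular p M) (hB : IsPBlock M B) {D : Subgroup G}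
    (hD : IsDefectGroup p M B D) (hD1 : D ≠ ⊥) (hAut : IsPGroup p (MulAut D)) :
    p ∣ Nat.card {χ : IrrCharacter G // χ ∈ B ∧ blockHeight p B (χ : G → ℂ) = 0} ∧
      (3 < p → 2 * p ≤ Nat.card {χ : IrrCharacter G // χ ∈ B ∧ blockHeight p B (χ : G → ℂ) = 0}) ∧
      (3 < p → p % 4 = 3 →
        3 * p ≤ Nat.card {χ : IrrCharacter G // χ ∈ B ∧ blockHeight p B (χ : G → ℂ) = 0}) := by
  classical
  have hp := hM.1
  have hcD := card_defectGroup hM hB hD
  have hd1 : 1 ≤ blockDefect p B := by
    rcases Nat.eq_zero_or_pos (blockDefect p B) with h | h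
    · rw [h, pow_zero] at hcD
      exact absurd (Subgroup.eq_bot_of_card_eq _ hcD) hD1
    · exact h
  rcases le_or_gt p 3 with hp3 | hp3
  · exact ⟨dvd_card_height_zero_of_small hM hB hd1 hp3, fun h => absurd h (by omega),
      fun h => absurd h (by omega)⟩
  have hp5 : 5 ≤ p := by
    rcases Nat.lt_or_ge p 5 with h | h
    · interval_cases p
      norm_num at hp
    · exact h
  have hd2 : 2 ≤ blockDefect p B := by
    by_contra hlt
    have hd : blockDefect p B = 1 := by omega
    rw [hd, pow_one] at hcD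
    haveI : IsCyclic D := isCyclic_of_prime_card hcD
    have hc : Nat.card (MulAut D) = p - 1 := by
      refine (Nat.card_congr (IsCyclic.mulAutMulEquiv D).toEquiv).trans ?_
      rw [hcD, Nat.card_units]
      simp
    haveI : Finite (MulAut D) := Nat.finite_of_card_ne_zero (by omega)
    obtain ⟨j, hj⟩ := IsPGroup.iff_card.1 hAut
    rw [hc] at hj
    rcases j.eq_zero_or_pos with rfl | hjp
    · simp at hj; omega
    · have h1 : p ∣ p - 1 := hj ▸ dvd_pow_self p (by omega)
      have := Nat.le_of_dvd (by omega) h1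
      omega
  haveI : CharP (Residue M) p := charP_residue hM
  have hb := isBlk_idem (G := G) hM hB
  obtain ⟨e, hmax⟩ := exists_isMaxPair hb (isDef_of_isDefectGroup hM hB hD)
  have hP : IsPair p (D, e) := hmax.1.1
  have hlt := CfsgLib.Fusion.focalSubgroup_lt_of_aut hp5 (Nat.card D) D (blockSystem hP)
    inferInstance hP.1 rfl hD1 (blockSystem_saturated hP hb hmax fun R f h => isSplit_of_isPair hM R f h)
    (hAut.to_subgroup _)
  obtain ⟨hN, hcomm⟩ := focal_data hP
  set N := (blockSystem hP).focalSubgroup.subgroupOf D with hNdef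
  haveI := Subgroup.Normal.of_commutator_le (G := D) hcomm
  set X := {χ : IrrCharacter G // χ ∈ B ∧ blockHeight p B (χ : G → ℂ) = 0}
  have hdvd := index_dvd_card_height_zero hM hB hmax hN hcomm
  obtain ⟨j, hj⟩ : ∃ j, N.index = p ^ j := hP.1.index N
  have hj0 : j ≠ 0 := by
    rintro rfl
    rw [pow_zero, Subgroup.index_eq_one, hNdef, Subgroup.subgroupOf_eq_top] at hj
    exact hlt.not_ge hj
  have hpdvd : p ∣ Nat.card X := ((dvd_pow_self p hj0).trans (hj ▸ dvd_rfl)).trans hdvd
  letI := irrFintype (G := G)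
  haveI : Nonempty X := by
    obtain ⟨ξ, hξ, hξ0⟩ := exists_height_zero hM hB
    exact ⟨⟨ξ, hξ, hξ0⟩⟩
  have hpos : 0 < Nat.card X := Nat.card_pos
  have small : Nat.card X < 3 * p → ∃ a b : ℤ, ¬ (p : ℤ) ∣ a ∧
      (Nat.card X = p → False) ∧ (Nat.card X = 2 * p → (p : ℤ) ∣ a ^ 2 + b ^ 2) := by
    intro hlt3
    have hjle : j = 1 := by
      by_contra hj1
      have h2 : p ^ 2 ≤ Nat.card X :=
        (Nat.pow_le_pow_right hp.pos (by omega : 2 ≤ j)).trans (hj ▸ Nat.le_of_dvd hpos hdvd)
      nlinarith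
    haveI : Finite (D →* ℂˣ) := Finite.of_equiv _ (linearCharEquiv (G := D)).symm
    haveI : Fintype (homKer N) := Fintype.ofFinite _
    letI : MulAction (homKer N) X := twistAction hM hB hmax hN 0
    have hcΓ : Nat.card (homKer N) = p := by rw [card_homKer N hcomm, hj, hjle, pow_one]
    have hfree : ∀ x : X, MulAction.stabilizer (homKer N) x = ⊥ := by
      intro χ
      rw [eq_bot_iff]
      intro l hl
      rw [Subgroup.mem_bot]
      refine Subtype.ext (MonoidHom.ext fun u => ?_)
      rw [MulAction.mem_stabilizer_iff] at hl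
      have h : (χ.1 : G → ℂ) = twist p D e l.1 χ.1 := by
        conv_lhs => rw [← hl]
        exact (twist_irr hM hB hmax hN l χ.2.1).choose_spec.1
      exact hom_eq_one_of_fixed hM hP hN l h u (contribR_ne_zero hM hB χ.2.1 χ.2.2 hmax u.2)
    obtain ⟨ξ, hξ, hξ0⟩ := exists_height_zero hM hB
    set F : X → ℤ := fun x => redInt p B ξ x.1 ^ 2 with hF
    have hinv : ∀ (l : homKer N) (x : X), F (l • x) = F x := by
      intro l x
      refine congrArg (· ^ 2) (redInt_congr_regular fun s hs => ?_)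
      rw [show ((l • x).1 : G → ℂ) = twist p D e l.1 x.1 from
        (twist_irr hM hB hmax hN l x.2.1).choose_spec.1]
      exact twist_regular hM hB hmax hN l x.2.1 hs
    have hsum : (p : ℤ) ^ 2 ∣ ∑ x, F x := dvd_sum_height_zero hM hB hξ (k := 2) hd2 le_rfl
    have hp0 : (p : ℤ) ≠ 0 := Int.natCast_ne_zero.2 hp.ne_zero
    have hnd : ∀ x : X, ¬ (p : ℤ) ∣ redInt p B ξ x.1 := fun x =>
      not_dvd_redInt_height_zero hM hB hξ hξ0 x.2.1 x.2.2
    obtain ⟨h1, h2⟩ := free_orbit_sum hfree F hinv
    rw [hcΓ] at h1 h2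
    by_cases hcase : Nat.card X = 2 * p
    · obtain ⟨x, x', hxx⟩ := h2 hcase
      refine ⟨redInt p B ξ x.1, redInt p B ξ x'.1, hnd x, fun h => ?_, fun _ => ?_⟩
      · omega
      · rw [hxx, pow_two] at hsum
        exact Int.dvd_of_mul_dvd_mul_left hp0 hsum
    · obtain ⟨x⟩ := ‹Nonempty X›
      refine ⟨redInt p B ξ x.1, 0, hnd x, fun h => ?_, fun h => absurd h hcase⟩
      rw [h1 h x, pow_two] at hsum
      exact hnd x ((Nat.prime_iff_prime_int.1 hp).dvd_of_dvd_pow
        (Int.dvd_of_mul_dvd_mul_left hp0 hsum))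
  refine ⟨hpdvd, fun _ => ?_, fun _ hp4 => ?_⟩
  · by_contra hlt2
    obtain ⟨c, hc⟩ := hpdvd
    obtain ⟨a, b, -, h1, -⟩ := small (by omega)
    have hc1 : c = 1 := by nlinarith
    exact h1 (by rw [hc, hc1, mul_one])
  · by_contra hlt3
    obtain ⟨c, hc⟩ := hpdvd
    obtain ⟨a, b, ha, h1, h2⟩ := small (by omega)
    have hc3 : c < 3 := by nlinarith
    have hc0 : c ≠ 0 := by rintro rfl; omega
    interval_cases c
    · exact absurd rfl hc0
    · exact h1 (by omega)
    · have hab := h2 (by omega)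
      rw [← ZMod.intCast_zmod_eq_zero_iff_dvd] at hab
      push_cast at hab
      have ha' : ((a : ℤ) : ZMod p) ≠ 0 := fun h =>
        ha ((ZMod.intCast_zmod_eq_zero_iff_dvd a p).1 h)
      refine (ZMod.exists_sq_eq_neg_one_iff (p := p)).1 ⟨(b : ZMod p) / (a : ZMod p), ?_⟩ hp4
      field_simp
      linear_combination -hab

end CfsgLib.BlockStar
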