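import Cfsg.Agent.BlocksB.Star.LocalIdem
import Cfsg.Agent.BrauerPairs.Pairs
import Cfsg.Agent.BrauerPairs.BlockSaturation
import Mathlib.GroupTheory.Sylow

/-!
# Primitive idempotents among the elements fixed by a `p`-group and a commuting `p'`-group

A primitive idempotent whose truncation at `Q` survives determines one block at every subgroup
of `Q`; otherwise it is a trace from a subgroup of index `p`.
-/

set_option autoImplicit false
set_option linter.style.haveILetI false
set_option linter.unusedSectionVars false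

namespace CfsgLib.BlockStar

open CfsgLib.BrauerPairs Finset MonoidAlgebra

variable {p : ℕ} [hp : Fact p.Prime] {k : Type*} [Field k] [hk : CharP k p]
  {G : Type*} [Group G] [Fintype G]

local notation "C[" Q "]" => Subgroup.centralizer (SetLike.coe Q)

theorem fixBy_sup {T U : Subgroup G} {a : MonoidAlgebra k G} (hT : FixBy T a) (hU : FixBy U a) :
    FixBy (T ⊔ U) a := by
  intro t ht
  rw [Subgroup.sup_eq_closure] at ht
  induction ht using Subgroup.closure_induction with
  | mem x hx => exact hx.elim (hT x) (hU x)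
  | one => exact cj_one a
  | mul x y _ _ hx hy => rw [cj_mul, hy, hx]
  | inv x _ hx => conv_lhs => rw [← hx, cj_inv_cj]

theorem fixBy_mul {T : Subgroup G} {a b : MonoidAlgebra k G} (ha : FixBy T a) (hb : FixBy T b) :
    FixBy T (a * b) := fun t ht => by rw [map_mul, ha t ht, hb t ht]

theorem fixBy_one {T : Subgroup G} : FixBy T (1 : MonoidAlgebra k G) := fun t _ => map_one _

theorem fixBy_sub {T : Subgroup G} {a b : MonoidAlgebra k G} (ha : FixBy T a) (hb : FixBy T b) :
    FixBy T (a - b) := fun t ht => by rw [map_sub, ha t ht, hb t ht]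

/-- Averaging over a subgroup. -/
noncomputable def avgBy (S : Subgroup G) : MonoidAlgebra k G →ₗ[k] MonoidAlgebra k G :=
  haveI : Fintype S := Fintype.ofFinite _
  (Nat.card S : k)⁻¹ • ∑ s : S, (cj k (s : G)).toLinearMap

theorem avgBy_apply (S : Subgroup G) [Fintype S] (a : MonoidAlgebra k G) :
    avgBy S a = (Nat.card S : k)⁻¹ • ∑ s : S, cj k (s : G) a := by
  rw [avgBy, LinearMap.smul_apply, LinearMap.sum_apply]
  exact congrArg _ (Finset.sum_congr (by ext; simp) fun _ _ => rfl)

theorem fixBy_avgBy (S : Subgroup G) (a : MonoidAlgebra k G) : FixBy S (avgBy S a) := by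
  classical
  haveI : Fintype S := Fintype.ofFinite _
  intro t ht
  rw [avgBy_apply, map_smul, map_sum]
  congr 1
  exact Fintype.sum_equiv (Equiv.mulLeft ⟨t, ht⟩) _ _ fun s => by simp [cj_mul]

theorem avgBy_eq_self {S : Subgroup G} (hS : ¬ p ∣ Nat.card S) {a : MonoidAlgebra k G}
    (ha : FixBy S a) : avgBy S a = a := by
  haveI : Fintype S := Fintype.ofFinite _
  rw [avgBy_apply, Finset.sum_congr rfl fun (s : S) _ => ha (s : G) s.2, Finset.sum_const, card_univ,
    ← Nat.cast_smul_eq_nsmul k, smul_smul, ← Nat.card_eq_fintype_card, inv_mul_cancel₀, one_smul]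
  rwa [Ne, CharP.cast_eq_zero_iff k p]

theorem fixBy_avgBy_of_commute {S X : Subgroup G} (hc : ∀ s ∈ S, ∀ x ∈ X, s * x = x * s)
    {a : MonoidAlgebra k G} (ha : FixBy X a) : FixBy X (avgBy S a) := by
  haveI : Fintype S := Fintype.ofFinite _
  intro x hx
  rw [avgBy_apply, map_smul, map_sum]
  congr 1
  exact Finset.sum_congr rfl fun s _ => by rw [← cj_mul, ← hc s s.2 x hx, cj_mul, ha x hx]

theorem tr_avgBy {S X T : Subgroup G} (hc : ∀ s ∈ S, ∀ x ∈ T, s * x = x * s)
    (a : MonoidAlgebra k G) : tr X T (avgBy S a) = avgBy S (tr X T a) := by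
  haveI : Fintype S := Fintype.ofFinite _
  haveI : Fintype (T ⧸ X.subgroupOf T) := Fintype.ofFinite _
  simp only [avgBy_apply, map_smul, map_sum]
  congr 1
  refine Finset.sum_congr rfl fun s _ => ?_
  rw [tr_apply, tr_apply, map_sum]
  exact Finset.sum_congr rfl fun q _ => by rw [← cj_mul, ← hc s s.2 _ (q.out).2, cj_mul]

theorem br_avgBy {S X : Subgroup G} (hSX : S ≤ Subgroup.normalizer (X : Set G))
    (a : MonoidAlgebra k G) : br X (avgBy S a) = avgBy S (br X a) := by
  haveI : Fintype S := Fintype.ofFinite _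
  simp only [avgBy_apply, map_smul, map_sum]
  congr 1
  exact Finset.sum_congr rfl fun s _ => (cj_br_of_mem (hSX s.2) a).symm

/-- Fixed elements on `C(R)` killed by all larger truncations are traces from `R`. -/
theorem exists_tr_of_br_eq_zero {R N : Subgroup G} (hRN : R ≤ N) {a : MonoidAlgebra k G}
    (hs : SuppIn C[R] a) (hf : FixBy N a) (h : ∀ X, R < X → X ≤ N → br X a = 0) :
    ∃ a', SuppIn C[R] a' ∧ tr R N a' = a := by
  classical
  obtain ⟨s, hsum⟩ := eq_sum_csum hf
  refine ⟨∑ x ∈ s, if a.coeff x = 0 then 0 else a.coeff x • single x (1 : k), ?_, ?_⟩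
  · refine suppIn_sum _ _ fun x _ g hg => ?_
    split_ifs with hx
    · simp
    · have : x ≠ g := fun e => hx (e ▸ hs g hg)
      simp [this.symm]
  · conv_rhs => rw [hsum]
    rw [map_sum]
    refine Finset.sum_congr rfl fun x _ => ?_
    split_ifs with hx
    · rw [map_zero, hx, zero_smul]
    · have hxR : x ∈ C[R] := Classical.byContradiction fun hh => hx (hs x hh)
      have hle : R ≤ N ⊓ Subgroup.centralizer ({x} : Set G) := le_inf hRN fun r hr =>
        Subgroup.mem_centralizer_singleton_iff.2 (Subgroup.mem_centralizer_iff.1 hxR r hr)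
      have heq : R = N ⊓ Subgroup.centralizer ({x} : Set G) := by
        by_contra hne
        apply hx
        have hX := congrArg (fun b => b.coeff x) (h _ (lt_of_le_of_ne hle hne) inf_le_left)
        have hxX : x ∈ C[N ⊓ Subgroup.centralizer ({x} : Set G)] := by
          rw [Subgroup.mem_centralizer_iff]
          intro y hy
          exact Subgroup.mem_centralizer_singleton_iff.1 hy.2
        rw [coeff_br_of_mem _ hxX] at hX
        simpa using hX
      rw [map_smul, tr_single hle, ← heq, Subgroup.relIndex_self, Nat.cast_one, one_smul]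

/-- A proper subgroup of a finite `p`-group lies in a normal subgroup of index `p`. -/
theorem exists_index_prime_over {Q R : Subgroup G} (hQ : IsPGroup p Q) (hR : R < Q) :
    ∃ X : Subgroup G, R ≤ X ∧ X ≤ Q ∧ Q ≤ Subgroup.normalizer (X : Set G) ∧ X.relIndex Q = p := by
  have hp' : p.Prime := hp.out
  haveI : Finite Q := inferInstance
  obtain ⟨n, hn⟩ := IsPGroup.iff_card.1 hQ
  obtain ⟨m, hm⟩ := IsPGroup.iff_card.1 ((hQ.to_le hR.le).of_equiv
    (Subgroup.subgroupOfEquivOfLe hR.le).symm)
  have hmn : m < n := by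
    have hlt : Nat.card R < Nat.card Q := by
      by_contra hc
      exact hR.ne (Subgroup.eq_of_le_of_card_ge hR.le (not_lt.1 hc))
    rw [← Nat.card_congr (Subgroup.subgroupOfEquivOfLe hR.le).toEquiv, hm, hn] at hlt
    exact (Nat.pow_lt_pow_iff_right hp'.one_lt).1 hlt
  obtain ⟨n, rfl⟩ := Nat.exists_eq_succ_of_ne_zero (Nat.ne_of_gt (Nat.lt_of_le_of_lt (Nat.zero_le m) hmn))
  obtain ⟨K, hK, hRK⟩ := Sylow.exists_subgroup_card_pow_prime_le p
    (hn ▸ pow_dvd_pow p n.le_succ) (R.subgroupOf Q) hm (Nat.lt_succ_iff.1 hmn)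
  have hKn : K.Normal := by
    haveI := hQ.isNilpotent
    have hlt : K < ⊤ := by
      refine lt_of_le_of_ne le_top fun e => ?_
      rw [e, Subgroup.card_top, hn] at hK
      exact absurd (Nat.pow_right_injective hp'.two_le hK) (Nat.succ_ne_self n)
    have h := normalizerCondition_of_isNilpotent K hlt
    rw [← Subgroup.normalizer_eq_top_iff]
    refine Subgroup.eq_top_of_card_eq _ ?_
    obtain ⟨r, hr⟩ := IsPGroup.iff_card.1 (hQ.to_subgroup (Subgroup.normalizer (K : Set Q)))
    have h1 : Nat.card K < Nat.card (Subgroup.normalizer (K : Set Q)) := by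
      by_contra hc
      exact h.ne (Subgroup.eq_of_le_of_card_ge h.le (not_lt.1 hc))
    have h2 := Subgroup.card_subgroup_dvd_card (Subgroup.normalizer (K : Set Q))
    rw [hr, hK] at h1
    rw [hr, hn] at h2
    rw [hr, hn]
    have h3 := (Nat.pow_dvd_pow_iff_le_right hp'.one_lt).1 h2
    have h4 := (Nat.pow_lt_pow_iff_right hp'.one_lt).1 h1
    congr 1
    omega
  refine ⟨K.map Q.subtype, fun r hr => ⟨⟨r, hR.le hr⟩, hRK hr, rfl⟩,
    Subgroup.map_subtype_le K, ?_, ?_⟩
  · rw [← Subgroup.normal_subgroupOf_iff_le_normalizer (Subgroup.map_subtype_le K),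
      show (K.map Q.subtype).subgroupOf Q = K from Subgroup.comap_map_eq_self_of_injective Q.subtype_injective K]
    exact hKn
  · rw [Subgroup.relIndex, show (K.map Q.subtype).subgroupOf Q = K from Subgroup.comap_map_eq_self_of_injective Q.subtype_injective K]
    have := K.card_mul_index
    rw [hK, hn, pow_succ] at this
    exact Nat.eq_of_mul_eq_mul_left (pow_pos hp'.pos n) this

/-- A primitive idempotent among the elements fixed by `T`. -/
def IsPrimFix (T : Subgroup G) (i : MonoidAlgebra k G) : Prop :=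
  FixBy T i ∧ i ≠ 0 ∧ i * i = i ∧
    ∀ f, FixBy T f → f * f = f → i * f = f → f * i = f → f = 0 ∨ f = i

/-- The algebra of fixed elements. -/
noncomputable abbrev fixAlg (k : Type*) [Field k] {G : Type*} [Group G] [Fintype G]
    (T : Subgroup G) : Subalgebra k (MonoidAlgebra k G) := alg k ⊤ T

theorem isPrim_of_isPrimFix {T : Subgroup G} {i : MonoidAlgebra k G} (h : IsPrimFix T i) :
    IsPrim (⟨i, suppIn_top i, h.1⟩ : fixAlg k T) := by
  refine ⟨fun e => h.2.1 (congrArg Subtype.val e), Subtype.ext h.2.2.1, fun f hf h1 h2 => ?_⟩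
  rcases h.2.2.2 f f.2.2 (congrArg Subtype.val hf) (congrArg Subtype.val h1)
    (congrArg Subtype.val h2) with e | e
  · exact Or.inl (Subtype.ext e)
  · exact Or.inr (Subtype.ext e)

theorem isPrimFix_of_isPrim {T : Subgroup G} {i : fixAlg k T} (h : IsPrim i) :
    IsPrimFix T (i : MonoidAlgebra k G) := by
  refine ⟨i.2.2, fun e => h.1 (Subtype.ext e), congrArg Subtype.val h.2.1,
    fun f hf hff h1 h2 => ?_⟩
  rcases h.2.2 ⟨f, suppIn_top f, hf⟩ (Subtype.ext hff) (Subtype.ext h1) (Subtype.ext h2) with e | e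
  · exact Or.inl (congrArg Subtype.val e)
  · exact Or.inr (congrArg Subtype.val e)

theorem IsPrimFix.nilpotent_or_inv {T : Subgroup G} {i a : MonoidAlgebra k G}
    (h : IsPrimFix T i) (ha : FixBy T a) (h1 : i * a = a) (h2 : a * i = a) :
    IsNilpotent a ∨ ∃ b, FixBy T b ∧ i * b = b ∧ b * i = b ∧ a * b = i := by
  rcases (isPrim_of_isPrimFix h).nilpotent_or_inv k (a := ⟨a, suppIn_top a, ha⟩)
    (Subtype.ext h1) (Subtype.ext h2) with hn | ⟨b, hb1, hb2, hb3, -⟩
  · exact Or.inl (hn.map (fixAlg k T).val)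
  · exact Or.inr ⟨b, b.2.2, congrArg Subtype.val hb1, congrArg Subtype.val hb2,
      congrArg Subtype.val hb3⟩

theorem fixBy_iai {T : Subgroup G} {i a : MonoidAlgebra k G} (hi : FixBy T i) (ha : FixBy T a) :
    FixBy T (i * a * i) := fixBy_mul (fixBy_mul hi ha) hi

theorem le_centralizer_swap {S Q : Subgroup G} (hS : S ≤ C[Q]) {X : Subgroup G} (hX : X ≤ Q) :
    ∀ s ∈ S, ∀ x ∈ X, s * x = x * s := fun _ hs x hx =>
  (Subgroup.mem_centralizer_iff.1 (hS hs) x (hX hx)).symm

theorem br_idem_of {X : Subgroup G} (hX : IsPGroup p X) {a : MonoidAlgebra k G}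
    (ha : FixBy X a) (h : IsNilpotent a) : IsNilpotent (br X a) := by
  obtain ⟨n, hn⟩ := h
  have hpow : ∀ n, br X (a ^ (n + 1)) = br X a ^ (n + 1) ∧ FixBy X (a ^ (n + 1)) := by
    intro n
    induction n with
    | zero => rw [zero_add, pow_one, pow_one]; exact ⟨rfl, ha⟩
    | succ n ih =>
      rw [pow_succ a, pow_succ (br X a), br_mul hX ih.2 ha, ih.1]
      exact ⟨rfl, fixBy_mul ih.2 ha⟩
  exact ⟨n + 1, by rw [← (hpow n).1, pow_succ, hn, zero_mul, map_zero]⟩

theorem eq_zero_of_idem_nilpotent {A : Type*} [Ring A] {e : A} (he : e * e = e)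
    (h : IsNilpotent e) : e = 0 := by
  obtain ⟨n, hn⟩ := h
  have : ∀ r, e ^ (r + 1) = e := fun r => by
    induction r with
    | zero => rw [zero_add, pow_one]
    | succ r ih => rw [pow_succ, ih, he]
  rw [← this n, pow_succ, hn, zero_mul]

/-- **One block at every subgroup.** -/
theorem br_mul_eq_of_ple {Q S : Subgroup G} (hQ : IsPGroup p Q) (hS : ¬ p ∣ Nat.card S)
    (hSQ : S ≤ C[Q]) {i : MonoidAlgebra k G} (hi : IsPrimFix (Q ⊔ S) i)
    {f : MonoidAlgebra k G} (hf : IsPair p (Q, f)) (hif : br Q i * f ≠ 0)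
    {R : Subgroup G} {e : MonoidAlgebra k G} (hRe : PLE p (R, e) (Q, f)) :
    br R i * e = br R i := by
  classical
  have hiQ : FixBy Q i := hi.1.mono le_sup_left
  have hiS : FixBy S i := hi.1.mono le_sup_right
  have hRQ : R ≤ Q := PLE.le hRe
  induction hn : Nat.card Q - Nat.card R using Nat.strong_induction_on generalizing R e with
  | _ n ih =>
    have hRp : IsPGroup p R := hQ.to_le hRQ
    have he : IsPair p (R, e) := PLE.isPair hRe hf
    set N := Q ⊓ Subgroup.normalizer (R : Set G) with hN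
    have hRN : R ≤ N := le_inf hRQ Subgroup.le_normalizer
    obtain ⟨eN, heN, -⟩ := existsUnique_ple hf (inf_le_left : N ≤ Q)
    -- the pairs between `R` and `N` lie above `(R, e)`
    have hstep : ∀ X, R ≤ X → X ≤ N → ∀ eX, PLE p (X, eX) (Q, f) → NStep p (R, e) (X, eX) := by
      intro X hRX hXN eX hX
      obtain ⟨g, hg, -⟩ := existsUnique_nstep (PLE.isPair hX hf) hRX (hXN.trans inf_le_right)
      obtain ⟨g', -, hu⟩ := existsUnique_ple hf hRQ
      rwa [hu e hRe, ← hu g (Relation.ReflTransGen.head hg hX)]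
    have hfixN : FixBy N e := (hstep N hRN le_rfl eN heN).2.2.2.2.1
    have hSN : S ≤ Subgroup.normalizer (R : Set G) :=
      (hSQ.trans (Subgroup.centralizer_le (SetLike.coe_subset_coe.2 hRQ))).trans
        (centralizer_le_normalizer R)
    have hSe : FixBy S e := he.2.fixBy.mono
      (hSQ.trans (Subgroup.centralizer_le (SetLike.coe_subset_coe.2 hRQ)))
    have hfix : FixBy (N ⊔ S) (br R i * (1 - e)) := fixBy_sup
      (fixBy_mul (fixBy_br (hiQ.mono inf_le_left) inf_le_right) (fixBy_sub fixBy_one hfixN))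
      (fixBy_mul (fixBy_br hiS hSN) (fixBy_sub fixBy_one hSe))
    have hfixC : br R i * e = e * br R i :=
      alg_commute le_rfl (suppIn_br i) he.2.fixBy
    have hfixC' : e * br R i = br R i * e := hfixC.symm
    have hsupp : SuppIn C[R] (br R i * (1 - e)) := by
      rw [mul_sub, mul_one]
      intro g hg
      have h1 : (br R i * e) ∈ alg k C[R] ⊥ := mul_mem ⟨suppIn_br i, fun t ht => by
        rw [Subgroup.mem_bot.1 ht, cj_one]⟩ ⟨he.suppIn, fun t ht => by
        rw [Subgroup.mem_bot.1 ht, cj_one]⟩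
      simp [suppIn_br i g hg, h1.1 g hg]
    set ε := br R i * (1 - e) with hε
    have hεε : ε * ε = ε := by
      have hbb : br R i * br R i = br R i := by
        rw [← br_mul hRp (hiQ.mono hRQ) (hiQ.mono hRQ), hi.2.2.1]
      have hcm : (1 - e) * br R i = br R i * (1 - e) := by
        rw [sub_mul, mul_sub, one_mul, mul_one, hfixC']
      have h1e : (1 - e) * (1 - e) = (1 - e : MonoidAlgebra k G) := by
        rw [sub_mul, one_mul, mul_sub, mul_one, he.2.idem, sub_self, sub_zero]
      rw [hε, mul_assoc, ← mul_assoc (1 - e), hcm, ← mul_assoc, ← mul_assoc, hbb, mul_assoc, h1e]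
    have hvan : ∀ X, R < X → X ≤ N → br X ε = 0 := by
      intro X hRX hXN
      have hXp : IsPGroup p X := hQ.to_le (hXN.trans inf_le_left)
      obtain ⟨eX, heX, -⟩ := existsUnique_ple hf (hXN.trans inf_le_left : X ≤ Q)
      have hlt : Nat.card Q - Nat.card X < n := by
        subst hn
        have h1 : Nat.card R < Nat.card X := by
          by_contra hc
          exact hRX.ne (Subgroup.eq_of_le_of_card_ge hRX.le (not_lt.1 hc))
        have h2 := Subgroup.card_le_of_le (hXN.trans inf_le_left : X ≤ Q)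
        omega
      have hIH := ih _ hlt heX (hXN.trans inf_le_left) rfl
      have hns := hstep X hRX.le hXN eX heX
      have heXe : eX * br X e = eX := by
        rw [alg_comm (le_refl C[X]) _ hns.2.1.2.mem _ (br_mem_alg hRX.le he.2.mem)]
        exact hns.2.2.2.2.2
      rw [hε, br_mul hXp (fixBy_br (hiQ.mono (hXN.trans inf_le_left)) (hXN.trans inf_le_right))
        (fixBy_sub fixBy_one (hfixN.mono hXN)), map_sub, br_one, br_br_of_le hRX.le, ← hIH,
        mul_assoc, mul_sub, mul_one, heXe, sub_self, mul_zero]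
    -- realise `ε` as the truncation of a fixed element
    obtain ⟨a₁, ha₁, htr⟩ := exists_tr_of_br_eq_zero hRN hsupp (hfix.mono le_sup_left) hvan
    set a₂ := avgBy S a₁
    have hcS := le_centralizer_swap hSQ (le_refl Q)
    have ha₁R : FixBy R a₁ := fixBy_of_suppIn_centralizer ha₁
    have ha₂R : FixBy R a₂ :=
      fixBy_avgBy_of_commute (fun s hs x hx => hcS s hs x (hRQ hx)) ha₁R
    have ha₂br : br R a₂ = a₂ := by
      rw [br_avgBy hSN, br_eq_self ha₁]
    set a := tr R Q a₂
    have haQ : FixBy Q a := tr_fixBy ha₂R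
    have haS : FixBy S a := by
      rw [show a = avgBy S (tr R Q a₁) from tr_avgBy hcS a₁]
      exact fixBy_avgBy S _
    have hbra : br R a = ε := by
      rw [br_tr_self hRp hRQ ha₂R, ha₂br, tr_avgBy (T := N) (fun s hs x hx => hcS s hs x (Subgroup.mem_inf.1 hx).1), htr,
        avgBy_eq_self hS (hfix.mono le_sup_right)]
    have haT : FixBy (Q ⊔ S) a := fixBy_sup haQ haS
    have hbiai : br R (i * a * i) = ε := by
      rw [br_mul hRp (fixBy_mul (hiQ.mono hRQ) (haQ.mono hRQ)) (hiQ.mono hRQ),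
        br_mul hRp (hiQ.mono hRQ) (haQ.mono hRQ), hbra, hε]
      have hbb : br R i * br R i = br R i := by
        rw [← br_mul hRp (hiQ.mono hRQ) (hiQ.mono hRQ), hi.2.2.1]
      rw [← mul_assoc, hbb, mul_assoc, sub_mul, one_mul, hfixC', ← mul_one (br R i * (br R i - _))]
      simp only [mul_sub, mul_one, ← mul_assoc, hbb]
    have hsub : ε = 0 := by
      rcases hi.nilpotent_or_inv (fixBy_iai hi.1 haT)
        (by rw [← mul_assoc, ← mul_assoc, hi.2.2.1]) (by rw [mul_assoc, hi.2.2.1]) with
        hnil | ⟨b, hb, -, -, hab⟩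
      · have := br_idem_of hRp ((fixBy_iai hi.1 haT).mono (hRQ.trans le_sup_left)) hnil
        rw [hbiai] at this
        exact eq_zero_of_idem_nilpotent hεε this
      · exfalso
        apply hif
        have hiaiQ : br Q (i * a * i) * br Q b = br Q i := by
          rw [← br_mul hQ ((fixBy_iai hi.1 haT).mono le_sup_left) (hb.mono le_sup_left), hab]
        rcases hRQ.eq_or_lt with rfl | hlt
        · have hef : e = f := congrArg Prod.snd (PLE.eq_of_eq hRe rfl)
          subst hef
          rw [hbiai] at hiaiQ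
          calc br R i * e = e * br R i := hfixC
            _ = e * ε * br R b := by conv_lhs => rw [← hiaiQ, ← mul_assoc]
            _ = 0 := by
              rw [hε, ← mul_assoc e, hfixC', mul_assoc (br R i), mul_sub, mul_one, he.2.idem,
                sub_self, mul_zero, zero_mul]
        · have ha0 : br Q a = 0 := by
            by_contra hne
            obtain ⟨x, -, hx⟩ := exists_conj_le_of_br_tr_ne_zero hQ le_rfl ha₂R hne
            have h1 := Subgroup.card_le_of_le hx
            rw [Subgroup.card_map_of_injective (MulAut.conj x).injective] at h1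
            exact hlt.ne (Subgroup.eq_of_le_of_card_ge hRQ h1)
          rw [br_mul hQ (fixBy_mul hiQ haQ) hiQ, br_mul hQ hiQ haQ, ha0, mul_zero, zero_mul,
            zero_mul] at hiaiQ
          rw [← hiaiQ, zero_mul]
    rw [hε, mul_sub, mul_one, sub_eq_zero] at hsub
    exact hsub.symm

theorem nilpotent_sum {T : Subgroup G} {i : MonoidAlgebra k G} (hi : IsPrimFix T i) {ι : Type*}
    (s : Finset ι) (a : ι → MonoidAlgebra k G) (hfix : ∀ x ∈ s, FixBy T (a x))
    (hl : ∀ x ∈ s, i * a x = a x) (hr : ∀ x ∈ s, a x * i = a x)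
    (hn : ∀ x ∈ s, IsNilpotent (a x)) : IsNilpotent (∑ x ∈ s, a x) := by
  classical
  induction s using Finset.induction with
  | empty => exact IsNilpotent.zero
  | insert x s hx ih =>
    rw [sum_insert hx]
    have h1 := hfix x (mem_insert_self x s)
    have h2 : FixBy T (∑ y ∈ s, a y) :=
      fixBy_sum _ _ fun y hy => hfix y (mem_insert_of_mem hy)
    have hns := ih (fun y hy => hfix y (mem_insert_of_mem hy))
      (fun y hy => hl y (mem_insert_of_mem hy)) (fun y hy => hr y (mem_insert_of_mem hy))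
      (fun y hy => hn y (mem_insert_of_mem hy))
    have key := (isPrim_of_isPrimFix hi).nilpotent_add k
      (a := (⟨a x, suppIn_top _, h1⟩ : fixAlg k T))
      (b := (⟨_, suppIn_top _, h2⟩ : fixAlg k T))
      (Subtype.ext (hl x (mem_insert_self x s))) (Subtype.ext (hr x (mem_insert_self x s)))
      (Subtype.ext (by
        show i * ∑ y ∈ s, a y = _
        rw [mul_sum]; exact sum_congr rfl fun y hy => hl y (mem_insert_of_mem hy)))
      (Subtype.ext (by
        show (∑ y ∈ s, a y) * i = _
        rw [sum_mul]; exact sum_congr rfl fun y hy => hr y (mem_insert_of_mem hy)))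
      ((IsNilpotent.map_iff (f := (fixAlg k T).val) Subtype.coe_injective).1 (hn x (mem_insert_self x s)))
      ((IsNilpotent.map_iff (f := (fixAlg k T).val) Subtype.coe_injective).1 hns)
    exact key.map (fixAlg k T).val

/-- A primitive idempotent killed at `Q` is a trace from a normal subgroup of index `p`. -/
theorem exists_eq_tr_of_br_eq_zero {Q S : Subgroup G} (hQ : IsPGroup p Q)
    (hS : ¬ p ∣ Nat.card S) (hSQ : S ≤ C[Q]) {i : MonoidAlgebra k G}
    (hi : IsPrimFix (Q ⊔ S) i) (h0 : br Q i = 0) :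
    ∃ (X : Subgroup G) (d : MonoidAlgebra k G), X ≤ Q ∧ Q ≤ Subgroup.normalizer (X : Set G) ∧
      X.relIndex Q = p ∧ FixBy (X ⊔ S) d ∧ i * d = d ∧ d * i = d ∧ tr X Q d = i := by
  classical
  have hiQ : FixBy Q i := hi.1.mono le_sup_left
  have hiS : FixBy S i := hi.1.mono le_sup_right
  have hcS := le_centralizer_swap hSQ (le_refl Q)
  obtain ⟨s, hsum⟩ := eq_sum_csum hiQ
  set s' := s.filter fun x => i.coeff x ≠ 0 with hs'
  have hprop : ∀ x ∈ s', Q ⊓ Subgroup.centralizer ({x} : Set G) < Q := by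
    intro x hx
    refine lt_of_le_of_ne inf_le_left fun he => (mem_filter.1 hx).2 ?_
    have hxQ : x ∈ C[Q] := Subgroup.mem_centralizer_iff.2 fun y hy =>
      Subgroup.mem_centralizer_singleton_iff.1 (inf_eq_left.1 he hy)
    rw [← coeff_br_of_mem i hxQ, h0]; rfl
  choose X hXS hXQ hXn hXp using fun x : s' => exists_index_prime_over hQ (hprop x.1 x.2)
  set b : s' → MonoidAlgebra k G := fun x => avgBy S (i.coeff x.1 •
    tr (Q ⊓ Subgroup.centralizer ({x.1} : Set G)) (X x) (single x.1 (1 : k))) with hb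
  have hsingle : ∀ x : G, FixBy (Q ⊓ Subgroup.centralizer ({x} : Set G)) (single x (1 : k)) := by
    intro x
    refine fixBy_iff x ?_
    intro t ht
    exact Subgroup.mem_centralizer_singleton_iff.1 ht.2
  have hbX : ∀ x, FixBy (X x) (b x) := fun x => by
    refine fixBy_avgBy_of_commute (fun y hy z hz => hcS y hy z (hXQ x hz)) fun t ht => ?_
    rw [map_smul, tr_fixBy (hsingle x.1) t ht]
  have hbS : ∀ x, FixBy S (b x) := fun x => fixBy_avgBy S _
  have hid : i = ∑ x : s', tr (X x) Q (b x) := by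
    have h1 : ∀ x : s', tr (X x) Q (b x) = avgBy S (i.coeff x.1 • csum k Q x.1) := fun x => by
      rw [hb]
      simp only
      rw [tr_avgBy hcS, map_smul, tr_trans (hXS x) (hXQ x) (hsingle x.1), tr_single le_rfl,
        Subgroup.relIndex_self, Nat.cast_one, one_smul]
    rw [sum_congr rfl fun x _ => h1 x, ← map_sum]
    have h2 : ∑ x : s', i.coeff x.1 • csum k Q x.1 = i := by
      conv_rhs => rw [hsum]
      rw [sum_coe_sort s' fun x => i.coeff x • csum k Q x, hs', sum_filter_of_ne]
      exact fun x _ hne e => hne (by rw [e, zero_smul])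
    rw [h2, avgBy_eq_self hS hiS]
  have htrS : ∀ x, FixBy S (tr (X x) Q (b x)) := fun x => by
    rw [hb]
    simp only
    rw [tr_avgBy hcS]
    exact fixBy_avgBy S _
  have hl : ∀ x, i * (i * tr (X x) Q (b x) * i) = i * tr (X x) Q (b x) * i := fun x => by
    rw [← mul_assoc, ← mul_assoc, hi.2.2.1]
  have hr : ∀ x, i * tr (X x) Q (b x) * i * i = i * tr (X x) Q (b x) * i := fun x => by
    rw [mul_assoc, hi.2.2.1]
  have hfixx : ∀ x, FixBy (Q ⊔ S) (i * tr (X x) Q (b x) * i) := fun x =>
    fixBy_iai hi.1 (fixBy_sup (tr_fixBy (hbX x)) (htrS x))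
  obtain ⟨x, hx⟩ : ∃ x, ¬ IsNilpotent (i * tr (X x) Q (b x) * i) := by
    by_contra hno
    simp only [not_exists, not_not] at hno
    have hsum' : ∑ x : s', i * tr (X x) Q (b x) * i = i := by
      rw [← sum_mul, ← mul_sum, ← hid, hi.2.2.1, hi.2.2.1]
    exact hi.2.1 (eq_zero_of_idem_nilpotent hi.2.2.1 (hsum' ▸ nilpotent_sum hi univ _
      (fun x _ => hfixx x) (fun x _ => hl x) (fun x _ => hr x) fun x _ => hno x))
  obtain ⟨c, hc, hc1, hc2, hac⟩ :=
    (hi.nilpotent_or_inv (hfixx x) (hl x) (hr x)).resolve_left hx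
  refine ⟨X x, i * b x * i * c, hXQ x, hXn x, hXp x, fixBy_mul (fixBy_iai
    (hi.1.mono (sup_le_sup_right (hXQ x) S)) (fixBy_sup (hbX x) (hbS x)))
    (hc.mono (sup_le_sup_right (hXQ x) S)), ?_, ?_, ?_⟩
  · rw [← mul_assoc, ← mul_assoc, ← mul_assoc, hi.2.2.1]
  · rw [mul_assoc, hc2]
  · rw [tr_mul (hc.mono le_sup_left), tr_mul hiQ, mul_tr hiQ, hac]
where
  fixBy_iff (x : G) {T : Subgroup G} (h : ∀ t ∈ T, t * x = x * t) :
    FixBy T (single x (1 : k)) := fun t ht => by
      simp only [cj, domCongr_single, MulAut.conj_apply, h t ht, mul_inv_cancel_right]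

/-- The trace from a normal subgroup of index `p` is the sum over the powers of one element. -/
theorem tr_eq_sum_pow {Q X : Subgroup G} (hXn : Q ≤ Subgroup.normalizer (X : Set G))
    (hXQ : X ≤ Q) (hXp : X.relIndex Q = p) {g : G} (hg : g ∈ Q) (hgX : g ∉ X)
    {d : MonoidAlgebra k G} (hd : FixBy X d) :
    tr X Q d = ∑ m ∈ range p, cj k (g ^ m) d := by
  classical
  haveI : Fintype (Q ⧸ X.subgroupOf Q) := Fintype.ofFinite _
  haveI : (X.subgroupOf Q).Normal := (Subgroup.normal_subgroupOf_iff_le_normalizer hXQ).2 hXn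
  have hcard : Fintype.card (Q ⧸ X.subgroupOf Q) = p := by
    rw [← Nat.card_eq_fintype_card, ← Subgroup.index_eq_card]; exact hXp
  let e : Fin p → Q ⧸ X.subgroupOf Q := fun m => ((⟨g, hg⟩ : Q) : Q ⧸ X.subgroupOf Q) ^ (m : ℕ)
  have hord : orderOf ((⟨g, hg⟩ : Q) : Q ⧸ X.subgroupOf Q) = p := by
    refine ((Nat.dvd_prime hp.out).1 (hcard ▸ orderOf_dvd_card)).resolve_left fun h1 => hgX ?_
    rw [orderOf_eq_one_iff, QuotientGroup.eq_one_iff] at h1
    exact h1
  have he : Function.Bijective e := by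
    rw [Fintype.bijective_iff_injective_and_card, Fintype.card_fin, hcard]
    exact ⟨fun a b h => Fin.ext (pow_injOn_Iio_orderOf (by simp [hord]) (by simp [hord]) h), rfl⟩
  rw [tr_apply, ← Fin.sum_univ_eq_sum_range (fun m => cj k (g ^ m) d) p]
  refine (Fintype.sum_bijective e he _ _ fun m => ?_).symm
  exact cj_rep hd (t := (⟨g, hg⟩ : Q) ^ (m : ℕ)) (q := e m) (QuotientGroup.mk_pow (X.subgroupOf Q) _ _)

end CfsgLib.BlockStar
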