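import Cfsg.Agent.BlocksB.Star.Values
import Cfsg.Agent.BlocksB.Star.PointLocal
import Cfsg.Agent.Char.Generalized
import Cfsg.Agent.Blocks.CharExtra
import Cfsg.Agent.Char.Central

/-!
# Integrality of weighted sections on a `p`-subgroup

For a weight `W` on pairs `(⟨u⟩, e)` that is, below every pair `(Q, f)`, a generalized character
of `Q`, the function `u ↦ ∑ₑ W u e * χ (u * s * ẽ)` on a `p`-subgroup centralized by the element
`s` of order prime to `p` has locally integral multiplicities.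
-/

set_option autoImplicit false
set_option linter.style.haveILetI false
set_option linter.unusedSectionVars false

namespace CfsgLib.BlockStar

open Cfsg Finset CfsgLib.Block CfsgLib.Block.Chr CfsgLib.BrauerPairs CfsgLib.Char
open scoped ComplexConjugate

universe u

variable {M : Ideal AlgInt} [M.IsPrime] {p : ℕ} [Fact p.Prime] [CharP (Residue M) p]
  {G : Type u} [Group G] [Fintype G]

local notation "𝕜" => Residue M
local notation "Z[" x "]" => Subgroup.zpowers x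
local notation "C[" Q "]" => Subgroup.centralizer (SetLike.coe Q)

theorem mem_cz {x g : G} : g ∈ C[Z[x]] ↔ g * x = x * g := by
  rw [Subgroup.mem_centralizer_iff]
  refine ⟨fun h => (h x (Subgroup.mem_zpowers x)).symm, fun h y hy => ?_⟩
  obtain ⟨i, rfl⟩ := hy
  exact ((show Commute x g from h.symm).zpow_left i).eq

theorem fixBy_zpowers {x : G} {a : MonoidAlgebra 𝕜 G} (h : cj 𝕜 x a = a) : FixBy Z[x] a := by
  intro t ht
  rw [Subgroup.zpowers_eq_closure] at ht
  induction ht using Subgroup.closure_induction with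
  | mem y hy => rw [Set.mem_singleton_iff.1 hy, h]
  | one => exact cj_one a
  | mul y z _ _ hy hz => rw [cj_mul, hz, hy]
  | inv y _ hy => conv_lhs => rw [← hy, cj_inv_cj]

/-- `x` is a `p`-element and `s` an element of order prime to `p` commuting with it. -/
structure PElt (p : ℕ) (x s : G) : Prop where
  pow : ∃ n : ℕ, x ^ p ^ n = 1
  reg : ¬ p ∣ orderOf s
  comm : Commute x s

theorem PElt.isPGroup {x s : G} (h : PElt p x s) : IsPGroup p Z[x] := by
  obtain ⟨n, hn⟩ := h.pow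
  rintro ⟨y, hy⟩
  obtain ⟨i, rfl⟩ := hy
  refine ⟨n, Subtype.ext ?_⟩
  show (x ^ i) ^ p ^ n = 1
  rw [← zpow_natCast, ← zpow_mul, mul_comm, zpow_mul, zpow_natCast, hn, _root_.one_zpow]

theorem sup_le_cz {x s : G} (h : PElt p x s) : Z[x] ⊔ Z[s] ≤ C[Z[x]] := by
  rw [sup_le_iff, Subgroup.zpowers_le, Subgroup.zpowers_le, mem_cz, mem_cz]
  exact ⟨rfl, h.comm.eq.symm⟩

/-- The value of `χ` at a lift of an idempotent, times `s * x`. -/
noncomputable def val (χ : IrrCharacter G) (x s : G) (ε : MonoidAlgebra 𝕜 G) : ℂ := by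
  classical
  exact if h : ε * ε = ε ∧ FixBy (Z[x] ⊔ Z[s]) ε then
    sval χ (s * x) (exists_lift (Z[x] ⊔ Z[s]) h.1 h.2).choose else 0

theorem val_eq (hM : IsPModular p M) (χ : IrrCharacter G) {x s : G} (h : PElt p x s)
    {b : LA M G} (hb : b * b = b)
    (hbx : Commute (MonoidAlgebra.single x (1 : localRing M)) b)
    (hbs : Commute (MonoidAlgebra.single s (1 : localRing M)) b)
    {ε : MonoidAlgebra 𝕜 G} (hε : ε * ε = ε) (hεT : FixBy (Z[x] ⊔ Z[s]) ε)
    (hbr : br Z[x] (redA b) = br Z[x] ε) : val χ x s ε = sval χ (s * x) b := by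
  classical
  obtain ⟨n, hn⟩ := h.pow
  have hfix : FixBy (Z[x] ⊔ Z[s]) (br Z[x] ε) :=
    fixBy_br hεT ((sup_le_cz h).trans (centralizer_le_normalizer _))
  have hid : br Z[x] ε * br Z[x] ε = br Z[x] ε := by
    rw [← br_mul h.isPGroup (hεT.mono le_sup_left) (hεT.mono le_sup_left), hε]
  obtain ⟨c, hc, hcred, hcT, hcC⟩ := exists_lift_in (sup_le_cz h) hid hfix (suppIn_br ε)
  have key : ∀ a : LA M G, a * a = a →
      Commute (MonoidAlgebra.single x (1 : localRing M)) a →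
      Commute (MonoidAlgebra.single s (1 : localRing M)) a →
      br Z[x] (redA a) = br Z[x] ε → sval χ (s * x) a = sval χ (s * x) c := by
    intro a ha hax has har
    refine sval_congr hM χ hn h.reg (pow_orderOf_eq_one s) h.comm ha hc hax has
      (hcT x (Subgroup.mem_sup_left (Subgroup.mem_zpowers x)))
      (hcT s (Subgroup.mem_sup_right (Subgroup.mem_zpowers s))) (fun g hg => ?_)
      (fun g hg => hcC g fun h' => hg ?_)
    · have hg' : g ∈ C[Z[x]] := mem_cz.2 (Subgroup.mem_centralizer_singleton_iff.1 hg)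
      rw [← coeff_redA, ← coeff_redA, hcred, ← coeff_br_of_mem (redA a) hg', har]
    · exact Subgroup.mem_centralizer_singleton_iff.2 (mem_cz.1 h')
  rw [val, dif_pos ⟨hε, hεT⟩]
  obtain ⟨h1, h2, h3⟩ := (exists_lift (M := M) (Z[x] ⊔ Z[s]) hε hεT).choose_spec
  rw [key b hb hbx hbs hbr,
    key _ h1 (h3 x (Subgroup.mem_sup_left (Subgroup.mem_zpowers x)))
      (h3 s (Subgroup.mem_sup_right (Subgroup.mem_zpowers s))) (by rw [h2])]

theorem val_br (hM : IsPModular p M) (χ : IrrCharacter G) {x s : G} (h : PElt p x s)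
    {ε : MonoidAlgebra 𝕜 G} (hε : ε * ε = ε) (hεT : FixBy (Z[x] ⊔ Z[s]) ε)
    {ε' : MonoidAlgebra 𝕜 G} (hε' : ε' * ε' = ε') (hε'T : FixBy (Z[x] ⊔ Z[s]) ε')
    (hbr : br Z[x] ε = br Z[x] ε') : val χ x s ε = val χ x s ε' := by
  obtain ⟨b, h1, h2, h3⟩ := exists_lift (M := M) (Z[x] ⊔ Z[s]) hε' hε'T
  have hx := h3 x (Subgroup.mem_sup_left (Subgroup.mem_zpowers x))
  have hs := h3 s (Subgroup.mem_sup_right (Subgroup.mem_zpowers s))
  rw [val_eq hM χ h h1 hx hs hε hεT (by rw [h2, hbr]), val_eq hM χ h h1 hx hs hε' hε'T (by rw [h2])]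

theorem val_zero (hM : IsPModular p M) (χ : IrrCharacter G) {x s : G} (h : PElt p x s) :
    val χ x s (0 : MonoidAlgebra 𝕜 G) = 0 := by
  rw [val_eq hM χ h (b := 0) (mul_zero _) (Commute.zero_right _) (Commute.zero_right _) (mul_zero _)
    (fun t _ => map_zero _) (by rw [map_zero]), sval_zero]

theorem val_add (hM : IsPModular p M) (χ : IrrCharacter G) {x s : G} (h : PElt p x s)
    {ε ε' : MonoidAlgebra 𝕜 G} (hε : ε * ε = ε) (hεT : FixBy (Z[x] ⊔ Z[s]) ε)
    (hε' : ε' * ε' = ε') (hε'T : FixBy (Z[x] ⊔ Z[s]) ε') (h1 : ε * ε' = 0) (h2 : ε' * ε = 0) :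
    val χ x s (ε + ε') = val χ x s ε + val χ x s ε' := by
  obtain ⟨b, hb, hbred, hbT⟩ := exists_lift (M := M) (Z[x] ⊔ Z[s]) hε hεT
  obtain ⟨b', hb', hbred', hbT', ho1, ho2⟩ := exists_lift_orth (Z[x] ⊔ Z[s]) hb hbT hε' hε'T
    (by rw [hbred, h1]) (by rw [hbred, h2])
  have hx := Subgroup.mem_sup_left (T := Z[s]) (Subgroup.mem_zpowers x)
  have hs := Subgroup.mem_sup_right (S := Z[x]) (Subgroup.mem_zpowers s)
  rw [val_eq hM χ h hb (hbT x hx) (hbT s hs) hε hεT (by rw [hbred]),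
    val_eq hM χ h hb' (hbT' x hx) (hbT' s hs) hε' hε'T (by rw [hbred']),
    val_eq hM χ h (b := b + b') (by rw [add_mul, mul_add, mul_add, hb, hb', ho1, ho2]; abel)
      ((hbT x hx).add_right (hbT' x hx)) ((hbT s hs).add_right (hbT' s hs))
      (by rw [add_mul, mul_add, mul_add, hε, hε', h1, h2]; abel)
      (fun t ht => by rw [map_add, hεT t ht, hε'T t ht]) (by rw [map_add redA, hbred, hbred']),
    sval_add]

theorem val_link (hM : IsPModular p M) (χ : IrrCharacter G) {x s : G} (h : PElt p x s)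
    {ε ε' a c : MonoidAlgebra 𝕜 G} (hε : ε * ε = ε) (hεT : FixBy (Z[x] ⊔ Z[s]) ε)
    (hε' : ε' * ε' = ε') (hε'T : FixBy (Z[x] ⊔ Z[s]) ε')
    (ha : FixBy (Z[x] ⊔ Z[s]) a) (hc : FixBy (Z[x] ⊔ Z[s]) c)
    (h1 : a * c = ε) (h2 : c * a = ε') (h3 : ε * a = a) (h4 : a * ε' = a)
    (h5 : ε' * c = c) (h6 : c * ε = c) : val χ x s ε = val χ x s ε' := by
  set T := Z[x] ⊔ Z[s]
  obtain ⟨b, hb, hbred, hbT⟩ := exists_lift (M := M) T hε hεT
  obtain ⟨b', hb', hbred', hbT'⟩ := exists_lift (M := M) T hε' hε'T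
  obtain ⟨A0, hA0, hA0T⟩ := exists_liftA (M := M) T ha
  obtain ⟨C0, hC0, hC0T⟩ := exists_liftA (M := M) T hc
  set X := b * A0 * b' with hX
  set Y := b' * C0 * b with hY
  have hXr : redA X = a := by rw [hX, map_mul, map_mul, hbred, hA0, hbred', h3, h4]
  have hYr : redA Y = c := by rw [hY, map_mul, map_mul, hbred, hC0, hbred', h5, h6]
  have hbX : b * X = X := by rw [hX, ← mul_assoc, ← mul_assoc, hb]
  have hYb : Y * b = Y := by rw [hY, mul_assoc, hb]
  set v := X * Y + (1 - b) with hv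
  have hvr : redA v = 1 := by
    rw [hv, map_add, map_sub, map_one, map_mul, hXr, hYr, h1, hbred, add_sub_cancel]
  obtain ⟨w, hw⟩ := isUnit_of_redA_eq_one hvr
  have hbv : b * v = X * Y := by
    rw [hv, mul_add, ← mul_assoc, hbX, mul_sub, mul_one, hb, sub_self, add_zero]
  have hvb : v * b = X * Y := by
    rw [hv, add_mul, mul_assoc, hYb, sub_mul, one_mul, hb, sub_self, add_zero]
  have hwr : redA (↑w⁻¹ : LA M G) = 1 := by
    have := congrArg redA w.mul_inv
    rwa [map_mul, map_one, hw, hvr, one_mul] at this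
  set Y' := Y * ↑w⁻¹ with hY'
  have hXY : X * Y' = b := by rw [hY', ← mul_assoc, ← hbv, ← hw, mul_assoc, Units.mul_inv, mul_one]
  have hXT : ∀ t ∈ T, Commute (MonoidAlgebra.single t (1 : localRing M)) X := fun t ht =>
    ((hbT t ht).mul_right (hA0T t ht)).mul_right (hbT' t ht)
  have hYT : ∀ t ∈ T, Commute (MonoidAlgebra.single t (1 : localRing M)) Y' := fun t ht =>
    (((hbT' t ht).mul_right (hC0T t ht)).mul_right (hbT t ht)).mul_right
      (Commute.units_inv_right (hw ▸ ((hXT t ht).mul_right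
        (((hbT' t ht).mul_right (hC0T t ht)).mul_right (hbT t ht))).add_right
          ((Commute.one_right _).sub_right (hbT t ht))))
  have hid : Y' * X * (Y' * X) = Y' * X := by
    rw [mul_assoc Y' X, ← mul_assoc X Y' X, hXY, hbX]
  have hYX : ∀ t ∈ T, Commute (MonoidAlgebra.single t (1 : localRing M)) (Y' * X) := fun t ht =>
    (hYT t ht).mul_right (hXT t ht)
  have hx := Subgroup.mem_sup_left (T := Z[s]) (Subgroup.mem_zpowers x)
  have hs := Subgroup.mem_sup_right (S := Z[x]) (Subgroup.mem_zpowers s)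
  rw [val_eq hM χ h hb (hbT x hx) (hbT s hs) hε hεT (by rw [hbred]),
    val_eq hM χ h hid (hYX x hx) (hYX s hs) hε' hε'T
      (by rw [map_mul redA, hY', map_mul redA, hYr, hwr, mul_one, hXr, h2]), ← hXY]
  refine sval_mul_comm χ _ ?_
  have : MonoidAlgebra.single (s * x) (1 : localRing M) =
      MonoidAlgebra.single s 1 * MonoidAlgebra.single x 1 := by
    rw [MonoidAlgebra.single_mul_single, one_mul]
  rw [this]
  exact (hYT s hs).mul_left (hYT x hx)

theorem redA_mapDomain (g : G) (a : LA M G) :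
    redA (MonoidAlgebra.domCongr (localRing M) (localRing M) (MulAut.conj g) a) =
      cj 𝕜 g (redA a) := by
  refine coeff_ext fun h => ?_
  simp [MulAut.conj_symm_apply]

theorem PElt.conj {x s : G} (h : PElt p x s) (g : G) : PElt p (g * x * g⁻¹) (g * s * g⁻¹) := by
  obtain ⟨n, hn⟩ := h.pow
  refine ⟨⟨n, by rw [conj_pow, hn, mul_one, mul_inv_cancel]⟩, fun hd => h.reg ?_,
    h.comm.map (MulAut.conj g)⟩
  have ho : orderOf (g * s * g⁻¹) = orderOf s :=
    orderOf_injective (MulAut.conj g).toMonoidHom (MulAut.conj g).injective s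
  rwa [ho] at hd

theorem val_conj (hM : IsPModular p M) (χ : IrrCharacter G) {x s : G} (h : PElt p x s) (g : G)
    {ε : MonoidAlgebra 𝕜 G} (hε : ε * ε = ε) (hεT : FixBy (Z[x] ⊔ Z[s]) ε) :
    val χ (g * x * g⁻¹) (g * s * g⁻¹) (cj 𝕜 g ε) = val χ x s ε := by
  classical
  set Φ := MonoidAlgebra.domCongr (localRing M) (localRing M) (MulAut.conj g)
  obtain ⟨b, hb, hbred, hbT⟩ := exists_lift (M := M) (Z[x] ⊔ Z[s]) hε hεT
  have hx := Subgroup.mem_sup_left (T := Z[s]) (Subgroup.mem_zpowers x)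
  have hs := Subgroup.mem_sup_right (S := Z[x]) (Subgroup.mem_zpowers s)
  have hΦ : ∀ t, Φ (MonoidAlgebra.single t (1 : localRing M)) =
      MonoidAlgebra.single (g * t * g⁻¹) 1 := fun t => by simp [Φ]
  rw [val_eq hM χ h hb (hbT x hx) (hbT s hs) hε hεT (by rw [hbred]),
    val_eq hM χ (h.conj g) (b := Φ b) (by rw [← map_mul, hb])
      (hΦ x ▸ (hbT x hx).map Φ) (hΦ s ▸ (hbT s hs).map Φ)
      (by rw [← map_mul, hε]) (by
        refine fixBy_sup (fixBy_zpowers ?_) (fixBy_zpowers ?_)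
        · rw [← cj_mul, inv_mul_cancel_right, cj_mul, hεT x hx]
        · rw [← cj_mul, inv_mul_cancel_right, cj_mul, hεT s hs])
      (by rw [redA_mapDomain, hbred])]
  unfold sval
  refine Fintype.sum_equiv (MulAut.conj g⁻¹).toEquiv _ _ fun y => ?_
  show ((Φ b).coeff y : ℂ) * _ = (b.coeff (g⁻¹ * y * g⁻¹⁻¹) : ℂ) * _
  rw [show (Φ b).coeff y = b.coeff (g⁻¹ * y * g) by simp [Φ, MulAut.conj_symm_apply], inv_inv]
  congr 1
  show _ = (χ : G → ℂ) (g⁻¹ * y * g⁻¹⁻¹ * (s * x))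
  rw [inv_inv, ← isClassFunction_irr χ (y * (g * s * g⁻¹ * (g * x * g⁻¹))) g⁻¹, inv_inv]
  refine congrArg (χ : G → ℂ) ?_
  group

theorem val_cj (hM : IsPModular p M) (χ : IrrCharacter G) {x s : G} (h : PElt p x s) (g : G)
    (hgs : g * s * g⁻¹ = s) {ε : MonoidAlgebra 𝕜 G} (hε : ε * ε = ε)
    (hεT : FixBy (Z[x] ⊔ Z[s]) ε) :
    val χ (g * x * g⁻¹) s (cj 𝕜 g ε) = val χ x s ε := by
  conv_lhs => rw [← hgs]
  exact val_conj hM χ h g hε hεT

/-- The blocks of `C(⟨u⟩)`. -/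
noncomputable def blks (M : Ideal AlgInt) [M.IsPrime] (u : G) : Finset (MonoidAlgebra (Residue M) G) :=
  primFinset (alg_comm (k := Residue M) (le_refl (Subgroup.centralizer (Subgroup.zpowers u : Set G))))

theorem mem_blks {u : G} {e : MonoidAlgebra 𝕜 G} : e ∈ blks M u ↔ IsBlk 𝕜 C[Z[u]] e :=
  mem_primFinset _

/-- The weighted section function of an idempotent. -/
noncomputable def wsum (W : G → MonoidAlgebra 𝕜 G → ℂ) (χ : IrrCharacter G) (s : G)
    (i : MonoidAlgebra 𝕜 G) (u : G) : ℂ :=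
  ∑ e ∈ blks M u, W u e * val χ u s (br Z[u] i * e)

theorem sec_props {u s : G} (h : PElt p u s) {i e : MonoidAlgebra 𝕜 G}
    (hiT : FixBy (Z[u] ⊔ Z[s]) i) (hi : i * i = i) (he : e ∈ blks M u) :
    br Z[u] i * e = e * br Z[u] i ∧ (br Z[u] i * e) * (br Z[u] i * e) = br Z[u] i * e ∧
      FixBy (Z[u] ⊔ Z[s]) (br Z[u] i * e) := by
  have heB := mem_blks.1 he
  have hcomm : br Z[u] i * e = e * br Z[u] i := alg_commute le_rfl (suppIn_br i) heB.fixBy
  refine ⟨hcomm, ?_, fixBy_mul (fixBy_br hiT ((sup_le_cz h).trans (centralizer_le_normalizer _)))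
    (heB.fixBy.mono (sup_le_cz h))⟩
  rw [mul_assoc, ← mul_assoc e, ← hcomm, mul_assoc _ e e, heB.idem, ← mul_assoc,
    ← br_mul h.isPGroup (hiT.mono le_sup_left) (hiT.mono le_sup_left), hi]

theorem wsum_zero (hM : IsPModular p M) (W : G → MonoidAlgebra 𝕜 G → ℂ) (χ : IrrCharacter G)
    {u s : G} (h : PElt p u s) : wsum W χ s (0 : MonoidAlgebra 𝕜 G) u = 0 :=
  sum_eq_zero fun e _ => by rw [map_zero, zero_mul, val_zero hM χ h, mul_zero]

theorem wsum_add (hM : IsPModular p M) (W : G → MonoidAlgebra 𝕜 G → ℂ) (χ : IrrCharacter G)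
    {u s : G} (h : PElt p u s) {i j : MonoidAlgebra 𝕜 G}
    (hiT : FixBy (Z[u] ⊔ Z[s]) i) (hi : i * i = i) (hjT : FixBy (Z[u] ⊔ Z[s]) j) (hj : j * j = j)
    (hij : i * j = 0) (hji : j * i = 0) :
    wsum W χ s (i + j) u = wsum W χ s i u + wsum W χ s j u := by
  simp only [wsum, ← sum_add_distrib]
  refine sum_congr rfl fun e he => ?_
  obtain ⟨hci, hi2, hi3⟩ := sec_props h hiT hi he
  obtain ⟨hcj, hj2, hj3⟩ := sec_props h hjT hj he
  have hz : ∀ {a b : MonoidAlgebra 𝕜 G}, FixBy (Z[u] ⊔ Z[s]) a → FixBy (Z[u] ⊔ Z[s]) b → a * b = 0 →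
      br Z[u] b * e = e * br Z[u] b → br Z[u] a * e * (br Z[u] b * e) = 0 := fun ha hb hab hc => by
    rw [hc, mul_assoc, ← mul_assoc e e, (mem_blks.1 he).idem, ← hc, ← mul_assoc,
      ← br_mul h.isPGroup (ha.mono le_sup_left) (hb.mono le_sup_left), hab, map_zero, zero_mul]
  rw [map_add, add_mul, val_add hM χ h hi2 hi3 hj2 hj3 (hz hiT hjT hij hcj) (hz hjT hiT hji hci),
    mul_add]

theorem wsum_sum (hM : IsPModular p M) (W : G → MonoidAlgebra 𝕜 G → ℂ) (χ : IrrCharacter G)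
    {u s : G} (h : PElt p u s) {ι : Type*} (t : Finset ι) (j : ι → MonoidAlgebra 𝕜 G)
    (hT : ∀ l ∈ t, FixBy (Z[u] ⊔ Z[s]) (j l)) (hid : ∀ l ∈ t, j l * j l = j l)
    (ho : ∀ l ∈ t, ∀ m ∈ t, l ≠ m → j l * j m = 0) :
    wsum W χ s (∑ l ∈ t, j l) u = ∑ l ∈ t, wsum W χ s (j l) u := by
  classical
  induction t using Finset.induction with
  | empty => simp [wsum_zero hM W χ h]
  | insert a t ha ih =>
    have hr : ∀ l ∈ t, j a * j l = 0 := fun l hl =>
      ho a (mem_insert_self a t) l (mem_insert_of_mem hl) fun e => ha (e ▸ hl)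
    have hl' : ∀ l ∈ t, j l * j a = 0 := fun l hl =>
      ho l (mem_insert_of_mem hl) a (mem_insert_self a t) fun e => ha (e ▸ hl)
    rw [sum_insert ha, sum_insert ha, wsum_add hM W χ h (hT a (mem_insert_self a t))
      (hid a (mem_insert_self a t)) (fixBy_sum _ _ fun l hl => hT l (mem_insert_of_mem hl)) ?_
      (by rw [mul_sum]; exact sum_eq_zero hr) (by rw [sum_mul]; exact sum_eq_zero hl'),
      ih (fun l hl => hT l (mem_insert_of_mem hl)) (fun l hl => hid l (mem_insert_of_mem hl))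
        fun l hl m hm => ho l (mem_insert_of_mem hl) m (mem_insert_of_mem hm)]
    rw [sum_mul]
    refine sum_congr rfl fun l hl => ?_
    rw [mul_sum, sum_eq_single l (fun m hm hne => ho l (mem_insert_of_mem hl) m
      (mem_insert_of_mem hm) hne.symm) (fun h => absurd hl h), hid l (mem_insert_of_mem hl)]

theorem wsum_link (hM : IsPModular p M) (W : G → MonoidAlgebra 𝕜 G → ℂ) (χ : IrrCharacter G)
    {u s : G} (h : PElt p u s) {i j a c : MonoidAlgebra 𝕜 G}
    (hiT : FixBy (Z[u] ⊔ Z[s]) i) (hi : i * i = i) (hjT : FixBy (Z[u] ⊔ Z[s]) j) (hj : j * j = j)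
    (ha : FixBy (Z[u] ⊔ Z[s]) a) (hc : FixBy (Z[u] ⊔ Z[s]) c)
    (h1 : a * c = i) (h2 : c * a = j) (h3 : i * a = a) (h4 : a * j = a) (h5 : j * c = c)
    (h6 : c * i = c) : wsum W χ s i u = wsum W χ s j u := by
  refine sum_congr rfl fun e he => ?_
  have heB := mem_blks.1 he
  have hce : ∀ z, br Z[u] z * e = e * br Z[u] z := fun z =>
    alg_commute le_rfl (suppIn_br z) heB.fixBy
  have hbm : ∀ {x y z}, FixBy (Z[u] ⊔ Z[s]) x → FixBy (Z[u] ⊔ Z[s]) y → x * y = z →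
      br Z[u] x * e * (br Z[u] y * e) = br Z[u] z * e := fun {x y z} hx hy hxy => by
    rw [hce y, mul_assoc, ← mul_assoc e e, heB.idem, ← hce y, ← mul_assoc,
      ← br_mul h.isPGroup (hx.mono le_sup_left) (hy.mono le_sup_left), hxy]
  have hfx : ∀ {x}, FixBy (Z[u] ⊔ Z[s]) x → FixBy (Z[u] ⊔ Z[s]) (br Z[u] x * e) := fun hx =>
    fixBy_mul (fixBy_br hx ((sup_le_cz h).trans (centralizer_le_normalizer _)))
      (heB.fixBy.mono (sup_le_cz h))
  rw [val_link hM χ h (sec_props h hiT hi he).2.1 (hfx hiT) (sec_props h hjT hj he).2.1 (hfx hjT)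
    (hfx ha) (hfx hc) (hbm ha hc h1) (hbm hc ha h2) (hbm hiT ha h3) (hbm ha hjT h4) (hbm hjT hc h5)
    (hbm hc hiT h6)]

theorem wsum_cj (hM : IsPModular p M) (W : G → MonoidAlgebra 𝕜 G → ℂ)
    (hWG : ∀ g u e, IsBlk 𝕜 C[Z[u]] e → W (g * u * g⁻¹) (cj 𝕜 g e) = W u e)
    (χ : IrrCharacter G) {u s : G} (h : PElt p u s) {g : G} (hgs : g * s * g⁻¹ = s)
    {i : MonoidAlgebra 𝕜 G} (hiT : FixBy (Z[u] ⊔ Z[s]) i) (hi : i * i = i) :
    wsum W χ s (cj 𝕜 g i) (g * u * g⁻¹) = wsum W χ s i u := by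
  classical
  have hmap : Z[u].map (MulAut.conj g).toMonoidHom = Z[g * u * g⁻¹] := by
    rw [MonoidHom.map_zpowers]; rfl
  have hmem : ∀ {g u : G} {e : MonoidAlgebra 𝕜 G}, IsBlk 𝕜 C[Z[u]] e →
      IsBlk 𝕜 C[Z[g * u * g⁻¹]] (cj 𝕜 g e) := by
    intro g u e he
    have := he.cj g
    rwa [map_conj_centralizer, show Z[u].map (MulAut.conj g).toMonoidHom = Z[g * u * g⁻¹] by
      rw [MonoidHom.map_zpowers]; rfl] at this
  symm
  refine sum_nbij' (fun e => cj 𝕜 g e) (fun e => cj 𝕜 g⁻¹ e) (fun e he => mem_blks.2 (hmem (mem_blks.1 he)))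
    (fun e he => ?_) (fun e _ => cj_inv_cj g e) (fun e _ => cj_cj_inv g e) (fun e he => ?_)
  · have := hmem (g := g⁻¹) (mem_blks.1 he)
    rw [show g⁻¹ * (g * u * g⁻¹) * g⁻¹⁻¹ = u by group] at this
    exact mem_blks.2 this
  · obtain ⟨-, h2, h3⟩ := sec_props h hiT hi he
    rw [hWG g u e (mem_blks.1 he), ← val_cj hM χ h g hgs h2 h3, map_mul, cj_br, hmap]

theorem isCharacter_sval (χ : IrrCharacter G) {b : LA M G} (hb : b * b = b) {K : Subgroup G}
    (hK : ∀ y ∈ K, Commute (MonoidAlgebra.single y (1 : localRing M)) b) :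
    IsCharacter K fun y : K => sval χ (y : G) b := by
  obtain ⟨n, ρ, -, hρ⟩ := χ.2
  set E : Module.End ℂ (Fin n → ℂ) := ∑ g : G, (b.coeff g : ℂ) • ρ g with hE
  have hEE : E * E = E := by
    simp only [hE, sum_mul_sum, smul_mul_smul_comm, ← map_mul]
    rw [sum_congr rfl fun a _ => Fintype.sum_equiv (Equiv.mulLeft a) _
      (fun w => ((b.coeff a : ℂ) * (b.coeff (a⁻¹ * w) : ℂ)) • ρ w) fun c => by simp, sum_comm]
    refine sum_congr rfl fun w _ => ?_
    conv_rhs => rw [← hb, coeff_mul']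
    push_cast
    rw [sum_smul]
  have hcomm : ∀ y : K, ρ y * E = E * ρ y := by
    intro y
    simp only [hE, mul_sum, sum_mul, mul_smul_comm, smul_mul_assoc, ← map_mul]
    refine Fintype.sum_equiv (MulAut.conj (y : G)).toEquiv _ _ fun g => ?_
    show _ = (b.coeff ((y : G) * g * (y : G)⁻¹) : ℂ) • ρ ((y : G) * g * (y : G)⁻¹ * y)
    rw [(commute_single_iff _ b).1 (hK y y.2) g, inv_mul_cancel_right]
  have hmem : ∀ (y : K), ∀ v ∈ LinearMap.range E, ρ y v ∈ LinearMap.range E := by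
    rintro y _ ⟨v, rfl⟩
    exact ⟨ρ y v, by rw [← Module.End.mul_apply, ← hcomm y, Module.End.mul_apply]⟩
  let σ : Representation ℂ K (LinearMap.range E) :=
    { toFun := fun y => (ρ y).restrict (hmem y)
      map_one' := by ext v; simp
      map_mul' := fun y z => by ext v; simp }
  have hσ : σ.character = fun y : K => sval χ (y : G) b := by
    funext y
    have hf : ∀ v, (ρ y * E) v ∈ LinearMap.range E := fun v => hmem y _ ⟨v, rfl⟩
    have heq : σ y = (ρ y * E).restrict (fun v _ => hf v) := by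
      ext ⟨_, v, rfl⟩
      show ρ y (E v) _ = ρ y (E (E v)) _
      rw [← Module.End.mul_apply E E, hEE]
    rw [Representation.character, heq, LinearMap.trace_restrict_eq_of_forall_mem _ _ hf, sval,
      ← hρ, hE, mul_sum, map_sum]
    refine sum_congr rfl fun g _ => ?_
    rw [mul_smul_comm, map_smul, ← map_mul, smul_eq_mul]
    show _ = (b.coeff g : ℂ) * ρ.character (g * (y : G))
    rw [Representation.char_mul_comm]
    rfl
  rw [← hσ]
  exact isCharacter_character σ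

theorem exists_central_scalar {K : Type u} [Group K] [Fintype K] {ψ : K → ℂ}
    (hψ : IsIrrCharacter K ψ) {z : K} (hz : ∀ y, z * y = y * z) :
    ∃ w : ℂ, IsIntegral ℤ w ∧ ∀ y, ψ (z * y) = w * ψ y := by
  obtain ⟨n, σ, hirr, rfl⟩ := hψ
  haveI := hirr
  obtain ⟨c, hc⟩ : ∃ c : ℂ, σ z = c • 1 := ⟨_, eq_smul_one_of_commute σ (σ z) fun y => by
    rw [← map_mul, ← map_mul, hz y]⟩
  refine ⟨c, ?_, fun y => by
    simp only [Representation.character, map_mul, hc, smul_mul_assoc, one_mul, map_smul, smul_eq_mul]⟩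
  have hn : (n : ℂ) ≠ 0 := by
    have h := irr_one_ne_zero (⟨σ.character, n, σ, hirr, rfl⟩ : IrrCharacter K)
    change σ.character 1 ≠ 0 at h
    rwa [char_one_eq] at h
  have h2 := congrArg σ (pow_orderOf_eq_one z)
  rw [map_pow, hc, smul_pow, one_pow, map_one] at h2
  have ht := congrArg (LinearMap.trace ℂ (Fin n → ℂ)) h2
  rw [map_smul, LinearMap.trace_one, Module.finrank_fin_fun, smul_eq_mul] at ht
  exact isIntegral_of_pow_eq_one (orderOf_pos z) (mul_right_cancel₀ hn (ht.trans (one_mul _).symm))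

/-- A surviving primitive idempotent gives a generalized character of `Q` with integral
coefficients. -/
theorem memLocalRing_wsum_surv (hM : IsPModular p M) {W : G → MonoidAlgebra 𝕜 G → ℂ}
    (hW : ∀ (Q : Subgroup G) (f : MonoidAlgebra 𝕜 G), IsPair p (Q, f) →
      ∃ η : Q → ℂ, IsGeneralizedCharacter Q η ∧
        ∀ (u : G) (hu : u ∈ Q) (e : MonoidAlgebra 𝕜 G), PLE p (Z[u], e) (Q, f) → W u e = η ⟨u, hu⟩)
    (χ : IrrCharacter G) {s : G} (hs : ¬ p ∣ orderOf s) {Q : Subgroup G} [Fintype Q]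
    (hQ : IsPGroup p Q) (hsQ : s ∈ C[Q]) {i : MonoidAlgebra 𝕜 G}
    (hi : IsPrimFix (Q ⊔ Z[s]) i) (h0 : br Q i ≠ 0) {lam : Q → ℂ} (hlam : IsCharacter Q lam) :
    MemLocalRing M (classInner (fun u : Q => wsum W χ s i (u : G)) lam) := by
  classical
  have hScard : ¬ p ∣ Nat.card Z[s] := by rwa [Nat.card_zpowers]
  have hSQ : Z[s] ≤ C[Q] := Subgroup.zpowers_le.2 hsQ
  have hPE : ∀ u : Q, PElt p (u : G) s := fun u => by
    obtain ⟨n, hn⟩ := hQ u
    exact ⟨⟨n, by simpa using congrArg Subtype.val hn⟩, hs,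
      Subgroup.mem_centralizer_iff.1 hsQ u u.2⟩
  obtain ⟨f, hf, hf0⟩ := exists_prim_mul_ne_zero (alg_comm (k := Residue M) (le_refl C[Q])) h0
  have hfB : IsBlk 𝕜 C[Q] f := hf
  have hif : br Q i * f ≠ 0 := by rwa [alg_commute le_rfl (suppIn_br i) hfB.fixBy]
  obtain ⟨η, hη, hηW⟩ := hW Q f ⟨hQ, hfB⟩
  obtain ⟨b, hb, hbred, hbT⟩ := exists_lift (M := M) (Q ⊔ Z[s]) hi.2.2.1 hi.1
  set K := Q ⊔ Z[s] with hK
  haveI : Fintype K := Fintype.ofFinite _
  have hΦ := isCharacter_sval χ hb hbT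
  let z : K := ⟨s, Subgroup.mem_sup_right (Subgroup.mem_zpowers s)⟩
  have hKc : K ≤ C[Z[s]] := by
    rw [hK, sup_le_iff, Subgroup.zpowers_le, mem_cz]
    exact ⟨fun q hq => mem_cz.2 (Subgroup.mem_centralizer_iff.1 hsQ q hq), rfl⟩
  have hz : ∀ y, z * y = y * z := fun y => Subtype.ext (mem_cz.1 (hKc y.2)).symm
  choose w hw hwψ using fun ψ : irrFinset K => exists_central_scalar (mem_irrFinset.1 ψ.2) hz
  let ι : Q →* K := Subgroup.inclusion le_sup_left
  have hval : ∀ u : Q, wsum W χ s i (u : G) =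
      η u * ∑ ψ : irrFinset K, classInner (fun y : K => sval χ (y : G) b) ψ.1 * (w ψ * ψ.1 (ι u)) := by
    intro u
    have h := hPE u
    have hle : Z[(u : G)] ≤ Q := Subgroup.zpowers_le.2 u.2
    obtain ⟨e, he, -⟩ := existsUnique_ple (k := Residue M) (p := p) (Q := Z[(u : G)]) ⟨hQ, hfB⟩ hle
    have hbe := br_mul_eq_of_ple hQ hScard hSQ hi ⟨hQ, hfB⟩ hif he
    have heB : e ∈ blks M (u : G) := mem_blks.2 (PLE.isPair he ⟨hQ, hfB⟩).2
    have hiT : FixBy (Z[(u : G)] ⊔ Z[s]) i := hi.1.mono (sup_le_sup_right hle _)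
    have hother : ∀ e' ∈ blks M (u : G), e' ≠ e → br Z[(u : G)] i * e' = 0 := fun e' he' hne => by
      rw [← hbe, mul_assoc, IsPrimIdem.mul_eq_zero_of_ne (alg_comm (le_refl _)) (mem_blks.1 heB)
        (mem_blks.1 he') hne.symm, mul_zero]
    rw [wsum, sum_eq_single e (fun e' he' hne => by rw [hother e' he' hne, val_zero hM χ h, mul_zero])
      (fun hn => absurd heB hn), hbe, hηW (u : G) u.2 e he]
    congr 1
    have hu' : (u : G) ∈ K := Subgroup.mem_sup_left u.2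
    rw [val_eq hM χ h hb (hbT _ hu') (hbT s (Subgroup.mem_sup_right (Subgroup.mem_zpowers s)))
      (by rw [← br_mul h.isPGroup (hiT.mono le_sup_left) (hiT.mono le_sup_left), hi.2.2.1])
      (fixBy_br hiT ((sup_le_cz h).trans (centralizer_le_normalizer _)))
      (by rw [hbred, br_br_of_le le_rfl])]
    have e1 := congrFun (eq_sum_irr (IsCharacter.isClassFunction hΦ)) (z * ι u)
    simp only [Finset.sum_apply, Pi.smul_apply, smul_eq_mul] at e1
    rw [show sval χ (s * (u : G)) b = _ from e1, ← Finset.sum_coe_sort]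
    exact sum_congr rfl fun ψ _ => by rw [hwψ ψ]
  have hfun : (fun u : Q => wsum W χ s i (u : G)) =
      ∑ ψ : irrFinset K, (classInner (fun y : K => sval χ (y : G) b) ψ.1 * w ψ) •
        (η * fun u => ψ.1 (ι u)) := by
    funext u
    rw [hval, mul_sum, Finset.sum_apply]
    exact sum_congr rfl fun ψ _ => by simp only [Pi.smul_apply, Pi.mul_apply, smul_eq_mul]; ring
  rw [hfun, classInner_sum_left]
  refine memLocalRing_sum fun ψ _ => ?_
  rw [classInner_smul_left]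
  obtain ⟨m, hm⟩ := IsCharacter.exists_classInner_eq_natCast' hΦ
    (IsIrrCharacter.isCharacter (mem_irrFinset.1 ψ.2))
  obtain ⟨m', hm'⟩ := IsGeneralized.exists_classInner_eq_int
    (IsGeneralized.mul hη (IsGeneralized.comp (IsIrrCharacter.isGeneralized (mem_irrFinset.1 ψ.2)) ι))
    (IsCharacter.isGeneralized hlam)
  rw [hm, show classInner (η * fun u => ψ.1 (ι u)) lam = (m' : ℂ) from hm']
  exact memLocalRing_mul (memLocalRing_mul (natCast_mem_localRing m)
    (memLocalRing_of_isIntegral (hw ψ))) (intCast_mem (localRing M) m')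

theorem cj_fixAlg_mem {T : Subgroup G} {g : G} (hg : ∀ t ∈ T, g⁻¹ * t * g ∈ T)
    {a : MonoidAlgebra 𝕜 G} (ha : a ∈ fixAlg 𝕜 T) : cj 𝕜 g a ∈ fixAlg 𝕜 T :=
  ⟨suppIn_top _, fun t ht => by
    rw [← cj_mul, show t * g = g * (g⁻¹ * t * g) by group, cj_mul, ha.2 _ (hg t ht)]⟩

/-- Conjugation on the fixed algebra. -/
noncomputable def cjFix (T : Subgroup G) (g : G) (h1 : ∀ t ∈ T, g⁻¹ * t * g ∈ T)
    (h2 : ∀ t ∈ T, g⁻¹⁻¹ * t * g⁻¹ ∈ T) : fixAlg 𝕜 T ≃ₐ[𝕜] fixAlg 𝕜 T :=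
  AlgEquiv.ofAlgHom
    (((cj 𝕜 g).toAlgHom.comp (fixAlg 𝕜 T).val).codRestrict _ fun a => cj_fixAlg_mem h1 a.2)
    (((cj 𝕜 g⁻¹).toAlgHom.comp (fixAlg 𝕜 T).val).codRestrict _ fun a => cj_fixAlg_mem h2 a.2)
    (AlgHom.ext fun a => Subtype.ext (cj_cj_inv g a.1))
    (AlgHom.ext fun a => Subtype.ext (cj_inv_cj g a.1))

theorem coe_cjFix_pow (T : Subgroup G) (g : G) (h1 : ∀ t ∈ T, g⁻¹ * t * g ∈ T)
    (h2 : ∀ t ∈ T, g⁻¹⁻¹ * t * g⁻¹ ∈ T) (m : ℕ) (a : fixAlg 𝕜 T) :
    (((cjFix T g h1 h2) ^ m) a : MonoidAlgebra 𝕜 G) = cj 𝕜 (g ^ m) a := by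
  induction m with
  | zero => simp
  | succ m ih =>
    rw [pow_succ', pow_succ', AlgEquiv.mul_apply, cj_mul, ← ih]
    rfl

/-- **Locally integral multiplicities.** -/
theorem memLocalRing_wsum (hM : IsPModular p M) {W : G → MonoidAlgebra 𝕜 G → ℂ}
    (hW : ∀ (Q : Subgroup G) (f : MonoidAlgebra 𝕜 G), IsPair p (Q, f) →
      ∃ η : Q → ℂ, IsGeneralizedCharacter Q η ∧
        ∀ (u : G) (hu : u ∈ Q) (e : MonoidAlgebra 𝕜 G), PLE p (Z[u], e) (Q, f) → W u e = η ⟨u, hu⟩)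
    (hWG : ∀ g u e, IsBlk 𝕜 C[Z[u]] e → W (g * u * g⁻¹) (cj 𝕜 g e) = W u e)
    (χ : IrrCharacter G) {s : G} (hs : ¬ p ∣ orderOf s) :
    ∀ (Q : Subgroup G) [Fintype Q], IsPGroup p Q → s ∈ C[Q] → ∀ i : MonoidAlgebra 𝕜 G,
      FixBy (Q ⊔ Z[s]) i → i * i = i → ∀ lam : Q → ℂ, IsCharacter Q lam →
      MemLocalRing M (classInner (fun u : Q => wsum W χ s i (u : G)) lam) := by
  intro Q
  induction hn : Nat.card Q using Nat.strong_induction_on generalizing Q with
  | _ n ih =>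
  intro _ hQ hsQ i₀ hi₀ hi₀' lam hlam
  classical
  have hSQ : Z[s] ≤ C[Q] := Subgroup.zpowers_le.2 hsQ
  have hScard : ¬ p ∣ Nat.card Z[s] := by rwa [Nat.card_zpowers]
  have hPE : ∀ {u : G}, u ∈ Q → PElt p u s := fun {u} hu => by
    obtain ⟨n, hn⟩ := hQ ⟨u, hu⟩
    exact ⟨⟨n, by simpa using congrArg Subtype.val hn⟩, hs,
      Subgroup.mem_centralizer_iff.1 hsQ u hu⟩
  -- decompose
  obtain ⟨N, j, hj, hjo, hjs⟩ := exists_decomp 𝕜 (i := (⟨i₀, suppIn_top i₀, hi₀⟩ : fixAlg 𝕜 (Q ⊔ Z[s])))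
    (Subtype.ext hi₀')
  have hprim : ∀ l, IsPrimFix (Q ⊔ Z[s]) (j l : MonoidAlgebra 𝕜 G) := fun l =>
    isPrimFix_of_isPrim (hj l).1
  have hsum : (fun u : Q => wsum W χ s i₀ (u : G)) =
      ∑ l, fun u : Q => wsum W χ s (j l : MonoidAlgebra 𝕜 G) (u : G) := by
    funext u
    rw [Finset.sum_apply]
    conv_lhs => rw [show i₀ = ((∑ l, j l : fixAlg 𝕜 (Q ⊔ Z[s])) : MonoidAlgebra 𝕜 G) by rw [hjs],
      AddSubmonoidClass.coe_finsetSum]
    exact wsum_sum hM W χ (hPE u.2) univ _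
      (fun l _ => (j l).2.2.mono (sup_le_sup_right (Subgroup.zpowers_le.2 u.2) _))
      (fun l _ => (hprim l).2.2.1) (fun l _ m _ hne => congrArg Subtype.val (hjo l m hne))
  rw [hsum, classInner_sum_left]
  refine memLocalRing_sum fun l _ => ?_
  obtain ⟨i, hi⟩ : ∃ i, i = (j l : MonoidAlgebra 𝕜 G) := ⟨_, rfl⟩
  have hip : IsPrimFix (Q ⊔ Z[s]) i := hi ▸ hprim l
  rw [← hi]
  by_cases h0 : br Q i = 0
  swap
  · exact memLocalRing_wsum_surv hM hW χ hs hQ hsQ hip h0 hlam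
  obtain ⟨X, d, hXQ, hXn, hXp, hd, hid, hdi, htr⟩ :=
    exists_eq_tr_of_br_eq_zero hQ hScard hSQ hip h0
  have hp := (Fact.out : p.Prime)
  obtain ⟨g, hgQ, hgX⟩ : ∃ g ∈ Q, g ∉ X := by
    by_contra hno
    simp only [not_exists, not_and, not_not] at hno
    rw [Subgroup.relIndex_eq_one.2 hno] at hXp
    exact hp.one_lt.ne hXp
  haveI : Fintype X := Fintype.ofFinite _
  have hXp' : IsPGroup p X := hQ.to_le hXQ
  have hiQ : FixBy Q i := hip.1.mono le_sup_left
  have hzero : ∀ u ∈ Q, u ∉ X → wsum W χ s i u = 0 := by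
    intro u hu huX
    have hbr : br Z[u] i = 0 := by
      by_contra hne
      rw [← htr] at hne
      obtain ⟨x, hxQ, hx⟩ := exists_conj_le_of_br_tr_ne_zero (hPE hu).isPGroup
        (Subgroup.zpowers_le.2 hu) (hd.mono le_sup_left) hne
      have h2 : x * u * x⁻¹ ∈ X := hx ⟨u, Subgroup.mem_zpowers u, rfl⟩
      exact huX ((Subgroup.mem_normalizer_iff.1 (hXn hxQ) u).2 h2)
    exact sum_eq_zero fun e _ => by rw [hbr, zero_mul, val_zero hM χ (hPE hu), mul_zero]
  -- the algebra of `X`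
  set T := X ⊔ Z[s] with hT
  have hgs : ∀ y ∈ Q, y⁻¹ * s * y = s := fun y hy => by
    rw [mul_assoc, ← Subgroup.mem_centralizer_iff.1 hsQ y hy, inv_mul_cancel_left]
  have hTg : ∀ y ∈ Q, ∀ t ∈ T, y⁻¹ * t * y ∈ T := by
    intro y hy t ht
    have : T ≤ T.comap (MulAut.conj y⁻¹).toMonoidHom := by
      rw [hT, sup_le_iff, Subgroup.zpowers_le]
      refine ⟨fun x hx => ?_, ?_⟩
      · show y⁻¹ * x * y⁻¹⁻¹ ∈ X ⊔ Z[s]
        exact Subgroup.mem_sup_left
          ((Subgroup.mem_normalizer_iff.1 (hXn (Q.inv_mem hy)) x).1 hx)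
      · show y⁻¹ * s * y⁻¹⁻¹ ∈ X ⊔ Z[s]
        rw [inv_inv, hgs y hy]
        exact Subgroup.mem_sup_right (Subgroup.mem_zpowers s)
    simpa using this ht
  set σ := cjFix (M := M) T g (hTg g hgQ) (hTg g⁻¹ (Q.inv_mem hgQ))
  have hiT : FixBy T i := hip.1.mono (sup_le_sup_right hXQ _)
  set I : fixAlg 𝕜 T := ⟨i, suppIn_top i, hiT⟩
  set D : fixAlg 𝕜 T := ⟨d, suppIn_top d, hd⟩
  have hgp : g ^ p ∈ X := by
    haveI : (X.subgroupOf Q).Normal := (Subgroup.normal_subgroupOf_iff_le_normalizer hXQ).2 hXn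
    have h := Subgroup.pow_index_mem (X.subgroupOf Q) (⟨g, hgQ⟩ : Q)
    rw [show (X.subgroupOf Q).index = p from hXp] at h
    exact h
  obtain ⟨N', j', hj', hjo', hjs'⟩ := exists_decomp 𝕜 (i := I) (Subtype.ext hip.2.2.1)
  have hXQc : ∀ u : X, (u : G) ∈ Q := fun u => hXQ u.2
  let lamX : X → ℂ := fun u => lam ⟨u, hXQc u⟩
  have hlamX : IsCharacter X lamX := by
    obtain ⟨n, ρ, hρ⟩ := hlam
    refine ⟨n, ρ.comp (Subgroup.inclusion hXQ), funext fun u => ?_⟩
    show _ = lam ⟨u, hXQc u⟩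
    rw [← congrFun hρ ⟨u, hXQc u⟩]
    rfl
  let F : fixAlg 𝕜 T → ℂ := fun e =>
    classInner (fun u : X => wsum W χ s (e : MonoidAlgebra 𝕜 G) (u : G)) lamX
  have hTu : ∀ u : X, Z[(u : G)] ⊔ Z[s] ≤ T := fun u =>
    sup_le_sup_right (Subgroup.zpowers_le.2 u.2) _
  have hsd : ∑ m ∈ range p, (σ ^ m) D = I := by
    refine Subtype.ext ?_
    rw [AddSubmonoidClass.coe_finsetSum]
    simp only [σ, coe_cjFix_pow]
    rw [← tr_eq_sum_pow hXn hXQ hXp hgQ hgX (hd.mono le_sup_left)]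
    exact htr
  obtain ⟨c, hc⟩ := exists_orbit_multiple (k := Residue M) hp (i := I) (d := D) σ
    (Subtype.ext (hiQ g hgQ))
    (fun a => Subtype.ext (by
      rw [coe_cjFix_pow]; exact a.2.2 _ (Subgroup.mem_sup_left hgp)))
    hsd j' hj' hjo' hjs' F
    (fun e e' he he' _ _ _ _ hL => by
      obtain ⟨a, b, h1, h2, h3, h4, h5, h6⟩ := hL
      refine congrArg (fun f => classInner f lamX) (funext fun u => ?_)
      exact wsum_link hM W χ (hPE (hXQc u)) (e.2.2.mono (hTu u)) (congrArg Subtype.val he.2.1)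
        (e'.2.2.mono (hTu u)) (congrArg Subtype.val he'.2.1) (a.2.2.mono (hTu u)) (b.2.2.mono (hTu u))
        (congrArg Subtype.val h1) (congrArg Subtype.val h2) (congrArg Subtype.val h3)
        (congrArg Subtype.val h4) (congrArg Subtype.val h5) (congrArg Subtype.val h6))
    (fun e he _ _ => by
      show classInner _ lamX = classInner _ lamX
      simp only [CfsgLib.Char.classInner_def]
      congr 1
      let E : X ≃ X :=
        { toFun := fun u => ⟨g * u * g⁻¹, (Subgroup.mem_normalizer_iff.1 (hXn hgQ) u).1 u.2⟩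
          invFun := fun u => ⟨g⁻¹ * u * g, by
            simpa using (Subgroup.mem_normalizer_iff.1 (hXn (Q.inv_mem hgQ)) u).1 u.2⟩
          left_inv := fun u => Subtype.ext (by simp [mul_assoc])
          right_inv := fun u => Subtype.ext (by simp [mul_assoc]) }
      rw [← Equiv.sum_comp E]
      refine sum_congr rfl fun u _ => ?_
      congr 1
      · exact wsum_cj hM W hWG χ (hPE (hXQc u))
          (by rw [Subgroup.mem_centralizer_iff.1 hsQ g hgQ, mul_inv_cancel_right])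
          (e.2.2.mono (hTu u)) (congrArg Subtype.val he.2.1)
      · refine congrArg conj ?_
        exact IsCharacter.isClassFunction hlam ⟨u, hXQc u⟩ ⟨g, hgQ⟩)
  have hrest : classInner (fun u : Q => wsum W χ s i (u : G)) lam =
      (p : ℂ)⁻¹ * classInner (fun u : X => wsum W χ s i (u : G)) lamX := by
    simp only [CfsgLib.Char.classInner_def, ← mul_assoc, ← mul_inv]
    rw [show (p : ℂ) * (Nat.card X : ℂ) = (Nat.card Q : ℂ) by
      rw [← Nat.cast_mul, ← hXp, Subgroup.relIndex, mul_comm,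
        ← Nat.card_congr (Subgroup.subgroupOfEquivOfLe hXQ).toEquiv, Subgroup.card_mul_index]]
    congr 1
    rw [← sum_filter_of_ne (s := univ) (p := fun u : Q => (u : G) ∈ X) fun u _ hne => by
      by_contra hu
      exact hne (by rw [hzero u u.2 hu, zero_mul])]
    refine sum_nbij' (fun u => if h : (u : G) ∈ X then ⟨u, h⟩ else 1)
      (fun u => ⟨u, hXQc u⟩) (fun u _ => mem_univ _) (fun u _ => mem_filter.2 ⟨mem_univ _, u.2⟩)
      (fun u hu => by simp [(mem_filter.1 hu).2]) (fun u _ => by simp) fun u hu => ?_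
    rw [dif_pos (mem_filter.1 hu).2]
  have hFsum : classInner (fun u : X => wsum W χ s i (u : G)) lamX = ∑ l, F (j' l) := by
    rw [show (fun u : X => wsum W χ s i (u : G)) =
        ∑ l, fun u : X => wsum W χ s (j' l : MonoidAlgebra 𝕜 G) (u : G) from ?_, classInner_sum_left]
    funext u
    rw [Finset.sum_apply]
    conv_lhs => rw [show i = ((∑ l, j' l : fixAlg 𝕜 T) : MonoidAlgebra 𝕜 G) by rw [hjs'],
      AddSubmonoidClass.coe_finsetSum]
    exact wsum_sum hM W χ (hPE (hXQc u)) univ _ (fun l _ => (j' l).2.2.mono (hTu u))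
      (fun l _ => congrArg Subtype.val (hj' l).1.2.1) (fun l _ m _ hne => congrArg Subtype.val (hjo' l m hne))
  rw [hrest, hFsum, hc, inv_mul_cancel_left₀ (Nat.cast_ne_zero.2 hp.ne_zero)]
  refine memLocalRing_sum fun l _ => memLocalRing_mul (natCast_mem_localRing _) ?_
  have hlt : Nat.card X < n := by
    rw [← hn]
    have := Subgroup.card_le_of_le hXQ
    refine lt_of_le_of_ne this fun e => hgX ?_
    rwa [Subgroup.eq_of_le_of_card_ge hXQ e.ge]
  exact ih _ hlt X rfl hXp' (Subgroup.centralizer_le (SetLike.coe_subset_coe.2 hXQ) hsQ) _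
    (j' l).2.2 (congrArg Subtype.val (hj' l).1.2.1) lamX hlamX

end CfsgLib.BlockStar
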