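import Cfsg.Agent.BlocksB.Star.Lift
import Cfsg.Agent.Blocks.Section

/-!
# Character values at idempotents of the group algebra over the local ring

For an idempotent `b` commuting with a `p`-element `u` and an element `s` of order prime to `p`
commuting with `u`, the value `χ (b * u * s)` depends only on the reduction of the truncation of
`b` to the centralizer of `u`.
-/

set_option autoImplicit false
set_option linter.style.haveILetI false
set_option linter.unusedSectionVars false

namespace CfsgLib.BlockStar

open Cfsg CfsgLib.Block CfsgLib.Block.Chr CfsgLib.Block.PermTrace CfsgLib.BrauerPairs CfsgLib.Char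
open scoped ComplexConjugate

universe u

variable {M : Ideal AlgInt} [M.IsPrime] {p : ℕ} {G : Type u} [Group G]

/-- Commutation with a group element is invariance of the coefficients. -/
theorem commute_single_iff {R : Type*} [CommSemiring R] (z : G) (a : MonoidAlgebra R G) :
    Commute (MonoidAlgebra.single z (1 : R)) a ↔ ∀ g, a.coeff (z * g * z⁻¹) = a.coeff g := by
  constructor
  · intro h g
    have h1 := congrArg (fun c => c.coeff (z * g)) h.eq
    simp only [MonoidAlgebra.coeff_single_mul_apply, MonoidAlgebra.coeff_mul_single_apply, one_mul,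
      mul_one, inv_mul_cancel_left] at h1
    exact h1.symm
  · intro h
    refine MonoidAlgebra.coeff_injective (Finsupp.ext fun g => ?_)
    simp only [MonoidAlgebra.coeff_single_mul_apply, MonoidAlgebra.coeff_mul_single_apply, one_mul,
      mul_one]
    rw [← h (z⁻¹ * g)]
    congr 1
    group

theorem fixBy_iff_commute {k : Type*} [Field k] [Fintype G] {T : Subgroup G}
    {a : MonoidAlgebra k G} :
    FixBy T a ↔ ∀ t ∈ T, Commute (MonoidAlgebra.single t (1 : k)) a := by
  refine ⟨fun h t ht => (commute_single_iff t a).2 (h.coeff_eq' ht), fun h => fixBy_of_coeff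
    fun t ht g => ?_⟩
  have := (commute_single_iff t a).1 (h t ht) (t⁻¹ * g * t)
  rw [show t * (t⁻¹ * g * t) * t⁻¹ = g by group] at this
  exact this.symm

theorem redA_single (z : G) : redA (MonoidAlgebra.single z (1 : localRing M)) =
    MonoidAlgebra.single z (1 : Residue M) := by
  classical
  refine MonoidAlgebra.coeff_injective (Finsupp.ext fun g => ?_)
  rw [coeff_redA, MonoidAlgebra.coeff_single_apply, MonoidAlgebra.coeff_single_apply]
  split_ifs <;> simp

variable [Fintype G]

theorem coeff_mul' {R : Type*} [CommRing R] (a b : MonoidAlgebra R G) (g : G) :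
    (a * b).coeff g = ∑ x : G, a.coeff x * b.coeff (x⁻¹ * g) := by
  rw [MonoidAlgebra.coeff_mul_apply_left]
  refine (Finsupp.sum_fintype _ _ fun x => by simp).trans ?_
  simp

/-- A lift with the same support and invariance. -/
theorem exists_liftA (T : Subgroup G) {ε : MonoidAlgebra (Residue M) G} (hT : FixBy T ε) :
    ∃ a : LA M G, redA a = ε ∧ ∀ t ∈ T, Commute (MonoidAlgebra.single t (1 : localRing M)) a := by
  classical
  choose L hL using (Ideal.Quotient.mk_surjective : Function.Surjective (res M))
  refine ⟨MonoidAlgebra.ofCoeff (Finsupp.equivFunOnFinite.symm fun g => L (ε.coeff g)), ?_, ?_⟩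
  · refine MonoidAlgebra.coeff_injective (Finsupp.ext fun g => ?_)
    rw [coeff_redA]
    exact hL _
  · intro t ht
    refine (commute_single_iff t _).2 fun g => ?_
    exact congrArg L (hT.coeff_eq' ht g)

/-- Idempotents lift inside any centralizer. -/
theorem exists_lift (T : Subgroup G) {ε : MonoidAlgebra (Residue M) G} (hε : ε * ε = ε)
    (hT : FixBy T ε) :
    ∃ b : LA M G, b * b = b ∧ redA b = ε ∧
      ∀ t ∈ T, Commute (MonoidAlgebra.single t (1 : localRing M)) b := by
  obtain ⟨a, ha, haT⟩ := exists_liftA T hT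
  obtain ⟨w, hw, hid, hred⟩ := exists_idem_mul (a := a) (by rw [ha, hε])
  exact ⟨a * w, hid, hred.trans ha, fun t ht => (haT t ht).mul_right (hw _ (haT t ht))⟩

/-- Orthogonal lifting. -/
theorem exists_lift_orth (T : Subgroup G) {b₁ : LA M G} (hb : b₁ * b₁ = b₁)
    (hbT : ∀ t ∈ T, Commute (MonoidAlgebra.single t (1 : localRing M)) b₁)
    {ε : MonoidAlgebra (Residue M) G} (hε : ε * ε = ε) (hT : FixBy T ε)
    (h1 : redA b₁ * ε = 0) (h2 : ε * redA b₁ = 0) :
    ∃ b : LA M G, b * b = b ∧ redA b = ε ∧
      (∀ t ∈ T, Commute (MonoidAlgebra.single t (1 : localRing M)) b) ∧ b₁ * b = 0 ∧ b * b₁ = 0 := by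
  obtain ⟨a0, ha0, ha0T⟩ := exists_liftA T hT
  set a := (1 - b₁) * a0 * (1 - b₁) with ha'
  have ha : redA a = ε := by
    rw [ha', map_mul, map_mul, map_sub, map_one, ha0, sub_mul, one_mul, h1, sub_zero, mul_sub,
      mul_one, h2, sub_zero]
  have hl : b₁ * a = 0 := by
    rw [ha', ← mul_assoc, ← mul_assoc,
      show b₁ * (1 - b₁) = 0 by rw [mul_sub, mul_one, hb, sub_self], zero_mul, zero_mul]
  have hr : a * b₁ = 0 := by
    rw [ha', mul_assoc, show (1 - b₁) * b₁ = 0 by rw [sub_mul, one_mul, hb, sub_self], mul_zero]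
  obtain ⟨w, hw, hid, hred⟩ := exists_idem_mul (a := a) (by rw [ha, hε])
  have haT : ∀ t ∈ T, Commute (MonoidAlgebra.single t (1 : localRing M)) a := fun t ht =>
    (((Commute.one_right _).sub_right (hbT t ht)).mul_right (ha0T t ht)).mul_right
      ((Commute.one_right _).sub_right (hbT t ht))
  refine ⟨a * w, hid, hred.trans ha, fun t ht => (haT t ht).mul_right (hw _ (haT t ht)), ?_, ?_⟩
  · rw [← mul_assoc, hl, zero_mul]
  · rw [mul_assoc, ← (hw b₁ (hl.trans hr.symm)).eq, ← mul_assoc, hr, zero_mul]

omit [Fintype G] in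
theorem suppIn_of_map {H : Subgroup G} (a : LA M H) {g : G} (hg : g ∉ H) :
    (MonoidAlgebra.mapDomainAlgHom (localRing M) (localRing M) H.subtype a).coeff g = 0 := by
  simp only [MonoidAlgebra.mapDomainAlgHom_apply, MonoidAlgebra.coeff_mapDomain]
  exact Finsupp.mapDomain_of_notMem_range _ _ (fun ⟨h, e⟩ => hg (e ▸ h.2))

/-- Idempotents supported in a subgroup lift with the same support. -/
theorem exists_lift_in {T H : Subgroup G} (hTH : T ≤ H) {ε : MonoidAlgebra (Residue M) G}
    (hε : ε * ε = ε) (hT : FixBy T ε) (hH : SuppIn H ε) :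
    ∃ b : LA M G, b * b = b ∧ redA b = ε ∧
      (∀ t ∈ T, Commute (MonoidAlgebra.single t (1 : localRing M)) b) ∧
      ∀ g, g ∉ H → b.coeff g = 0 := by
  classical
  haveI := Fintype.ofFinite H
  have hid : restr H ε * restr H ε = restr H ε := emb_injective H (by
    rw [map_mul, emb_restr H hH, hε])
  obtain ⟨b, hb, hbred, hbT⟩ := exists_lift (T.subgroupOf H) hid (fixBy_of_coeff fun t ht g => by
    simp only [restr, coeff_ofFun, Subgroup.coe_mul, Subgroup.coe_inv]
    exact hT.coeff_eq ht _)
  set φ := MonoidAlgebra.mapDomainAlgHom (localRing M) (localRing M) H.subtype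
  refine ⟨φ b, by rw [← map_mul, hb], ?_, fun t ht => ?_, fun g hg => suppIn_of_map b hg⟩
  · rw [← emb_restr H hH, ← hbred]
    refine MonoidAlgebra.coeff_injective (Finsupp.ext fun g => ?_)
    by_cases hg : g ∈ H
    · rw [coeff_redA, show g = ((⟨g, hg⟩ : H) : G) from rfl, coeff_emb_coe, coeff_redA]
      refine congrArg (res M) ?_
      simp only [φ, MonoidAlgebra.mapDomainAlgHom_apply, MonoidAlgebra.coeff_mapDomain]
      exact Finsupp.mapDomain_apply Subtype.coe_injective _ (⟨g, hg⟩ : H)
    · rw [coeff_redA, coeff_emb_not_mem H _ hg, suppIn_of_map b hg, map_zero]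
  · have h := (hbT ⟨t, hTH ht⟩ ht).map φ
    simpa [φ, MonoidAlgebra.mapDomainAlgHom_apply, MonoidAlgebra.mapDomain_single] using h

/-- The value of `χ` at `a * z`. -/
noncomputable def sval (χ : IrrCharacter G) (z : G) (a : LA M G) : ℂ :=
  ∑ g : G, (a.coeff g : ℂ) * (χ : G → ℂ) (g * z)

theorem sval_add (χ : IrrCharacter G) (z : G) (a b : LA M G) :
    sval χ z (a + b) = sval χ z a + sval χ z b := by
  simp [sval, add_mul, Finset.sum_add_distrib]

theorem sval_sub (χ : IrrCharacter G) (z : G) (a b : LA M G) :
    sval χ z (a - b) = sval χ z a - sval χ z b := by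
  simp [sval, sub_mul, Finset.sum_sub_distrib]

theorem sval_zero (χ : IrrCharacter G) (z : G) : sval χ z (0 : LA M G) = 0 := by simp [sval]

/-- The trace property. -/
theorem sval_mul_comm (χ : IrrCharacter G) (z : G) {x y : LA M G}
    (hy : Commute (MonoidAlgebra.single z (1 : localRing M)) y) :
    sval χ z (x * y) = sval χ z (y * x) := by
  classical
  have hy' := (commute_single_iff z y).1 hy
  have hcl := isClassFunction_irr χ
  simp only [sval, coeff_mul']
  push_cast
  simp only [Finset.sum_mul]
  rw [Finset.sum_comm]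
  conv_rhs => rw [Finset.sum_comm]
  have e1 : ∀ (x y : LA M G), ∑ a : G, ∑ g : G,
      (x.coeff a : ℂ) * (y.coeff (a⁻¹ * g) : ℂ) * (χ : G → ℂ) (g * z) =
      ∑ a : G, ∑ c : G, (x.coeff a : ℂ) * (y.coeff c : ℂ) * (χ : G → ℂ) (a * c * z) := fun x y =>
    Finset.sum_congr rfl fun a _ => Fintype.sum_equiv (Equiv.mulLeft a⁻¹) _ _ fun g => by simp
  rw [e1, e1]
  rw [Finset.sum_comm]
  refine Fintype.sum_equiv (MulAut.conj z⁻¹).toEquiv _ _ fun c => Finset.sum_congr rfl fun a _ => ?_
  show _ = (y.coeff (z⁻¹ * c * z⁻¹⁻¹) : ℂ) * _ * (χ : G → ℂ) (z⁻¹ * c * z⁻¹⁻¹ * a * z)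
  rw [inv_inv, ← hy' (z⁻¹ * c * z), mul_comm (x.coeff a : ℂ)]
  rw [show z * (z⁻¹ * c * z) * z⁻¹ = c by group]
  congr 1
  rw [show z⁻¹ * c * z * a * z = z⁻¹ * (c * (z * a)) * z by group,
    show (χ : G → ℂ) (z⁻¹ * (c * (z * a)) * z) = (χ : G → ℂ) (c * (z * a)) by
      simpa using hcl (c * (z * a)) z⁻¹,
    classFun_mul_comm hcl (a * c) z, classFun_mul_comm hcl c (z * a)]
  simp [mul_assoc]

theorem blockCoeff_univ : blockCoeff (Set.univ : Set (IrrCharacter G)) = deltaOne := by
  classical
  letI := irrFintype (G := G)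
  funext g
  rw [blockCoeff_eq_sum]
  have h := column_orth (G := G) 1 g
  simp only [Set.mem_univ, Finset.filter_true]
  rw [h]
  by_cases hg : g = 1
  · subst hg
    rw [if_pos (IsConj.refl _), deltaOne_one,
      show Subgroup.centralizer ({1} : Set G) = ⊤ from eq_top_iff.2 fun w _ =>
        Subgroup.mem_centralizer_singleton_iff.2 (by simp), Subgroup.card_top, inv_mul_cancel₀]
    exact Nat.cast_ne_zero.2 Nat.card_pos.ne'
  · rw [if_neg fun h => hg (isConj_one_right.1 h), deltaOne_of_ne hg, mul_zero]

/-- **The value at an idempotent depends only on its truncated reduction.** -/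
theorem sval_congr (hM : IsPModular p M) (χ : IrrCharacter G) {x s : G} {k : ℕ}
    (hx : x ^ p ^ k = 1) {m : ℕ} (hm : ¬ p ∣ m) (hs : s ^ m = 1) (hxs : Commute x s)
    {a b : LA M G} (ha : a * a = a) (hb : b * b = b)
    (hax : Commute (MonoidAlgebra.single x (1 : localRing M)) a)
    (has : Commute (MonoidAlgebra.single s (1 : localRing M)) a)
    (hbx : Commute (MonoidAlgebra.single x (1 : localRing M)) b)
    (hbs : Commute (MonoidAlgebra.single s (1 : localRing M)) b)
    (hred : ∀ g ∈ Subgroup.centralizer ({x} : Set G), res M (a.coeff g) = res M (b.coeff g))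
    (hbC : ∀ g, g ∉ Subgroup.centralizer ({x} : Set G) → b.coeff g = 0) :
    sval χ (s * x) a = sval χ (s * x) b := by
  classical
  letI := irrFintype (G := G)
  haveI : CharP (Residue M) p := charP_residue hM
  have hB : IsIntClass M (blockCoeff (Set.univ : Set (IrrCharacter G))) := by
    rw [blockCoeff_univ]; exact isIntClass_deltaOne
  have hconv : ∀ c : LA M G, c * c = c →
      conv (fun g => (c.coeff g : ℂ)) (fun g => (c.coeff g : ℂ)) = fun g => (c.coeff g : ℂ) := by
    intro c hc
    funext g
    conv_rhs => rw [← hc, coeff_mul']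
    push_cast
    rfl
  have hdelta : ∀ c : G → ℂ, conv c (deltaOne : G → ℂ) = c := by
    intro c
    funext g
    rw [conv, Finset.sum_eq_single g]
    · simp [deltaOne_one]
    · intro h _ hne
      rw [deltaOne_of_ne fun e => hne (inv_mul_eq_one.1 e), mul_zero]
    · simp
  have key : ∀ h : G, ∑ ξ : IrrCharacter G,
      (sval ξ (s * x) a - sval ξ (s * x) b) * (ξ : G → ℂ) h = 0 := by
    intro h
    obtain ⟨y', t, hyt, hc, ⟨l, hl⟩, ⟨r, hr, htr⟩, -, -, -, -, -⟩ := exists_pPart hM.1 h
    set y := y'⁻¹ with hy
    have hyc : Commute y t := hc.inv_left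
    set F : Matrix G G (localRing M) :=
      block (biPerm x y) (lmat (fun g => b.coeff g) * pmat (localRing M) s t) with hF
    set A := lmat (fun g => b.coeff g) * pmat (localRing M) s t with hA
    have hfix : ∀ i z : G, A i z ≠ 0 → (x * i * y⁻¹ = i ↔ x * z * y⁻¹ = z) := by
      intro i z hne
      rw [hA, lmat_mul_pmat_apply] at hne
      have hw : i * (s * z * t)⁻¹ ∈ Subgroup.centralizer ({x} : Set G) :=
        Classical.byContradiction fun hh => hne (hbC _ hh)
      rw [Subgroup.mem_centralizer_singleton_iff] at hw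
      have e : x * i * y⁻¹ = i * (s * z * t)⁻¹ * (s * (x * z * y⁻¹) * t) := by
        calc x * i * y⁻¹ = x * (i * (s * z * t)⁻¹) * (s * z * (t * y⁻¹)) := by group
          _ = i * (s * z * t)⁻¹ * x * (s * z * (y⁻¹ * t)) := by rw [hw, hyc.inv_left.eq]
          _ = i * (s * z * t)⁻¹ * ((x * s) * z * y⁻¹ * t) := by simp only [mul_assoc]
          _ = _ := by rw [hxs.eq]; simp only [mul_assoc]
      constructor
      · intro hi
        rw [hi] at e
        have e2 : s * (x * z * y⁻¹) * t = s * z * t := by
          have := congrArg (fun w => (i * (s * z * t)⁻¹)⁻¹ * w) e.symm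
          simpa [mul_assoc] using this
        exact mul_left_cancel (mul_right_cancel e2)
      · intro hz
        rw [e, hz]; group
    have hAJ : A * fixProj (localRing M) (biPerm x y) = fixProj (localRing M) (biPerm x y) * A := by
      refine Matrix.ext fun i z => ?_
      rw [mul_fixProj_apply, fixProj_mul_apply]
      by_cases hne : A i z = 0
      · simp [hne]
      · exact if_congr (hfix i z hne).symm rfl rfl
    have hFA : F = fixProj (localRing M) (biPerm x y) * A := by
      rw [hF, block, Matrix.mul_assoc, hAJ, ← Matrix.mul_assoc, fixProj_mul_self]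
    have hidem : lmat (fun g => b.coeff g) * lmat (fun g => b.coeff g) =
        lmat (fun g => b.coeff g) := by
      rw [lmat_mul_lmat]
      congr 1
      funext g
      conv_rhs => rw [← hb, coeff_mul']
    have hAm : A ^ (m * r + 1) = A := op_pow hidem ((commute_single_iff s b).1 hbs)
      (by rw [pow_mul, hs, one_pow]) (by rw [mul_comm, pow_mul, htr, one_pow])
    have hblock : block (biPerm x y) F = F := by
      rw [hFA, block, ← Matrix.mul_assoc, fixProj_mul_self, Matrix.mul_assoc, hAJ,
        ← Matrix.mul_assoc, fixProj_mul_self]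
    have hFm : F ^ (m * r + 1) = F := by
      rw [hFA, (show Commute (fixProj (localRing M) (biPerm x y)) A from hAJ.symm).mul_pow, hAm,
        ]
      congr 1
      exact IsIdempotentElem.pow_succ_eq _ (fixProj_mul_self _)
    have happ : ∀ c : LA M G, c * c = c →
        Commute (MonoidAlgebra.single x (1 : localRing M)) c →
        Commute (MonoidAlgebra.single s (1 : localRing M)) c →
        (∀ g ∈ Subgroup.centralizer ({x} : Set G), res M (c.coeff g) = res M (b.coeff g)) →
        ∑ ξ : IrrCharacter G, sval ξ (s * x) c * (ξ : G → ℂ) h = (F.trace : ℂ) := by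
      intro c hcc hcx hcs hcred
      have hsum := charSum_eq_trace hM (B := (Set.univ : Set (IrrCharacter G))) hB
        (b := fun g => (c.coeff g : ℂ)) (fun g => (c.coeff g).2) (hconv c hcc) (x := x) (y := y)
        (s := s) (t := t) (fun g => congrArg _ ((commute_single_iff x c).1 hcx g))
        (fun g => congrArg _ ((commute_single_iff s c).1 hcs g)) hxs hyc (n := k + l)
        (by rw [pow_add, pow_mul, hx, one_pow])
        (by rw [hy, inv_pow, pow_add, mul_comm, pow_mul, hl, one_pow, inv_one])
        (m := m * r) (fun hd => (hM.1.dvd_mul.1 hd).elim hm hr) (by rw [pow_mul, hs, one_pow])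
        (by rw [mul_comm, pow_mul, htr, one_pow]) hblock hFm (fun i z hi hz => by
          rw [blockCoeff_univ, hdelta]
          have hFiz : F i z = b.coeff (i * (s * z * t)⁻¹) := by
            rw [hFA, fixProj_mul_apply, hA, lmat_mul_pmat_apply]
            simp [fixVec, hi]
          rw [hFiz]
          refine res_eq_iff.1 (hcred _ ?_)
          rw [Subgroup.mem_centralizer_singleton_iff]
          have h1 : x * i = i * y := by
            calc x * i = x * i * y⁻¹ * y := by group
              _ = i * y := by rw [hi]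
          have h2 : x * (s * z * t) = s * z * t * y := by
            calc x * (s * z * t) = (x * s) * z * t := by group
              _ = s * (x * z * y⁻¹) * (y * t) := by rw [hxs.eq]; group
              _ = s * z * t * y := by rw [hz, hyc.eq]; group
          symm
          calc x * (i * (s * z * t)⁻¹) = i * y * (s * z * t)⁻¹ := by rw [← mul_assoc, h1]
            _ = i * (s * z * t)⁻¹ * ((s * z * t) * y * (s * z * t)⁻¹) := by group
            _ = i * (s * z * t)⁻¹ * x := by rw [← h2]; group)
      rw [← hsum, Finset.sum_congr (show Finset.univ.filter (· ∈ (Set.univ : Set (IrrCharacter G))) =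
        Finset.univ by simp) fun _ _ => rfl]
      refine Finset.sum_congr rfl fun ξ _ => ?_
      rw [hy, inv_inv, hyt]
      rfl
    simp only [sub_mul, Finset.sum_sub_distrib]
    rw [happ a ha hax has hred, happ b hb hbx hbs fun g _ => rfl, sub_self]
  have h := congrArg (fun f => classInner f (χ : G → ℂ))
    (show (∑ ξ : IrrCharacter G, (sval ξ (s * x) a - sval ξ (s * x) b) • (ξ : G → ℂ)) = 0 from
      funext fun h => by simpa [Finset.sum_apply] using key h)
  simp only [classInner_sum_left, classInner_smul_left, classInner_irr, mul_ite, mul_one, mul_zero,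
    Finset.sum_ite_eq', Finset.mem_univ, if_true] at h
  rw [show classInner (0 : G → ℂ) (χ : G → ℂ) = 0 by simp [CfsgLib.Char.classInner_def],
    sub_eq_zero] at h
  exact h

end CfsgLib.BlockStar
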